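import Mathlib
import Cfsg.Agent.H261.Reduction
import Cfsg.Agent.SignalizersComponents.CoprimeGen
import Cfsg.Prelude.Def_Transfer
import Cfsg.Agent.S0144
import Cfsg.Agent.H343.Elim6
import Cfsg.Agent.H128.Val3
import Cfsg.Agent.OddHalf.Quat.NoThreeSpor.J1
import Cfsg.Agent.S0813
import Cfsg.Agent.S0265
import Cfsg.Agent.S0814
import Cfsg.Agent.S0815
import Cfsg.Agent.S0817
import Cfsg.Agent.StandardComponent.AltAut
import Cfsg.Agent.FastGrp
import Cfsg.Agent.Prune
set_option linter.all false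

section
prune_inst 0x7ff1fef8bfb875dfffff7e7ffefddffdd9fcffffffdff97bffe0ebff8fdf4b062bc5fbaf6fe0d8ff4ef6e0b410f87b53f9ffcabfeb6bdc7ffffd5ff45ffbff9fffffbd8951f4983e0f7c6ffefbf17fce7f3fffffffffdfffffffffffffffffbeffffffffffff

-- part: H351/OE/Ext
section
prune_inst 0xe010100058a2000000000010000022403000000000680000f1400702030e9d4280000900c0000a101020a200000000000354004000000000000000004004000000224200b248010801001000a003180c00000000020000000000000000041000000000000
set_option linter.all false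
open scoped Cfsg.Agent.FastGrp

/-!
# S3372: an extraspecial group of order `3^5` and an involution acting on it

* `Ex Q z` : `Q` is extraspecial of order `3 ^ 5`, exponent three, centre `⟨z⟩`.
* `Tt Q z t` : the involution `t` normalises `Q` and centralises `z`.
* `two Q t = C_Q(t)`, `one Q t = C_Q(two Q t)` (the preimage of `[Q/Z, t]`).
-/

set_option autoImplicit false
set_option linter.unusedSectionVars false

namespace Cfsg.Agent.H351.OE

open Subgroup
open scoped commutatorElement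

variable {G : Type*} [Group G]

/-- `Q` is extraspecial of order `3 ^ 5` and exponent three with centre `⟨z⟩` -/
structure Ex (Q : Subgroup G) (z : G) : Prop where
  z1 : z ≠ 1
  zz : z ^ 3 = 1
  zQ : z ∈ Q
  card : Nat.card Q = 3 ^ 5
  exp : ∀ a ∈ Q, a ^ 3 = 1
  zc : ∀ a ∈ Q, a * z = z * a
  comm : ∀ a ∈ Q, ∀ b ∈ Q, ⁅a, b⁆ ∈ zpowers z
  cen : ∀ a ∈ Q, (∀ b ∈ Q, a * b = b * a) → a ∈ zpowers z

namespace Ex

variable {Q : Subgroup G} {z : G} (h : Ex Q z)

include h

theorem zle : zpowers z ≤ Q := by rw [zpowers_le]; exact h.zQ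

theorem order : orderOf z = 3 := orderOf_eq_prime h.zz h.z1

theorem card_z : Nat.card (zpowers z) = 3 := by rw [Nat.card_zpowers, h.order]

theorem comm_z {a c : G} (ha : a ∈ Q) (hc : c ∈ zpowers z) : a * c = c * a := by
  obtain ⟨i, rfl⟩ := hc
  have h1 : Commute a z := h.zc a ha
  exact (h1.zpow_right i).eq

theorem finite : Finite Q := Nat.finite_of_card_ne_zero (by rw [h.card]; norm_num)

theorem comm_mul {a b c : G} (ha : a ∈ Q) (hb : b ∈ Q) (hc : c ∈ Q) : ⁅a * b, c⁆ = ⁅a, c⁆ * ⁅b, c⁆ := by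
  have h1 : a * ⁅b, c⁆ = ⁅b, c⁆ * a := h.comm_z ha (h.comm b hb c hc)
  calc ⁅a * b, c⁆ = a * ⁅b, c⁆ * (c * a⁻¹ * c⁻¹) := by simp only [commutatorElement_def]; group
    _ = ⁅b, c⁆ * ⁅a, c⁆ := by rw [h1]; simp only [commutatorElement_def]; group
    _ = ⁅a, c⁆ * ⁅b, c⁆ := by
      have h2 := h.comm a ha c hc
      exact (h.comm_z (h.zle h2) (h.comm b hb c hc)).symm

theorem comm_mul' {a b c : G} (ha : a ∈ Q) (hb : b ∈ Q) (hc : c ∈ Q) : ⁅a, b * c⁆ = ⁅a, b⁆ * ⁅a, c⁆ := by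
  rw [← inv_inj, commutatorElement_inv, h.comm_mul hb hc ha, mul_inv_rev, commutatorElement_inv, commutatorElement_inv]
  exact (h.comm_z (h.zle (h.comm b hb a ha)) (h.comm c hc a ha))

/-- commutation with `x` -/
def cm {x : G} (hx : x ∈ Q) : Q →* zpowers z where
  toFun q := ⟨⁅(q : G), x⁆, h.comm q q.2 x hx⟩
  map_one' := by apply Subtype.ext; exact commutatorElement_one_left x
  map_mul' a b := by apply Subtype.ext; exact h.comm_mul a.2 b.2 hx

/-- the centralizer in `Q` of a noncentral element has order `81` -/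
theorem card_cent {x : G} (hx : x ∈ Q) (hxz : x ∉ zpowers z) :
    Nat.card (Q ⊓ centralizer ({x} : Set G) : Subgroup G) = 81 := by
  have := h.finite
  have hfz : Finite (zpowers z) := Nat.finite_of_card_ne_zero (by rw [h.card_z]; norm_num)
  have h1 : Nat.card (cm h hx).ker = Nat.card (Q ⊓ centralizer ({x} : Set G) : Subgroup G) := by
    refine Nat.card_congr
      { toFun := fun q => ⟨(q : Q), ⟨(q : Q).2, ?_⟩⟩
        invFun := fun q => ⟨⟨q, q.2.1⟩, ?_⟩
        left_inv := fun q => rfl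
        right_inv := fun q => rfl }
    · have h2 := congrArg Subtype.val (MonoidHom.mem_ker.1 q.2)
      exact mem_centralizer_singleton_iff.2 (commutatorElement_eq_one_iff_mul_comm.1 h2)
    · rw [MonoidHom.mem_ker]
      apply Subtype.ext
      exact commutatorElement_eq_one_iff_mul_comm.2 (mem_centralizer_singleton_iff.1 q.2.2)
  have h2 : Nat.card (cm h hx).range = 3 := by
    have h3 : Nat.card (cm h hx).range ∣ 3 := by
      have := Subgroup.card_subgroup_dvd_card (cm h hx).range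
      rwa [h.card_z] at this
    rcases (Nat.dvd_prime Nat.prime_three).1 h3 with h4 | h4
    · exfalso
      apply hxz
      apply h.cen x hx
      intro b hb
      have h5 : (cm h hx) ⟨b, hb⟩ ∈ (cm h hx).range := ⟨_, rfl⟩
      rw [Subgroup.card_eq_one.1 h4, mem_bot] at h5
      exact (commutatorElement_eq_one_iff_mul_comm.1 (congrArg Subtype.val h5)).symm
    · exact h4
  have h3 := Subgroup.card_mul_index (cm h hx).ker
  rw [Subgroup.index_ker, h2, h.card, h1] at h3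
  omega

/-- abelian subgroups have order at most `27` -/
theorem card_abelian {A : Subgroup G} (hA : A ≤ Q) (hab : ∀ a ∈ A, ∀ b ∈ A, a * b = b * a) : Nat.card A ≤ 27 := by
  have := h.finite
  have hfz : Finite (zpowers z) := Nat.finite_of_card_ne_zero (by rw [h.card_z]; norm_num)
  have hfA : Finite A := Finite.of_injective _ (Subgroup.inclusion_injective hA)
  by_contra hcon
  push Not at hcon
  have hd : Nat.card A ∣ 3 ^ 5 := by rw [← h.card]; exact Subgroup.card_dvd_of_le hA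
  obtain ⟨k, hk, hk2⟩ := (Nat.dvd_prime_pow Nat.prime_three).1 hd
  have hk4 : 4 ≤ k := by
    by_contra h5
    have h6 : k ≤ 3 := by omega
    have := Nat.pow_le_pow_right (show 0 < 3 by norm_num) h6
    omega
  -- an element outside `A`
  have hAQ : A ≠ Q := by
    intro h5
    have h6 : Q ≤ zpowers z := fun a ha => h.cen a ha (by rw [← h5] at ha ⊢; exact hab a ha)
    have h7 := Subgroup.card_dvd_of_le h6
    rw [h.card, h.card_z] at h7
    norm_num at h7
  obtain ⟨b, hbQ, hbA⟩ := SetLike.exists_of_lt (lt_of_le_of_ne hA hAQ)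
  have hk5 : k = 4 := by
    have : k ≠ 5 := by
      rintro rfl
      exact hAQ (Subgroup.eq_of_le_of_card_ge hA (by rw [hk2, h.card]))
    omega
  -- the elements of `A` commuting with `b` are central
  have hsup : A ⊔ zpowers b = Q := by
    have h5 : A ⊔ zpowers b ≤ Q := sup_le hA (by rw [zpowers_le]; exact hbQ)
    have h6 : A < A ⊔ zpowers b := by
      refine lt_of_le_of_ne le_sup_left ?_
      intro h7
      exact hbA (h7 ▸ mem_sup_right (mem_zpowers b))
    have h8 : Nat.card (A ⊔ zpowers b : Subgroup G) ∣ 3 ^ 5 := by rw [← h.card]; exact Subgroup.card_dvd_of_le h5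
    obtain ⟨j, hj, hj2⟩ := (Nat.dvd_prime_pow Nat.prime_three).1 h8
    have hfS : Finite (A ⊔ zpowers b : Subgroup G) := Finite.of_injective _ (Subgroup.inclusion_injective h5)
    have h9 : Nat.card A < Nat.card (A ⊔ zpowers b : Subgroup G) := by
      by_contra h10
      push Not at h10
      exact h6.ne (Subgroup.eq_of_le_of_card_ge h6.le h10)
    rw [hk2, hj2, hk5] at h9
    have h11 := (Nat.pow_lt_pow_iff_right (by norm_num : 1 < 3)).1 h9
    have : j = 5 := by omega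
    exact Subgroup.eq_of_le_of_card_ge h5 (by rw [hj2, this, h.card])
  have hcz : A ⊓ centralizer ({b} : Set G) ≤ zpowers z := by
    rintro a ⟨ha, hab'⟩
    apply h.cen a (hA ha)
    have h5 : Q ≤ centralizer ({a} : Set G) := by
      rw [← hsup]
      refine sup_le (fun c hc => mem_centralizer_singleton_iff.2 (hab c hc a ha)) ?_
      rw [zpowers_le]
      exact mem_centralizer_singleton_iff.2 (mem_centralizer_singleton_iff.1 hab').symm
    intro c hc
    exact (mem_centralizer_singleton_iff.1 (h5 hc)).symm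
  -- count
  let f : A →* zpowers z := (cm h hbQ).comp (Subgroup.inclusion hA)
  have h5 : Nat.card f.ker ≤ 3 := by
    rw [← h.card_z]
    refine Nat.card_le_card_of_injective (fun a : f.ker => (⟨((a : A) : G), hcz ⟨(a : A).2, ?_⟩⟩ : zpowers z)) ?_
    · have h6 := congrArg Subtype.val (MonoidHom.mem_ker.1 a.2)
      exact mem_centralizer_singleton_iff.2 (commutatorElement_eq_one_iff_mul_comm.1 h6)
    · intro a a' h6
      have h7 : ((a : A) : G) = ((a' : A) : G) := congrArg (fun c : zpowers z => (c : G)) h6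
      exact Subtype.ext (Subtype.ext h7)
  have h6 : Nat.card f.range ≤ 3 := by
    rw [← h.card_z]; exact Nat.card_le_card_of_injective _ (Subtype.val_injective)
  have h7 := Subgroup.card_mul_index f.ker
  rw [Subgroup.index_ker, hk2, hk5] at h7
  have := Nat.mul_le_mul h5 h6
  omega

end Ex

/-- centralisers in a nonabelian group of order `27` -/
theorem mem_of_comm27 {P : Subgroup G} (hP : Nat.card P = 27) {z x y : G} (hzo : orderOf z = 3) 
    (hz : z ∈ P) (hzc : ∀ p ∈ P, p * z = z * p) (hx : x ∈ P) (hxz : x ∉ zpowers z) (hx2 : ∃ p ∈ P, p * x ≠ x * p)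
    (hy : y ∈ P) (hxy : y * x = x * y) : y ∈ zpowers x ⊔ zpowers z := by
  have hfP : Finite P := Nat.finite_of_card_ne_zero (by rw [hP]; norm_num)
  have h1 : zpowers x ⊔ zpowers z ≤ P ⊓ centralizer ({x} : Set G) := by
    refine sup_le ?_ ?_
    · rw [zpowers_le]; exact ⟨hx, mem_centralizer_singleton_iff.2 rfl⟩
    · rw [zpowers_le]; exact ⟨hz, mem_centralizer_singleton_iff.2 (hzc x hx).symm⟩
  have h2 : P ⊓ centralizer ({x} : Set G) ≠ P := by
    intro h3
    obtain ⟨p, hp, hp2⟩ := hx2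
    have h4 : p ∈ P ⊓ centralizer ({x} : Set G) := by rw [h3]; exact hp
    exact hp2 (mem_centralizer_singleton_iff.1 h4.2)
  have hfC : Finite (P ⊓ centralizer ({x} : Set G) : Subgroup G) :=
    Finite.of_injective _ (Subgroup.inclusion_injective (inf_le_left : P ⊓ centralizer ({x} : Set G) ≤ P))
  have h3 : Nat.card (P ⊓ centralizer ({x} : Set G) : Subgroup G) ∣ 3 ^ 3 := by
    have := Subgroup.card_dvd_of_le (inf_le_left : P ⊓ centralizer ({x} : Set G) ≤ P)
    rw [hP] at this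
    exact this
  obtain ⟨k, hk, hk2⟩ := (Nat.dvd_prime_pow Nat.prime_three).1 h3
  have hk3 : k ≤ 2 := by
    by_contra h4
    have : k = 3 := by omega
    exact h2 (Subgroup.eq_of_le_of_card_ge inf_le_left (by rw [hk2, this, hP]; norm_num))
  have h4 : Nat.card (P ⊓ centralizer ({x} : Set G) : Subgroup G) ≤ 9 := by
    rw [hk2]
    exact Nat.pow_le_pow_right (by norm_num) hk3
  have hfE : Finite (zpowers x ⊔ zpowers z : Subgroup G) := Finite.of_injective _ (Subgroup.inclusion_injective h1)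
  have h5 : 3 < Nat.card (zpowers x ⊔ zpowers z : Subgroup G) := by
    by_contra h6
    push Not at h6
    have h7 : zpowers z = zpowers x ⊔ zpowers z :=
      Subgroup.eq_of_le_of_card_ge le_sup_right (by rw [Nat.card_zpowers, hzo]; exact h6)
    exact hxz (h7 ▸ mem_sup_left (mem_zpowers x))
  have h6 : Nat.card (zpowers x ⊔ zpowers z : Subgroup G) ∣ 3 ^ 3 := by
    have := Subgroup.card_dvd_of_le (h1.trans inf_le_left)
    rw [hP] at this
    exact this
  obtain ⟨j, hj, hj2⟩ := (Nat.dvd_prime_pow Nat.prime_three).1 h6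
  have hj3 : 2 ≤ j := by
    by_contra h7
    have h8 : j ≤ 1 := by omega
    have := Nat.pow_le_pow_right (show 0 < 3 by norm_num) h8
    omega
  have h7 : 9 ≤ Nat.card (zpowers x ⊔ zpowers z : Subgroup G) := by
    rw [hj2]; exact Nat.pow_le_pow_right (show 0 < 3 by norm_num) hj3
  have h8 := Subgroup.eq_of_le_of_card_ge h1 (h4.trans h7)
  rw [h8]
  exact ⟨hy, mem_centralizer_singleton_iff.2 hxy⟩

/-- an involution acting on `Q`, centralising `z` -/
structure Tt (Q : Subgroup G) (z t : G) : Prop where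
  ex : Ex Q z
  tt : t * t = 1
  tz : t * z = z * t
  norm : ∀ q ∈ Q, t * q * t⁻¹ ∈ Q

/-- `C_Q(t)` -/
def two (Q : Subgroup G) (t : G) : Subgroup G := Q ⊓ centralizer ({t} : Set G)

/-- `C_Q(C_Q(t))` -/
def one (Q : Subgroup G) (t : G) : Subgroup G := Q ⊓ centralizer (two Q t : Set G)

theorem mem_two {Q : Subgroup G} {t q : G} : q ∈ two Q t ↔ q ∈ Q ∧ q * t = t * q := by
  rw [two, mem_inf, mem_centralizer_singleton_iff]

theorem mem_one {Q : Subgroup G} {t q : G} : q ∈ one Q t ↔ q ∈ Q ∧ ∀ a ∈ two Q t, a * q = q * a := by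
  rw [one, mem_inf, mem_centralizer_iff]; rfl

namespace Tt

variable {Q : Subgroup G} {z t : G} (h : Tt Q z t)

include h

theorem tinv : t⁻¹ = t := by rw [inv_eq_iff_mul_eq_one]; exact h.tt

theorem fix_z {c : G} (hc : c ∈ zpowers z) : t * c * t⁻¹ = c := by
  obtain ⟨i, rfl⟩ := hc
  have : Commute t z := h.tz
  rw [mul_inv_eq_iff_eq_mul]
  exact (this.zpow_right i)

theorem z_self {c : G} (hc : c ∈ zpowers z) (h2 : c = c⁻¹) : c = 1 := by
  have h3 : c ^ 3 = 1 := h.ex.exp c (h.ex.zle hc)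
  have h4 : c * c = 1 := by nth_rw 2 [h2]; exact mul_inv_cancel c
  rw [pow_succ, pow_two, h4, one_mul] at h3
  exact h3

theorem conj_comm (a b : G) : t * ⁅a, b⁆ * t⁻¹ = ⁅t * a * t⁻¹, t * b * t⁻¹⁆ := by
  simp only [commutatorElement_def]; group

theorem tqt {q : G} : t * (t * q * t⁻¹) * t⁻¹ = q := by
  have h1 : t * (t * q * t⁻¹) * t⁻¹ = (t * t) * q * (t * t)⁻¹ := by group
  rw [h1, h.tt]; group

theorem comm_self {q : G} (hq : q ∈ Q) : q * (t * q * t⁻¹) = (t * q * t⁻¹) * q := by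
  have hq' := h.norm q hq
  have h1 : ⁅q, t * q * t⁻¹⁆ ∈ zpowers z := h.ex.comm _ hq _ hq'
  have h2 := h.fix_z h1
  rw [h.conj_comm, h.tqt, ← commutatorElement_inv] at h2
  exact commutatorElement_eq_one_iff_mul_comm.1 (h.z_self h1 h2.symm)

/-- the component inverted by `t` -/
theorem m_mem {q : G} (hq : q ∈ Q) : t * q * t⁻¹ * q⁻¹ ∈ Q := mul_mem (h.norm q hq) (inv_mem hq)

theorem m_inv {q : G} : t * (t * q * t⁻¹ * q⁻¹) * t⁻¹ = (t * q * t⁻¹ * q⁻¹)⁻¹ := by
  have h1 : t * (t * q * t⁻¹ * q⁻¹) * t⁻¹ = (t * (t * q * t⁻¹) * t⁻¹) * (t * q * t⁻¹)⁻¹ := by group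
  rw [h1, h.tqt]; group

theorem f_mem {q : G} (hq : q ∈ Q) : (q * (t * q * t⁻¹))⁻¹ ∈ two Q t := by
  rw [mem_two]
  refine ⟨inv_mem (mul_mem hq (h.norm q hq)), ?_⟩
  have h1 : t * (q * (t * q * t⁻¹)) * t⁻¹ = q * (t * q * t⁻¹) := by
    calc t * (q * (t * q * t⁻¹)) * t⁻¹ = (t * q * t⁻¹) * (t * (t * q * t⁻¹) * t⁻¹) := by group
      _ = (t * q * t⁻¹) * q := by rw [h.tqt]
      _ = _ := (h.comm_self hq).symm
  have h2 : Commute t (q * (t * q * t⁻¹)) := by
    rw [mul_inv_eq_iff_eq_mul] at h1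
    exact h1
  exact h2.inv_right.symm

theorem decomp {q : G} (hq : q ∈ Q) : q = (t * q * t⁻¹ * q⁻¹) * (q * (t * q * t⁻¹))⁻¹ := by
  have h1 : (t * q * t⁻¹ * q⁻¹) * (q * (t * q * t⁻¹))⁻¹ = (t * q * t⁻¹) * (q⁻¹ * (t * q * t⁻¹)⁻¹) * q⁻¹ := by group
  have h2 : q⁻¹ * (t * q * t⁻¹)⁻¹ = (t * q * t⁻¹)⁻¹ * q⁻¹ := by
    rw [← mul_inv_rev, ← mul_inv_rev, h.comm_self hq]
  rw [h1, h2, mul_inv_cancel_left]
  have h3 := h.ex.exp q hq
  rw [pow_succ, pow_two] at h3
  rw [← mul_inv_rev, eq_inv_iff_mul_eq_one, ← mul_assoc]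
  exact h3

/-- inverted elements commute with fixed elements -/
theorem comm_inv_fix {a b : G} (ha : a ∈ Q) (hai : t * a * t⁻¹ = a⁻¹) (hb : b ∈ two Q t) : a * b = b * a := by
  obtain ⟨hbQ, hbt⟩ := mem_two.1 hb
  have h1 : ⁅a, b⁆ ∈ zpowers z := h.ex.comm a ha b hbQ
  have h2 := h.fix_z h1
  have h3 : t * b * t⁻¹ = b := by rw [← hbt, mul_inv_cancel_right]
  rw [h.conj_comm, hai, h3] at h2
  have h4 : ⁅a * a⁻¹, b⁆ = ⁅a, b⁆ * ⁅a⁻¹, b⁆ := h.ex.comm_mul ha (inv_mem ha) hbQ
  rw [mul_inv_cancel, commutatorElement_one_left, h2] at h4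
  exact commutatorElement_eq_one_iff_mul_comm.1 (h.z_self h1 (eq_inv_of_mul_eq_one_left h4.symm))

theorem m_mem_one {q : G} (hq : q ∈ Q) : t * q * t⁻¹ * q⁻¹ ∈ one Q t := by
  rw [mem_one]
  exact ⟨h.m_mem hq, fun a ha => (h.comm_inv_fix (h.m_mem hq) h.m_inv ha).symm⟩

theorem z_mem_two {c : G} (hc : c ∈ zpowers z) : c ∈ two Q t := by
  rw [mem_two]
  refine ⟨h.ex.zle hc, ?_⟩
  have := h.fix_z hc
  rw [mul_inv_eq_iff_eq_mul] at this
  exact this.symm

theorem z_mem_one {c : G} (hc : c ∈ zpowers z) : c ∈ one Q t := by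
  rw [mem_one]
  exact ⟨h.ex.zle hc, fun a ha => h.ex.comm_z (mem_two.1 ha).1 hc⟩

theorem one_two {a b : G} (ha : a ∈ one Q t) (hb : b ∈ two Q t) : a * b = b * a := ((mem_one.1 ha).2 b hb).symm

/-- the decomposition -/
theorem exists_decomp {q : G} (hq : q ∈ Q) : ∃ a ∈ one Q t, ∃ b ∈ two Q t, q = a * b :=
  ⟨_, h.m_mem_one hq, _, h.f_mem hq, h.decomp hq⟩

theorem inter {a : G} (h1 : a ∈ one Q t) (h2 : a ∈ two Q t) : a ∈ zpowers z := by
  apply h.ex.cen a (mem_one.1 h1).1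
  intro q hq
  have e := h.decomp hq
  have e1 : (t * q * t⁻¹ * q⁻¹) * a = a * (t * q * t⁻¹ * q⁻¹) := h.comm_inv_fix (h.m_mem hq) h.m_inv h2
  have e2 : a * (q * (t * q * t⁻¹))⁻¹ = (q * (t * q * t⁻¹))⁻¹ * a := h.one_two h1 (h.f_mem hq)
  generalize (t * q * t⁻¹ * q⁻¹) = u at e e1
  generalize (q * (t * q * t⁻¹))⁻¹ = w at e e2
  rw [e, ← mul_assoc, ← e1, mul_assoc, e2, ← mul_assoc]

theorem cen_one {a : G} (h1 : a ∈ one Q t) (h2 : ∀ b ∈ one Q t, a * b = b * a) : a ∈ zpowers z := by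
  apply h.ex.cen a (mem_one.1 h1).1
  intro q hq
  obtain ⟨b, hb, c, hc, rfl⟩ := h.exists_decomp hq
  rw [← mul_assoc, h2 b hb, mul_assoc, h.one_two h1 hc, mul_assoc]

theorem cen_two {a : G} (h1 : a ∈ two Q t) (h2 : ∀ b ∈ two Q t, a * b = b * a) : a ∈ zpowers z := by
  apply h.ex.cen a (mem_two.1 h1).1
  intro q hq
  obtain ⟨b, hb, c, hc, rfl⟩ := h.exists_decomp hq
  rw [← mul_assoc, ← h.one_two hb h1, mul_assoc, h2 c hc, mul_assoc]

theorem one_le : one Q t ≤ Q := inf_le_left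

theorem two_le : two Q t ≤ Q := inf_le_left

/-- `|Q₁| |Q₂| = 3 ^ 6` -/
theorem card_mul : Nat.card (one Q t) * Nat.card (two Q t) = 3 ^ 6 := by
  have := h.ex.finite
  have hf1 : Finite (one Q t) := Finite.of_injective _ (Subgroup.inclusion_injective h.one_le)
  have hf2 : Finite (two Q t) := Finite.of_injective _ (Subgroup.inclusion_injective h.two_le)
  let f : one Q t × two Q t →* Q :=
    { toFun := fun p => ⟨(p.1 : G) * p.2, mul_mem (h.one_le p.1.2) (h.two_le p.2.2)⟩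
      map_one' := by apply Subtype.ext; simp only [_root_.Prod.fst_one, _root_.OneMemClass.coe_one, _root_.Prod.snd_one, _root_.mul_one]
      map_mul' := by
        rintro ⟨a, b⟩ ⟨c, d⟩
        apply Subtype.ext
        show ((a : G) * c) * (b * d) = (a * b) * (c * d)
        rw [mul_assoc, ← mul_assoc (c : G), h.one_two c.2 b.2]; simp only [mul_assoc] }
  have hf : Function.Surjective f := by
    rintro ⟨q, hq⟩
    obtain ⟨a, ha, b, hb, e⟩ := h.exists_decomp hq
    exact ⟨(⟨a, ha⟩, ⟨b, hb⟩), Subtype.ext e.symm⟩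
  have hker : Nat.card f.ker = 3 := by
    rw [← h.ex.card_z]
    refine Nat.card_congr
      { toFun := fun p => ⟨((p : one Q t × two Q t).1 : G), ?_⟩
        invFun := fun c => ⟨(⟨c, h.z_mem_one c.2⟩, ⟨(c : G)⁻¹, h.z_mem_two (inv_mem c.2)⟩), ?_⟩
        left_inv := ?_
        right_inv := fun c => rfl }
    · have e : ((p : one Q t × two Q t).1 : G) * (p : one Q t × two Q t).2 = 1 := congrArg Subtype.val (MonoidHom.mem_ker.1 p.2)
      apply h.inter (p : one Q t × two Q t).1.2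
      rw [mul_eq_one_iff_eq_inv.1 e]
      exact inv_mem (p : one Q t × two Q t).2.2
    · rw [MonoidHom.mem_ker]
      apply Subtype.ext
      exact mul_inv_cancel (c : G)
    · intro p
      have e : ((p : one Q t × two Q t).1 : G) * (p : one Q t × two Q t).2 = 1 := congrArg Subtype.val (MonoidHom.mem_ker.1 p.2)
      apply Subtype.ext
      apply Prod.ext
      · rfl
      · apply Subtype.ext
        exact (eq_inv_of_mul_eq_one_right e).symm
  have h1 := Subgroup.card_mul_index f.ker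
  rw [Subgroup.index_ker, MonoidHom.range_eq_top.2 hf, Subgroup.card_top, h.ex.card, hker, Nat.card_prod] at h1
  rw [← h1]; norm_num

/-- the possible orders -/
theorem card_cases (hne : ∃ q ∈ Q, t * q ≠ q * t) (hne2 : ∃ q ∈ two Q t, q ∉ zpowers z) :
    Nat.card (one Q t) = 27 ∧ Nat.card (two Q t) = 27 := by
  have := h.ex.finite
  have hf1 : Finite (one Q t) := Finite.of_injective _ (Subgroup.inclusion_injective h.one_le)
  have hf2 : Finite (two Q t) := Finite.of_injective _ (Subgroup.inclusion_injective h.two_le)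
  have key : ∀ P : Subgroup G, Finite P → (∀ c ∈ zpowers z, c ∈ P) → (∀ c ∈ P, c * z = z * c) →
      (∀ a ∈ P, (∀ b ∈ P, a * b = b * a) → a ∈ zpowers z) → Nat.card P ≠ 9 := by
    intro P hP hz hzc hc h9
    have hc' : IsMulCommutative P := IsPGroup.isMulCommutative_of_card_eq_prime_sq (p := 3) (by rw [h9]; norm_num)
    have h1 : P ≤ zpowers z := fun a ha => hc a ha (fun b hb => congrArg Subtype.val (hc'.is_comm.comm ⟨a, ha⟩ ⟨b, hb⟩))
    have h2 := Subgroup.card_dvd_of_le h1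
    rw [h9, h.ex.card_z] at h2
    norm_num at h2
  have h1 : Nat.card (one Q t) ≠ 9 := key _ hf1 (fun c hc => h.z_mem_one hc) (fun c hc => h.ex.zc c (h.one_le hc))
    (fun a ha hb => h.cen_one ha hb)
  have h2 : Nat.card (two Q t) ≠ 9 := key _ hf2 (fun c hc => h.z_mem_two hc) (fun c hc => h.ex.zc c (h.two_le hc))
    (fun a ha hb => h.cen_two ha hb)
  have h3 : Nat.card (one Q t) ∣ 3 ^ 6 := Dvd.intro _ h.card_mul
  obtain ⟨k, hk, hk2⟩ := (Nat.dvd_prime_pow Nat.prime_three).1 h3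
  have h4 := h.card_mul
  rw [hk2] at h4 h1
  have h5 : Nat.card (two Q t) = 3 ^ (6 - k) := by
    have : 3 ^ 6 = 3 ^ k * 3 ^ (6 - k) := by rw [← pow_add]; congr 1; omega
    rw [this] at h4
    exact Nat.eq_of_mul_eq_mul_left (by positivity) h4
  rw [h5] at h2
  -- lower bounds
  have h6 : 3 < Nat.card (one Q t) := by
    by_contra h7
    push Not at h7
    have h8 : zpowers z = one Q t :=
      Subgroup.eq_of_le_of_card_ge (fun c hc => h.z_mem_one hc) (by rw [h.ex.card_z]; exact h7)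
    obtain ⟨q, hq, hq2⟩ := hne
    apply hq2
    have h9 := h.m_mem_one hq
    rw [← h8] at h9
    have h10 : t * q * t⁻¹ * q⁻¹ = (t * q * t⁻¹ * q⁻¹)⁻¹ := by rw [← h.m_inv, h.fix_z h9]
    have h11 := h.z_self h9 h10
    rw [mul_inv_eq_one, mul_inv_eq_iff_eq_mul] at h11
    exact h11
  have h7 : 3 < Nat.card (two Q t) := by
    by_contra h7
    push Not at h7
    have h8 : zpowers z = two Q t :=
      Subgroup.eq_of_le_of_card_ge (fun c hc => h.z_mem_two hc) (by rw [h.ex.card_z]; exact h7)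
    obtain ⟨q, hq, hq2⟩ := hne2
    exact hq2 (h8 ▸ hq)
  rw [hk2] at h6
  rw [h5] at h7
  rw [h5, hk2]
  have hk6 : k ≤ 6 := hk
  interval_cases k <;> simp_all only [_root_.ne_eq, _root_.pow_zero, _root_.Nat.reducePow, _root_.isUnit_iff_eq_one, _root_.IsUnit.dvd, _root_.tsub_zero, _root_.Nat.reduceEqDiff, _root_.not_false_eq_true, _root_.OfNat.one_ne_ofNat, _root_.Subgroup.card_eq_one, _root_.one_mul, _root_.Nat.not_ofNat_lt_one, _root_.pow_one, _root_.Nat.reduceDvd, _root_.Nat.add_one_sub_one, _root_.Nat.reduceMul, _root_.lt_self_iff_false, _root_.Nat.reduceSub, _root_.not_true_eq_false, _root_.Nat.reduceLT, _root_.Nat.reduceLeDiff, _root_.and_self, _root_.dvd_refl, _root_.tsub_self, _root_.Std.le_refl, _root_.mul_one]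

end Tt

end Cfsg.Agent.H351.OE

private theorem dce_d8a0963d0d17 : _root_.True := by
  try have : _root_.True := by simp only [_root_.Cfsg.Agent.H351.OE.one.eq_1]
  try have : _root_.True := by simp only [_root_.Cfsg.Agent.H351.OE.two.eq_1]
  exact _root_.True.intro
end

-- part: H351/OE/Loc
section
prune_inst 0x30040880000000000010000002001000000000480001100005020006184000000800c00009000020080000000000000000000000000000000000000000000000400012000108200000000002000000000000000000000000000000041000000000000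
set_option linter.all false
open scoped Cfsg.Agent.FastGrp

-- part: H351/OE/Pair
section
/-!
# S3372: two extraspecial groups

* `Ce Q z` : `Q` is extraspecial with centre `⟨z⟩`, normal in `C(z)` and of index at most three in `3`-subgroups of `C(z)`.
* `exists_pair` : if `Ce Q z`, `Ce Q' x`, `x ∈ Q \ ⟨z⟩` then `x = [f, s]` with `f ∈ Q ∩ Q'` and `s ∈ C_{Q'}(z) \ Q`.
* `Hy Q z t` : the working hypothesis; `Hy.not_mem_one`, `Hy.not_mem_two`.
-/

set_option autoImplicit false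
set_option linter.unusedSectionVars false

namespace Cfsg.Agent.H351.OE

open Subgroup
open scoped commutatorElement

variable {G : Type*} [Group G]

/-- `Q` is extraspecial with centre `⟨z⟩` and large in `C(z)` -/
structure Ce (Q : Subgroup G) (z : G) : Prop where
  ex : Ex Q z
  nor : ∀ c, c * z = z * c → ∀ q ∈ Q, c * q * c⁻¹ ∈ Q
  idx : ∀ P : Subgroup G, IsPGroup 3 P → (∀ p ∈ P, p * z = z * p) → Nat.card P ≤ 3 * Nat.card (P ⊓ Q : Subgroup G)

theorem mem_zpowers_of_three {z c : G} (hz : orderOf z = 3) (hc : c ∈ zpowers z) (hc1 : c ≠ 1) : z ∈ zpowers c := by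
  have h1 : zpowers c ≤ zpowers z := by rw [zpowers_le]; exact hc
  have hf : Finite (zpowers z) := Nat.finite_of_card_ne_zero (by rw [Nat.card_zpowers, hz]; norm_num)
  have h2 : Nat.card (zpowers c) ∣ 3 := by
    have := Subgroup.card_dvd_of_le h1
    rwa [Nat.card_zpowers z, hz] at this
  rcases (Nat.dvd_prime Nat.prime_three).1 h2 with h3 | h3
  · exfalso
    rw [Nat.card_zpowers, orderOf_eq_one_iff] at h3
    exact hc1 h3
  · have h4 := Subgroup.eq_of_le_of_card_ge h1 (by rw [h3, Nat.card_zpowers, hz])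
    rw [h4]; exact mem_zpowers z

theorem eq_or_of_three {x c : G} (hx : orderOf x = 3) (hc : c ∈ zpowers x) (hc1 : c ≠ 1) : c = x ∨ c = x⁻¹ := by
  obtain ⟨i, rfl⟩ := hc
  have h3 : x ^ (3 : ℤ) = 1 := by
    have := pow_orderOf_eq_one x
    rw [hx] at this
    exact_mod_cast this
  have h1 : x ^ i = x ^ (i % 3) := by
    conv_lhs => rw [← Int.emod_add_mul_ediv i 3, zpow_add, zpow_mul, h3, one_zpow, mul_one]
  have h2 : i % 3 = 0 ∨ i % 3 = 1 ∨ i % 3 = 2 := by omega
  simp only at hc1 ⊢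
  rcases h2 with h2 | h2 | h2
  · exfalso; apply hc1; rw [h1, h2, zpow_zero]
  · left; rw [h1, h2, zpow_one]
  · right
    rw [h1, h2, eq_inv_iff_mul_eq_one]
    have : x ^ (2 : ℤ) * x = x ^ (3 : ℤ) := by
      rw [show (3 : ℤ) = 2 + 1 by norm_num, zpow_add, zpow_one]
    rw [this, h3]

theorem comm_of_sup {A : Subgroup G} {s : G} (hA : ∀ a ∈ A, ∀ b ∈ A, a * b = b * a) (hs : ∀ a ∈ A, a * s = s * a) :
    ∀ a ∈ A ⊔ zpowers s, ∀ b ∈ A ⊔ zpowers s, a * b = b * a := by
  have h1 : A ⊔ zpowers s ≤ centralizer (A : Set G) := by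
    refine sup_le (fun a ha => mem_centralizer_iff.2 fun b hb => hA b hb a ha) ?_
    rw [zpowers_le]
    exact mem_centralizer_iff.2 fun b hb => hs b hb
  have h2 : A ⊔ zpowers s ≤ centralizer ({s} : Set G) := by
    refine sup_le (fun a ha => mem_centralizer_singleton_iff.2 (hs a ha)) ?_
    rw [zpowers_le]
    exact mem_centralizer_singleton_iff.2 rfl
  intro a ha b hb
  have h3 : A ⊔ zpowers s ≤ centralizer ({a} : Set G) := by
    refine sup_le (fun c hc => mem_centralizer_singleton_iff.2 (mem_centralizer_iff.1 (h1 ha) c hc)) ?_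
    rw [zpowers_le]
    exact mem_centralizer_singleton_iff.2 (mem_centralizer_singleton_iff.1 (h2 ha)).symm
  exact (mem_centralizer_singleton_iff.1 (h3 hb)).symm

/-- **The pair lemma.** -/
theorem exists_pair {Q Q' : Subgroup G} {z x : G} (h : Ce Q z) (h' : Ce Q' x) (hx : x ∈ Q) (hxz : x ∉ zpowers z) :
    z ∈ Q' ∧ 27 ≤ Nat.card (Q ⊓ Q' : Subgroup G) ∧ (∀ a ∈ Q ⊓ Q', ∀ b ∈ Q ⊓ Q', a * b = b * a) ∧
    ∃ s f : G, s ∈ Q' ∧ s ∉ Q ∧ s * z = z * s ∧ s * x = x * s ∧ s ^ 3 = 1 ∧ f ∈ Q ∧ f ∈ Q' ∧ f * x = x * f ∧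
      ⁅f, s⁆ = x := by
  have hfQ := h.ex.finite
  have hfQ' := h'.ex.finite
  have hzx : z ∉ zpowers x := fun h1 => hxz (mem_zpowers_of_three h'.ex.order h1 h.ex.z1)
  have hint : ∀ c, c ∈ zpowers z → c ∈ zpowers x → c = 1 := by
    intro c h1 h2
    by_contra h3
    have h4 := mem_zpowers_of_three h.ex.order h1 h3
    exact hzx ((zpowers_le.2 h2 : zpowers c ≤ zpowers x) h4)
  -- `A = C_Q(x)`
  obtain ⟨A, hA⟩ : ∃ A : Subgroup G, A = Q ⊓ centralizer ({x} : Set G) := ⟨_, rfl⟩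
  have hAQ : A ≤ Q := by rw [hA]; exact inf_le_left
  have hfA : Finite A := Finite.of_injective _ (Subgroup.inclusion_injective hAQ)
  have hAx : ∀ a ∈ A, a * x = x * a := by
    intro a ha
    rw [hA] at ha
    exact mem_centralizer_singleton_iff.1 ha.2
  have hAc : Nat.card A = 81 := by rw [hA]; exact h.ex.card_cent hx hxz
  have hAp : IsPGroup 3 A := IsPGroup.of_card (n := 4) (by rw [hAc]; norm_num)
  have hidx := h'.idx A hAp hAx
  rw [hAc] at hidx
  -- commutators of `A` lie in `Q'`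
  have hnA : ((A ⊓ Q').subgroupOf A).Normal := by
    constructor
    intro a ha b
    rw [mem_subgroupOf] at ha ⊢
    refine ⟨(b * a * b⁻¹).2, ?_⟩
    exact h'.nor b (hAx b b.2) a ha.2
  have hcA : ∀ a ∈ A, ∀ b ∈ A, ⁅a, b⁆ ∈ Q' := by
    intro a ha b hb
    have h1 : ((A ⊓ Q').subgroupOf A).index ≤ 3 := by
      have h2 := Subgroup.card_mul_index ((A ⊓ Q').subgroupOf A)
      rw [Nat.card_congr (Subgroup.subgroupOfEquivOfLe (inf_le_left : A ⊓ Q' ≤ A)).toEquiv, hAc] at h2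
      by_contra h3
      push Not at h3
      have h4 : 4 ≤ ((A ⊓ Q').subgroupOf A).index := h3
      have h5 : Nat.card (A ⊓ Q' : Subgroup G) * 4 ≤ 81 := by
        rw [← h2]; exact Nat.mul_le_mul_left _ h4
      omega
    have hcq : ∀ u v : A ⧸ (A ⊓ Q').subgroupOf A, u * v = v * u := by
      have h2 : Nat.card (A ⧸ (A ⊓ Q').subgroupOf A) ≤ 3 := h1
      have h3 : Nat.card (A ⧸ (A ⊓ Q').subgroupOf A) ∣ 3 ^ 4 := by
        have := Subgroup.index_dvd_card ((A ⊓ Q').subgroupOf A)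
        rw [hAc] at this
        exact this
      obtain ⟨k, hk, hk2⟩ := (Nat.dvd_prime_pow Nat.prime_three).1 h3
      have hk1 : k ≤ 1 := by
        by_contra h4
        have h5 : 2 ≤ k := by omega
        have := Nat.pow_le_pow_right (show 0 < 3 by norm_num) h5
        omega
      have hcyc : IsCyclic (A ⧸ (A ⊓ Q').subgroupOf A) := by
        rcases Nat.eq_zero_or_pos k with h4 | h4
        · rw [h4, pow_zero] at hk2
          have := (Nat.card_eq_one_iff_unique.1 hk2).1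
          exact isCyclic_of_subsingleton
        · have : k = 1 := by omega
          rw [this, pow_one] at hk2
          have : Fact (Nat.Prime 3) := ⟨Nat.prime_three⟩
          exact isCyclic_of_prime_card hk2
      intro u v
      exact IsCyclic.isMulCommutative.is_comm.comm u v
    have h2 := hcq (QuotientGroup.mk ⟨a, ha⟩) (QuotientGroup.mk ⟨b, hb⟩)
    rw [← QuotientGroup.mk_mul, ← QuotientGroup.mk_mul, QuotientGroup.eq] at h2
    -- (ab)⁻¹ (ba) ∈ ...
    have h3 : ((⟨a, ha⟩ * ⟨b, hb⟩ : A)⁻¹ * (⟨b, hb⟩ * ⟨a, ha⟩) : A) ∈ (A ⊓ Q').subgroupOf A := h2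
    have h4 := hnA.conj_mem _ h3 (⟨b, hb⟩ * ⟨a, ha⟩)
    rw [mem_subgroupOf] at h4
    have h5 : (b * a) * ((a * b)⁻¹ * (b * a)) * (b * a)⁻¹ ∈ Q' := h4.2
    have h6 : (b * a) * ((a * b)⁻¹ * (b * a)) * (b * a)⁻¹ = ⁅b, a⁆ := by
      simp only [commutatorElement_def]; group
    rw [h6, ← inv_mem_iff, commutatorElement_inv] at h5
    exact h5
  have hzQ' : z ∈ Q' := by
    have h1 : ∃ a ∈ A, ∃ b ∈ A, a * b ≠ b * a := by
      by_contra hcon
      push Not at hcon
      have := h.ex.card_abelian hAQ hcon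
      omega
    obtain ⟨a, ha, b, hb, hab⟩ := h1
    have h2 := h.ex.comm a (hAQ ha) b (hAQ hb)
    have h3 : ⁅a, b⁆ ≠ 1 := fun h4 => hab (commutatorElement_eq_one_iff_mul_comm.1 h4)
    exact (zpowers_le.2 (hcA a ha b hb) : zpowers ⁅a, b⁆ ≤ Q') (mem_zpowers_of_three h.ex.order h2 h3)
  -- `F = Q ∩ Q'`
  have hFab : ∀ a ∈ Q ⊓ Q', ∀ b ∈ Q ⊓ Q', a * b = b * a := by
    intro a ha b hb
    apply commutatorElement_eq_one_iff_mul_comm.1
    exact hint _ (h.ex.comm a ha.1 b hb.1) (h'.ex.comm a ha.2 b hb.2)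
  have hF27 : 27 ≤ Nat.card (Q ⊓ Q' : Subgroup G) := by
    have hf : Finite (Q ⊓ Q' : Subgroup G) :=
      Finite.of_injective _ (Subgroup.inclusion_injective (inf_le_left : Q ⊓ Q' ≤ Q))
    have h1 : Nat.card (A ⊓ Q' : Subgroup G) ≤ Nat.card (Q ⊓ Q' : Subgroup G) :=
      Nat.card_le_card_of_injective _ (Subgroup.inclusion_injective (inf_le_inf_right Q' hAQ))
    omega
  -- `A' = C_{Q'}(z)`
  have hA'c : Nat.card (Q' ⊓ centralizer ({z} : Set G) : Subgroup G) = 81 := h'.ex.card_cent hzQ' hzx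
  have hex : ∃ s ∈ Q' ⊓ centralizer ({z} : Set G), s ∉ Q := by
    by_contra hcon
    push Not at hcon
    have h1 : Q' ⊓ centralizer ({z} : Set G) ≤ Q ⊓ Q' := fun s hs => ⟨hcon s hs, hs.1⟩
    have h2 := h.ex.card_abelian (inf_le_left.trans' h1 : Q' ⊓ centralizer ({z} : Set G) ≤ Q)
      (fun a ha b hb => hFab a (h1 ha) b (h1 hb))
    omega
  obtain ⟨s, hs, hsQ⟩ := hex
  have hsz : s * z = z * s := mem_centralizer_singleton_iff.1 hs.2
  have hsx : s * x = x * s := h'.ex.zc s hs.1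
  have hf : ∃ f ∈ Q ⊓ Q', f * s ≠ s * f := by
    by_contra hcon
    push Not at hcon
    have hle : Q ⊓ Q' ⊔ zpowers s ≤ Q' := sup_le inf_le_right (by rw [zpowers_le]; exact hs.1)
    have h2 := h'.ex.card_abelian hle (comm_of_sup hFab hcon)
    have hfS : Finite (Q ⊓ Q' ⊔ zpowers s : Subgroup G) := Finite.of_injective _ (Subgroup.inclusion_injective hle)
    have h3 : Q ⊓ Q' = Q ⊓ Q' ⊔ zpowers s := Subgroup.eq_of_le_of_card_ge le_sup_left (h2.trans hF27)
    have h4 : s ∈ Q ⊓ Q' := by rw [h3]; exact mem_sup_right (mem_zpowers s)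
    exact hsQ h4.1
  obtain ⟨f, hf, hfs⟩ := hf
  refine ⟨hzQ', hF27, hFab, ?_⟩
  have h1 : ⁅f, s⁆ ∈ zpowers x := h'.ex.comm f hf.2 s hs.1
  have h2 : ⁅f, s⁆ ≠ 1 := fun h4 => hfs (commutatorElement_eq_one_iff_mul_comm.1 h4)
  rcases eq_or_of_three h'.ex.order h1 h2 with h3 | h3
  · exact ⟨s, f, hs.1, hsQ, hsz, hsx, h'.ex.exp s hs.1, hf.1, hf.2, h'.ex.zc f hf.2, h3⟩
  · refine ⟨s, f⁻¹, hs.1, hsQ, hsz, hsx, h'.ex.exp s hs.1, inv_mem hf.1, inv_mem hf.2,
      h'.ex.zc _ (inv_mem hf.2), ?_⟩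
    have h4 : ⁅f * f⁻¹, s⁆ = ⁅f, s⁆ * ⁅f⁻¹, s⁆ := h'.ex.comm_mul hf.2 (inv_mem hf.2) hs.1
    rw [mul_inv_cancel, commutatorElement_one_left, h3] at h4
    exact (inv_mul_eq_one.1 h4.symm).symm

/-- the working hypothesis -/
structure Hy (Q : Subgroup G) (z t : G) : Prop extends Ce Q z where
  tt : Tt Q z t
  tcen : ∀ c, c * z = z * c → ⁅t, c⁆ ∈ Q
  card1 : Nat.card (one Q t) = 27
  card2 : Nat.card (two Q t) = 27
  irr : ∀ B ≤ one Q t, z ∈ B → (∃ b ∈ B, b ∉ zpowers z) → (∀ c, c * z = z * c → ∀ b ∈ B, c * b * c⁻¹ ∈ B) →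
    one Q t ≤ B

namespace Hy

variable {Q : Subgroup G} {z t : G} (h : Hy Q z t)

include h

theorem two_conj {c q : G} (hc : c * z = z * c) (hq : q ∈ two Q t) : c * q * c⁻¹ ∈ two Q t := by
  obtain ⟨hqQ, hqt⟩ := mem_two.1 hq
  have hc' : c⁻¹ * z = z * c⁻¹ := (Commute.inv_left (show Commute c z from hc)).eq
  have h1 := h.tcen c⁻¹ hc'
  have h2 : c⁻¹ * t * c = t * ⁅t, c⁻¹⁆ := by
    have e : t * ⁅t, c⁻¹⁆ = (t * t) * c⁻¹ * t⁻¹ * c := by simp only [commutatorElement_def]; group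
    rw [e, h.tt.tt, one_mul, h.tt.tinv]
  obtain ⟨r, hr⟩ : ∃ r, r = ⁅t, c⁻¹⁆ := ⟨_, rfl⟩
  rw [← hr] at h1 h2
  have h3 : ⁅r, q⁆ ∈ zpowers z := h.ex.comm r h1 q hqQ
  have hyQ : c * q * c⁻¹ ∈ Q := h.nor c hc q hqQ
  have hcζ : c * ⁅r, q⁆ = ⁅r, q⁆ * c := by
    obtain ⟨i, hi⟩ := h3
    rw [← hi]
    exact ((show Commute c z from hc).zpow_right i).eq
  have htζ : t * ⁅r, q⁆ = ⁅r, q⁆ * t := by
    have := h.tt.fix_z h3
    rwa [mul_inv_eq_iff_eq_mul] at this
  have h4 : t * (c * q * c⁻¹) * t⁻¹ = ⁅r, q⁆ * (c * q * c⁻¹) := by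
    calc t * (c * q * c⁻¹) * t⁻¹ = c * (c⁻¹ * t * c) * q * (c⁻¹ * t * c)⁻¹ * c⁻¹ := by group
      _ = c * (t * ⁅r, q⁆ * q * t⁻¹) * c⁻¹ := by rw [h2]; simp only [commutatorElement_def]; group
      _ = c * (⁅r, q⁆ * (t * q * t⁻¹)) * c⁻¹ := by rw [htζ]; group
      _ = (c * ⁅r, q⁆) * q * c⁻¹ := by rw [← hqt, mul_inv_cancel_right]; group
      _ = _ := by rw [hcζ]; group
  have h5 := h.tt.tqt (q := c * q * c⁻¹)
  rw [h4] at h5
  have h6 : t * (⁅r, q⁆ * (c * q * c⁻¹)) * t⁻¹ = ⁅r, q⁆ * (t * (c * q * c⁻¹) * t⁻¹) := by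
    rw [← mul_assoc, htζ]; group
  rw [h6, h4, ← mul_assoc, mul_eq_right] at h5
  have h7 := h.tt.z_self h3 (eq_inv_of_mul_eq_one_left h5)
  rw [h7, one_mul, mul_inv_eq_iff_eq_mul] at h4
  exact mem_two.2 ⟨hyQ, h4.symm⟩

theorem one_conj {c q : G} (hc : c * z = z * c) (hq : q ∈ one Q t) : c * q * c⁻¹ ∈ one Q t := by
  obtain ⟨hqQ, hqt⟩ := mem_one.1 hq
  rw [mem_one]
  refine ⟨h.nor c hc q hqQ, fun a ha => ?_⟩
  have hc' : c⁻¹ * z = z * c⁻¹ := (Commute.inv_left (show Commute c z from hc)).eq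
  have h1 := h.two_conj hc' ha
  rw [inv_inv] at h1
  have h2 := hqt _ h1
  calc a * (c * q * c⁻¹) = c * ((c⁻¹ * a * c) * q) * c⁻¹ := by group
    _ = c * (q * (c⁻¹ * a * c)) * c⁻¹ := by rw [h2]
    _ = _ := by group

theorem mem_of_comm_one {x y : G} (hx : x ∈ one Q t) (hxz : x ∉ zpowers z) (hy : y ∈ one Q t) (hxy : y * x = x * y) :
    y ∈ zpowers x ⊔ zpowers z := by
  refine mem_of_comm27 h.card1 h.ex.order (h.tt.z_mem_one (mem_zpowers z)) (fun p hp => h.ex.zc p (h.tt.one_le hp)) hx hxz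
    ?_ hy hxy
  by_contra hcon
  push Not at hcon
  exact hxz (h.tt.cen_one hx (fun b hb => (hcon b hb).symm))

theorem mem_of_comm_two {x y : G} (hx : x ∈ two Q t) (hxz : x ∉ zpowers z) (hy : y ∈ two Q t) (hxy : y * x = x * y) :
    y ∈ zpowers x ⊔ zpowers z := by
  refine mem_of_comm27 h.card2 h.ex.order (h.tt.z_mem_two (mem_zpowers z)) (fun p hp => h.ex.zc p (h.tt.two_le hp)) hx hxz
    ?_ hy hxy
  by_contra hcon
  push Not at hcon
  exact hxz (h.tt.cen_two hx (fun b hb => (hcon b hb).symm))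

/-- the common computation -/
theorem comm_decomp {f s : G} (hf : f ∈ Q) (hs : s * z = z * s) : ∃ a ∈ one Q t, ∃ b ∈ two Q t, f = a * b ∧
    ⁅a, s⁆ ∈ one Q t ∧ ⁅b, s⁆ ∈ two Q t ∧ ⁅f, s⁆ = ⁅a, s⁆ * ⁅b, s⁆ := by
  obtain ⟨a, ha, b, hb, rfl⟩ := h.tt.exists_decomp hf
  have ha' := h.one_conj hs ha
  have hb' := h.two_conj hs hb
  have h1 : ⁅a, s⁆ = a * (s * a * s⁻¹)⁻¹ := by simp only [commutatorElement_def]; group
  have h2 : ⁅b, s⁆ = b * (s * b * s⁻¹)⁻¹ := by simp only [commutatorElement_def]; group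
  have h3 : ⁅a, s⁆ ∈ one Q t := by rw [h1]; exact mul_mem ha (inv_mem ha')
  have h4 : ⁅b, s⁆ ∈ two Q t := by rw [h2]; exact mul_mem hb (inv_mem hb')
  refine ⟨a, ha, b, hb, rfl, h3, h4, ?_⟩
  have e1 : ⁅a * b, s⁆ = a * ⁅b, s⁆ * (s * a⁻¹ * s⁻¹) := by simp only [commutatorElement_def]; group
  have e2 : a * ⁅b, s⁆ = ⁅b, s⁆ * a := h.tt.one_two ha h4
  have e3 : ⁅b, s⁆ * a * (s * a⁻¹ * s⁻¹) = ⁅b, s⁆ * ⁅a, s⁆ := by simp only [commutatorElement_def]; group
  rw [e1, e2, e3]
  exact (h.tt.one_two h3 h4).symm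

theorem fix_of_sup {x s c : G} (hs : s * z = z * s) (hsx : s * x = x * s) (hc : c ∈ zpowers x ⊔ zpowers z) :
    s * c = c * s := by
  have h1 : zpowers x ⊔ zpowers z ≤ centralizer ({s} : Set G) := by
    refine sup_le ?_ ?_ <;> rw [zpowers_le]
    · exact mem_centralizer_singleton_iff.2 hsx.symm
    · exact mem_centralizer_singleton_iff.2 hs.symm
  exact (mem_centralizer_singleton_iff.1 (h1 hc)).symm

theorem not_mem_one {x f s : G} (hxz : x ∉ zpowers z) (hf : f ∈ Q) (hfx : f * x = x * f)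
    (hs : s * z = z * s) (hsx : s * x = x * s) (e : ⁅f, s⁆ = x) : x ∉ one Q t := by
  intro hx
  obtain ⟨a, ha, b, hb, rfl, h1, h2, h3⟩ := h.comm_decomp hf hs
  have hbx : b * x = x * b := (h.tt.one_two hx hb).symm
  have hax : a * x = x * a := by
    have : a = (a * b) * b⁻¹ := by group
    rw [this]
    have h4 : Commute b x := hbx
    have h5 : Commute (a * b) x := hfx
    exact (h5.mul_left h4.inv_left).eq
  have h4 := h.mem_of_comm_one hx hxz ha hax
  have h5 := h.fix_of_sup hs hsx h4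
  have h6 : ⁅a, s⁆ = 1 := commutatorElement_eq_one_iff_mul_comm.2 h5.symm
  rw [h6, one_mul, e] at h3
  rw [← h3] at h2
  exact hxz (h.tt.inter hx h2)

theorem not_mem_two {x f s : G} (hxz : x ∉ zpowers z) (hf : f ∈ Q) (hfx : f * x = x * f)
    (hs : s * z = z * s) (hsx : s * x = x * s) (e : ⁅f, s⁆ = x) : x ∉ two Q t := by
  intro hx
  obtain ⟨a, ha, b, hb, rfl, h1, h2, h3⟩ := h.comm_decomp hf hs
  have hax : a * x = x * a := h.tt.one_two ha hx
  have hbx : b * x = x * b := by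
    have : b = a⁻¹ * (a * b) := by group
    rw [this]
    have h4 : Commute a x := hax
    have h5 : Commute (a * b) x := hfx
    exact (h4.inv_left.mul_left h5).eq
  have h4 := h.mem_of_comm_two hx hxz hb hbx
  have h5 := h.fix_of_sup hs hsx h4
  have h6 : ⁅b, s⁆ = 1 := commutatorElement_eq_one_iff_mul_comm.2 h5.symm
  rw [h6, mul_one, e] at h3
  rw [← h3] at h1
  exact hxz (h.tt.inter h1 hx)

/-- the components of `x` -/
theorem exists_comp {x : G} (hx : x ∈ Q) (h1 : x ∉ one Q t) (h2 : x ∉ two Q t) : ∃ a ∈ one Q t, ∃ b ∈ two Q t,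
    x = a * b ∧ a ∉ zpowers z ∧ b ∉ zpowers z ∧ a = ⁅t, x⁆ := by
  refine ⟨_, h.tt.m_mem_one hx, _, h.tt.f_mem hx, h.tt.decomp hx, ?_, ?_, rfl⟩
  · intro h3
    apply h2
    rw [h.tt.decomp hx]
    exact mul_mem (h.tt.z_mem_two h3) (h.tt.f_mem hx)
  · intro h3
    apply h1
    rw [h.tt.decomp hx]
    exact mul_mem (h.tt.m_mem_one hx) (h.tt.z_mem_one h3)

/-- a normal subgroup containing `x` -/
theorem le_of_comp {R : Subgroup G} (hR : ∀ c, c * z = z * c → ∀ r ∈ R, c * r * c⁻¹ ∈ R) (hzR : z ∈ R) {x a b : G}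
    (hxR : x ∈ R) (ha : a ∈ one Q t) (haz : a ∉ zpowers z) (hat : a = ⁅t, x⁆) (hx : x = a * b) :
    one Q t ≤ R ∧ b ∈ R := by
  have haR : a ∈ R := by
    rw [hat, commutatorElement_def]
    exact mul_mem (hR t h.tt.tz x hxR) (inv_mem hxR)
  refine ⟨?_, ?_⟩
  · have h1 := h.irr (R ⊓ one Q t) inf_le_right ⟨hzR, h.tt.z_mem_one (mem_zpowers z)⟩ ⟨a, ⟨haR, ha⟩, haz⟩
      (fun c hc q hq => ⟨hR c hc q hq.1, h.one_conj hc hq.2⟩)
    exact h1.trans inf_le_left
  · have : b = a⁻¹ * x := by rw [hx]; group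
    rw [this]
    exact mul_mem (inv_mem haR) hxR

/-- the centralizer in `Q` of such a normal subgroup -/
theorem cen_le {R : Subgroup G} (h1 : one Q t ≤ R) {b : G} (hb : b ∈ R) (hb2 : b ∈ two Q t) (hbz : b ∉ zpowers z)
    {y : G} (hy : y ∈ Q) (hyR : ∀ r ∈ R, y * r = r * y) : y ∈ zpowers b ⊔ zpowers z := by
  obtain ⟨u, hu, v, hv, rfl⟩ := h.tt.exists_decomp hy
  have h3 : u ∈ zpowers z := by
    apply h.tt.cen_one hu
    intro c hc
    have h4 := hyR c (h1 hc)
    have h5 : Commute (u * v) c := h4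
    have h6 : Commute v c := (h.tt.one_two hc hv).symm
    have h7 := h5.mul_left h6.inv_left
    rw [mul_inv_cancel_right] at h7
    exact h7.eq
  have h4 : u * v ∈ two Q t := mul_mem (h.tt.z_mem_two h3) hv
  exact h.mem_of_comm_two hb2 hbz h4 (hyR b hb)

end Hy

end Cfsg.Agent.H351.OE
end

-- part: H351/OE/Conj
section
/-!
# S3372: conjugation of `Ce Q z`
-/

set_option autoImplicit false

namespace Cfsg.Agent.H351.OE

open Subgroup
open scoped commutatorElement

variable {G : Type*} [Group G]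

/-- the conjugate subgroup -/
def cj (g : G) (Q : Subgroup G) : Subgroup G := Q.map (MulAut.conj g).toMonoidHom

theorem mem_cj {g x : G} {Q : Subgroup G} : x ∈ cj g Q ↔ g⁻¹ * x * g ∈ Q := by
  constructor
  · rintro ⟨y, hy, rfl⟩
    have : g⁻¹ * ((MulAut.conj g).toMonoidHom y) * g = y := by
      change g⁻¹ * (g * y * g⁻¹) * g = y
      group
    rw [this]; exact hy
  · intro h
    refine ⟨_, h, ?_⟩
    change g * (g⁻¹ * x * g) * g⁻¹ = x
    group

theorem card_cj (g : G) (Q : Subgroup G) : Nat.card (cj g Q) = Nat.card Q :=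
  (Nat.card_congr (Q.equivMapOfInjective _ (MulAut.conj g).injective).toEquiv).symm

theorem mem_zpowers_conj {g z c : G} : c ∈ zpowers (g * z * g⁻¹) ↔ g⁻¹ * c * g ∈ zpowers z := by
  constructor
  · rintro ⟨i, rfl⟩
    refine ⟨i, ?_⟩
    change z ^ i = g⁻¹ * (g * z * g⁻¹) ^ i * g
    rw [conj_zpow]; group
  · rintro ⟨i, hi⟩
    refine ⟨i, ?_⟩
    change (g * z * g⁻¹) ^ i = c
    change z ^ i = g⁻¹ * c * g at hi
    rw [conj_zpow, hi]; group

theorem conj_cm {g a b : G} : g⁻¹ * ⁅a, b⁆ * g = ⁅g⁻¹ * a * g, g⁻¹ * b * g⁆ := by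
  simp only [commutatorElement_def]; group

theorem conj_comm_iff {g a b : G} : a * (g * b * g⁻¹) = (g * b * g⁻¹) * a ↔ (g⁻¹ * a * g) * b = b * (g⁻¹ * a * g) := by
  constructor
  · intro h
    calc (g⁻¹ * a * g) * b = g⁻¹ * (a * (g * b * g⁻¹)) * g := by group
      _ = _ := by rw [h]; group
  · intro h
    calc a * (g * b * g⁻¹) = g * ((g⁻¹ * a * g) * b) * g⁻¹ := by group
      _ = _ := by rw [h]; group

theorem Ce.conj {Q : Subgroup G} {z : G} (h : Ce Q z) (g : G) : Ce (cj g Q) (g * z * g⁻¹) where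
  ex :=
    { z1 := fun h1 => h.ex.z1 (conj_eq_one_iff.1 h1)
      zz := by rw [conj_pow, h.ex.zz]; group
      zQ := by rw [mem_cj]; have : g⁻¹ * (g * z * g⁻¹) * g = z := by group
               rw [this]; exact h.ex.zQ
      card := by rw [card_cj]; exact h.ex.card
      exp := by
        intro a ha
        have h1 := h.ex.exp _ (mem_cj.1 ha)
        have h2 : (g⁻¹ * a * g) ^ 3 = g⁻¹ * a ^ 3 * g := by
          have := conj_pow (a := g⁻¹) (b := a) (i := 3)
          rwa [inv_inv] at this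
        rw [h2] at h1
        calc a ^ 3 = g * (g⁻¹ * a ^ 3 * g) * g⁻¹ := by group
          _ = 1 := by rw [h1]; group
      zc := by
        intro a ha
        rw [conj_comm_iff]
        exact h.ex.zc _ (mem_cj.1 ha)
      comm := by
        intro a ha b hb
        rw [mem_zpowers_conj, conj_cm]
        exact h.ex.comm _ (mem_cj.1 ha) _ (mem_cj.1 hb)
      cen := by
        intro a ha hab
        rw [mem_zpowers_conj]
        apply h.ex.cen _ (mem_cj.1 ha)
        intro b hb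
        have h1 : g * b * g⁻¹ ∈ cj g Q := by
          rw [mem_cj]; have : g⁻¹ * (g * b * g⁻¹) * g = b := by group
          rw [this]; exact hb
        exact conj_comm_iff.1 (hab _ h1) }
  nor := by
    intro c hc q hq
    rw [mem_cj] at hq ⊢
    have h1 := h.nor _ (conj_comm_iff.1 hc) _ hq
    have h2 : g⁻¹ * (c * q * c⁻¹) * g = (g⁻¹ * c * g) * (g⁻¹ * q * g) * (g⁻¹ * c * g)⁻¹ := by group
    rw [h2]; exact h1
  idx := by
    intro P hP hPz
    have h1 := h.idx (cj g⁻¹ P) (hP.map _) (by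
      intro p hp
      rw [mem_cj, inv_inv] at hp
      have h2 := conj_comm_iff.1 (hPz _ hp)
      have h3 : g⁻¹ * (g * p * g⁻¹) * g = p := by group
      rwa [h3] at h2)
    rw [card_cj] at h1
    have h2 : cj g⁻¹ P ⊓ Q = cj g⁻¹ (P ⊓ cj g Q) := by
      ext y
      rw [mem_inf, mem_cj, mem_cj, mem_inf, mem_cj, inv_inv]
      have h3 : g⁻¹ * (g * y * g⁻¹) * g = y := by group
      rw [h3]
    rw [h2, card_cj] at h1
    exact h1

/-- noncentral elements of `Q` -/
theorem Ex.exists_conj {Q : Subgroup G} {z : G} (h : Ex Q z) {x c : G} (hx : x ∈ Q) (hxz : x ∉ zpowers z)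
    (hc : c ∈ zpowers z) : ∃ q ∈ Q, q * x * q⁻¹ = c * x := by
  have hfz : Finite (zpowers z) := Nat.finite_of_card_ne_zero (by rw [h.card_z]; norm_num)
  have h2 : (h.cm hx).range = ⊤ := by
    have h3 : Nat.card (h.cm hx).range ∣ 3 := by
      have := Subgroup.card_subgroup_dvd_card (h.cm hx).range
      rwa [h.card_z] at this
    rcases (Nat.dvd_prime Nat.prime_three).1 h3 with h4 | h4
    · exfalso
      apply hxz
      apply h.cen x hx
      intro b hb
      have h5 : (h.cm hx) ⟨b, hb⟩ ∈ (h.cm hx).range := ⟨_, rfl⟩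
      rw [Subgroup.card_eq_one.1 h4, mem_bot] at h5
      exact (commutatorElement_eq_one_iff_mul_comm.1 (congrArg Subtype.val h5)).symm
    · exact Subgroup.eq_top_of_card_eq _ (by rw [h4, h.card_z])
  have h3 : (⟨c, hc⟩ : zpowers z) ∈ (h.cm hx).range := by rw [h2]; trivial
  obtain ⟨q, hq⟩ := h3
  refine ⟨q, q.2, ?_⟩
  have h4 : ⁅(q : G), x⁆ = c := congrArg Subtype.val hq
  rw [← h4]
  simp only [commutatorElement_def]; group

end Cfsg.Agent.H351.OE
end

-- part: H351/OE/Red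
section
/-!
# S3372: reduction to a simple group

* `Gl Q z t g S` : the global hypothesis.
* `Gl.bot_of_prime` : `O_{3'}(G) = 1`; `Gl.bot_of_three` : `O_3(G) = 1`.
* `Gl.simple` : `layer G` is simple, contains `z`, and has trivial centralizer.
-/

set_option autoImplicit false
set_option linter.unusedSectionVars false

namespace Cfsg.Agent.H351.OE

open Subgroup Cfsg
open scoped commutatorElement
open Cfsg.Agent.SignalizersComponents.Components

variable {G : Type*} [Group G] [Finite G]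

/-- the global hypothesis -/
structure Gl (Q : Subgroup G) (z t g : G) (S : Sylow 3 G) : Prop where
  hy : Hy Q z t
  cQ : centralizer (Q : Set G) ≤ Q
  QS : Q ≤ S
  Sz : ∀ s ∈ S, s * z = z * s
  cS : ∀ y ∈ S, (∀ s ∈ S, s * y = y * s) → y ∈ zpowers z
  solv : Group.IsSolvable (centralizer ({z} : Set G))
  pcore : ∀ N : Subgroup G, (∀ n ∈ N, n * z = z * n) → (∀ c, c * z = z * c → ∀ n ∈ N, c * n * c⁻¹ ∈ N) → IsPGroup 3 N →
    N ≤ Q
  gx : g * z * g⁻¹ ∈ Q
  gxz : g * z * g⁻¹ ∉ zpowers z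

omit [Finite G] in
theorem mem_sup_comm {A B : Subgroup G} (hab : ∀ a ∈ A, ∀ b ∈ B, a * b = b * a) {x : G} (hx : x ∈ A ⊔ B) :
    ∃ a ∈ A, ∃ b ∈ B, x = a * b := by
  let P : Subgroup G :=
    { carrier := {x | ∃ a ∈ A, ∃ b ∈ B, x = a * b}
      mul_mem' := by
        rintro _ _ ⟨a, ha, b, hb, rfl⟩ ⟨c, hc, d, hd, rfl⟩
        refine ⟨a * c, A.mul_mem ha hc, b * d, B.mul_mem hb hd, ?_⟩
        calc a * b * (c * d) = a * (b * c) * d := by group
          _ = a * (c * b) * d := by rw [hab c hc b hb]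
          _ = a * c * (b * d) := by group
      one_mem' := ⟨1, A.one_mem, 1, B.one_mem, by simp⟩
      inv_mem' := by
        rintro _ ⟨a, ha, b, hb, rfl⟩
        refine ⟨a⁻¹, A.inv_mem ha, b⁻¹, B.inv_mem hb, ?_⟩
        rw [mul_inv_rev, ← hab a⁻¹ (A.inv_mem ha) b⁻¹ (B.inv_mem hb)] }
  have h1 : A ⊔ B ≤ P := sup_le (fun a ha => ⟨a, ha, 1, B.one_mem, by simp⟩) (fun b hb => ⟨1, A.one_mem, b, hb, by simp⟩)
  exact h1 hx

omit [Finite G] in
theorem card_sup_le {x z : G} (hx : orderOf x = 3) (hz : orderOf z = 3) (hxz : x * z = z * x) :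
    Nat.card (zpowers x ⊔ zpowers z : Subgroup G) ≤ 9 := by
  have hf1 : Finite (zpowers x) := Nat.finite_of_card_ne_zero (by rw [Nat.card_zpowers, hx]; norm_num)
  have hf2 : Finite (zpowers z) := Nat.finite_of_card_ne_zero (by rw [Nat.card_zpowers, hz]; norm_num)
  have h1 : ∀ a ∈ zpowers x, ∀ b ∈ zpowers z, a * b = b * a := by
    rintro _ ⟨i, rfl⟩ _ ⟨j, rfl⟩
    exact ((show Commute x z from hxz).zpow_zpow i j).eq
  have h2 : Nat.card (zpowers x ⊔ zpowers z : Subgroup G) ≤ Nat.card (zpowers x × zpowers z) := by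
    apply Nat.card_le_card_of_surjective
      (fun p => (⟨(p.1 : G) * p.2, mul_mem (mem_sup_left p.1.2) (mem_sup_right p.2.2)⟩ :
        (zpowers x ⊔ zpowers z : Subgroup G)))
    rintro ⟨w, hw⟩
    obtain ⟨a, ha, b, hb, rfl⟩ := mem_sup_comm h1 hw
    exact ⟨(⟨a, ha⟩, ⟨b, hb⟩), rfl⟩
  rw [Nat.card_prod, Nat.card_zpowers, Nat.card_zpowers, hx, hz] at h2
  exact h2

namespace Gl

variable {Q : Subgroup G} {z t g : G} {S : Sylow 3 G} (h : Gl Q z t g S)

include h

/-- the components of the conjugate `x` of `z` -/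
theorem comp : ∃ a ∈ one Q t, ∃ b ∈ two Q t, g * z * g⁻¹ = a * b ∧ a ∉ zpowers z ∧ b ∉ zpowers z ∧
    a = ⁅t, g * z * g⁻¹⁆ := by
  obtain ⟨-, -, -, s, f, -, -, hsz, hsx, -, hf, -, hfx, e⟩ := exists_pair h.hy.toCe (h.hy.toCe.conj g) h.gx h.gxz
  exact h.hy.exists_comp h.gx (h.hy.not_mem_one h.gxz hf hfx hsz hsx e) (h.hy.not_mem_two h.gxz hf hfx hsz hsx e)

/-- normal `3'`-subgroups are trivial -/
theorem bot_of_prime {M : Subgroup G} (hM : M.Normal) (h3 : ¬ 3 ∣ Nat.card M) : M = ⊥ := by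
  have hF : Fact (Nat.Prime 3) := ⟨Nat.prime_three⟩
  -- the centralizer of `z` in `M`
  have hMQ : ∀ y ∈ M, y ∈ Q → y = 1 := by
    intro y hy hyQ
    have h1 : orderOf y ∣ 3 := orderOf_dvd_of_pow_eq_one (h.hy.ex.exp y hyQ)
    rcases (Nat.dvd_prime Nat.prime_three).1 h1 with h2 | h2
    · exact orderOf_eq_one_iff.1 h2
    · exfalso
      apply h3
      rw [← h2]
      have := _root_.orderOf_dvd_natCard (⟨y, hy⟩ : M)
      rwa [Subgroup.orderOf_mk] at this
  have hMz : ∀ y ∈ M, y * z = z * y → y = 1 := by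
    intro y hy hyz
    apply hMQ y hy
    apply h.cQ
    rw [mem_centralizer_iff]
    intro q hq
    have h1 : ⁅q, y⁆ ∈ M := by
      rw [commutatorElement_def]
      exact mul_mem (hM.conj_mem y hy q) (inv_mem hy)
    have h2 : ⁅q, y⁆ ∈ Q := by
      have e : ⁅q, y⁆ = q * (y * q⁻¹ * y⁻¹) := by rw [commutatorElement_def]; group
      rw [e]
      exact mul_mem hq (h.hy.nor y hyz _ (inv_mem hq))
    exact commutatorElement_eq_one_iff_mul_comm.1 (hMQ _ h1 h2)
  have hMc : ∀ k : G, ∀ y ∈ M, y * (k * z * k⁻¹) = (k * z * k⁻¹) * y → y = 1 := by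
    intro k y hy hyk
    have h1 := hMz _ (hM.conj_mem y hy k⁻¹) (by rw [inv_inv]; exact conj_comm_iff.1 hyk)
    exact conj_eq_one_iff.1 h1
  -- the elementary abelian group `⟨x, z⟩`
  obtain ⟨x, hx⟩ : ∃ x, x = g * z * g⁻¹ := ⟨_, rfl⟩
  have hxQ : x ∈ Q := by rw [hx]; exact h.gx
  have hxz : x ∉ zpowers z := by rw [hx]; exact h.gxz
  have hcomm : x * z = z * x := h.hy.ex.zc x hxQ
  have hab : ∀ a ∈ zpowers x ⊔ zpowers z, ∀ b ∈ zpowers x ⊔ zpowers z, a * b = b * a := by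
    refine comm_of_sup ?_ ?_
    · rintro _ ⟨i, rfl⟩ _ ⟨j, rfl⟩
      exact (Commute.refl x).zpow_zpow i j
    · rintro _ ⟨i, rfl⟩
      exact ((show Commute x z from hcomm).zpow_left i).eq
  have hleQ : zpowers x ⊔ zpowers z ≤ Q := sup_le (by rw [zpowers_le]; exact hxQ) h.hy.ex.zle
  have hA : Cfsg.IsElementaryAbelian 3 (zpowers x ⊔ zpowers z) :=
    ⟨⟨⟨fun a b => Subtype.ext (hab a a.2 b b.2)⟩⟩, fun a ha => h.hy.ex.exp a (hleQ ha)⟩
  have hA2 : 3 ^ 2 ≤ Nat.card (zpowers x ⊔ zpowers z : Subgroup G) := by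
    have h5 : 3 < Nat.card (zpowers x ⊔ zpowers z : Subgroup G) := by
      by_contra h6
      push Not at h6
      have h7 : zpowers z = zpowers x ⊔ zpowers z :=
        Subgroup.eq_of_le_of_card_ge le_sup_right (by rw [h.hy.ex.card_z]; exact h6)
      exact hxz (h7 ▸ mem_sup_left (mem_zpowers x))
    have h6 : Nat.card (zpowers x ⊔ zpowers z : Subgroup G) ∣ 3 ^ 5 := by
      rw [← h.hy.ex.card]; exact Subgroup.card_dvd_of_le hleQ
    obtain ⟨j, hj, hj2⟩ := (Nat.dvd_prime_pow Nat.prime_three).1 h6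
    rw [hj2]
    apply Nat.pow_le_pow_right (by norm_num)
    by_contra h7
    have h8 : j ≤ 1 := by omega
    have := Nat.pow_le_pow_right (show 0 < 3 by norm_num) h8
    omega
  have hgen := Cfsg.Agent.SignalizersComponents.CoprimeGen.le_iSup_centralizer_ne_one hA hA2 h3
    (by rw [normalizer_eq_top]; exact le_top : zpowers x ⊔ zpowers z ≤ normalizer (M : Set G))
  rw [eq_bot_iff]
  refine hgen.trans (iSup_le ?_)
  rintro ⟨a, ha, ha1⟩ y ⟨hyM, hya⟩
  rw [mem_bot]
  have hya' : y * a = a * y := mem_centralizer_singleton_iff.1 hya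
  -- `a` is conjugate into `⟨z⟩`
  obtain ⟨a', ⟨j, rfl⟩, c, hc, rfl⟩ := mem_sup_comm (fun a ha b hb => hab a (mem_sup_left ha) b (mem_sup_right hb)) ha
  simp only at ha1 hya'
  have hxo : orderOf x = 3 := by
    rw [hx]; exact (h.hy.toCe.conj g).ex.order
  obtain ⟨k, hk⟩ : ∃ k : G, k * z * k⁻¹ ∈ zpowers (x ^ j * c) := by
    by_cases hj : x ^ j ∈ zpowers z
    · have h1 : x ^ j = 1 := by
        by_contra h2
        apply hxz
        have h3 := mem_zpowers_of_three hxo (⟨j, rfl⟩ : x ^ j ∈ zpowers x) h2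
        exact (zpowers_le.2 hj : zpowers (x ^ j) ≤ zpowers z) h3
      rw [h1, one_mul] at ha1 ⊢
      refine ⟨1, ?_⟩
      rw [one_mul, inv_one, mul_one]
      exact mem_zpowers_of_three h.hy.ex.order hc ha1
    · obtain ⟨q, hq, hq2⟩ := h.hy.ex.exists_conj (zpow_mem hxQ j) hj hc
      refine ⟨q * g, ?_⟩
      have h1 : x ^ j * c = q * x ^ j * q⁻¹ := by rw [hq2]; exact h.hy.ex.comm_z (zpow_mem hxQ j) hc
      have h2 : q * g * z * (q * g)⁻¹ = q * x * q⁻¹ := by rw [hx]; group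
      rw [h1, h2, mem_zpowers_conj]
      have h3 : q⁻¹ * (q * x * q⁻¹) * q = x := by group
      rw [h3]
      refine mem_zpowers_of_three hxo ⟨j, rfl⟩ ?_
      intro h4
      rw [h4] at hj
      exact hj (one_mem _)
  obtain ⟨i, hi⟩ := hk
  apply hMc k y hyM
  simp only at hi
  rw [← hi]
  exact ((show Commute y (x ^ j * c) from hya').zpow_right i).eq

/-- a nonabelian subgroup cannot lie in an abelian one -/
theorem not_abelian {A : Subgroup G} (hA : ∀ a ∈ A, ∀ b ∈ A, a * b = b * a) : ¬ one Q t ≤ A := by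
  intro h1
  have h2 : one Q t ≤ zpowers z := fun a ha => h.hy.tt.cen_one ha (fun b hb => hA a (h1 ha) b (h1 hb))
  have h3 := Subgroup.card_dvd_of_le h2
  rw [h.hy.card1, h.hy.ex.card_z] at h3
  norm_num at h3

/-- `z` lies in the nontrivial normal subgroups -/
theorem z_mem {N : Subgroup G} (hN : N.Normal) (hne : N ≠ ⊥) : z ∈ N := by
  have hF : Fact (Nat.Prime 3) := ⟨Nat.prime_three⟩
  have h3 : 3 ∣ Nat.card N := by
    by_contra h1
    exact hne (h.bot_of_prime hN h1)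
  obtain ⟨y, hy⟩ := exists_prime_orderOf_dvd_card' 3 h3
  have hy1 : (y : G) ≠ 1 := by
    intro h1
    have h2 : y = 1 := Subtype.ext h1
    rw [h2, orderOf_one] at hy
    norm_num at hy
  have hp : IsPGroup 3 (zpowers (y : G)) := by
    refine IsPGroup.of_card_dvd_pow (n := 1) ?_
    rw [Nat.card_zpowers, Subgroup.orderOf_coe, hy, pow_one]
  obtain ⟨P, hP⟩ := hp.exists_le_sylow
  obtain ⟨k, hk⟩ := MulAction.exists_smul_eq G P S
  have hky : k * (y : G) * k⁻¹ ∈ (S : Subgroup G) := by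
    rw [← hk]
    exact Subgroup.smul_mem_pointwise_smul (y : G) (MulAut.conj k) (P : Subgroup G) (hP (Subgroup.mem_zpowers _))
  have hD1 : N ⊓ (S : Subgroup G) ≠ ⊥ := by
    intro hb
    have h1 : k * (y : G) * k⁻¹ ∈ N ⊓ (S : Subgroup G) := ⟨hN.conj_mem _ y.2 k, hky⟩
    rw [hb, Subgroup.mem_bot] at h1
    exact hy1 (conj_eq_one_iff.1 h1)
  obtain ⟨w, hw, hw1, hc⟩ := Cfsg.Agent.Characters.CNBasic.exists_mem_center_of_normal (S : Subgroup G) S.isPGroup'
    (N ⊓ (S : Subgroup G)) (S.isPGroup'.to_le inf_le_right) hD1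
    (fun s hs d hd => ⟨hN.conj_mem _ hd.1 s, (S : Subgroup G).mul_mem ((S : Subgroup G).mul_mem hs hd.2)
      ((S : Subgroup G).inv_mem hs)⟩)
  have h1 := h.cS w hw.2 hc
  exact (zpowers_le.2 hw.1 : zpowers w ≤ N) (mem_zpowers_of_three h.hy.ex.order h1 hw1)

/-- normal abelian subgroups are trivial -/
theorem bot_of_abelian {A : Subgroup G} (hA : A.Normal) (hab : ∀ a ∈ A, ∀ b ∈ A, a * b = b * a) : A = ⊥ := by
  by_contra hne
  have hz := h.z_mem hA hne
  obtain ⟨a, ha, b, hb, e, haz, hbz, hat⟩ := h.comp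
  have hx : g * z * g⁻¹ ∈ A := hA.conj_mem z hz g
  have h1 := h.hy.le_of_comp (R := A) (fun c _ r hr => hA.conj_mem r hr c) hz hx ha haz hat e
  exact h.not_abelian hab h1.1

theorem fitting_bot : fittingSubgroup G = ⊥ := by
  have hn : (fittingSubgroup G).Normal := Cfsg.Agent.Lib.Cores.fittingSubgroup_normal
  by_contra hne
  have hnil : Group.IsNilpotent (fittingSubgroup G) := Cfsg.Agent.Lib.Cores.fittingSubgroup_isNilpotent
  have h1 : ((center (fittingSubgroup G)).map (fittingSubgroup G).subtype).Normal := inferInstance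
  have h2 := h.bot_of_abelian h1 (by
    rintro _ ⟨a, ha, rfl⟩ _ ⟨b, hb, rfl⟩
    exact congrArg Subtype.val (Subgroup.mem_center_iff.1 hb a))
  have h3 : center (fittingSubgroup G) = ⊥ := by
    rw [eq_bot_iff]
    intro a ha
    have h4 : (a : G) ∈ (center (fittingSubgroup G)).map (fittingSubgroup G).subtype := ⟨a, ha, rfl⟩
    rw [h2, mem_bot] at h4
    rw [mem_bot]
    exact Subtype.ext h4
  have h4 : Nontrivial (fittingSubgroup G) := (Subgroup.nontrivial_iff_ne_bot _).2 hne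
  exact Group.IsNilpotent.center_ne_bot _ h3

/-- components do not centralise `z` -/
theorem not_le_of_component {K : Subgroup G} (hK : IsComponent K) : ¬ ∀ k ∈ K, k * z = z * k := by
  intro hle
  have h1 : K ≤ centralizer ({z} : Set G) := fun k hk => mem_centralizer_singleton_iff.2 (hle k hk)
  have := h.solv
  have h2 : Group.IsSolvable K := Group.isSolvable_of_isSolvable_injective (Subgroup.inclusion_injective h1)
  exact quasisimple_not_isSolvable hK.2 h2

/-- **The reduction.** -/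
theorem simple : (layer G).Normal ∧ IsSimpleGroup (layer G) ∧ ¬ IsMulCommutative (layer G) ∧ z ∈ layer G ∧
    centralizer (layer G : Set G) = ⊥ ∧ generalizedFittingSubgroup G = layer G := by
  have hF3 : Fact (Nat.Prime 3) := ⟨Nat.prime_three⟩
  have hF := h.fitting_bot
  have hE : generalizedFittingSubgroup G = layer G := by
    rw [Cfsg.Agent.Lib.GenFitting.genFitting_def, hF, sup_bot_eq]
  have hFn : (generalizedFittingSubgroup G).Normal := Cfsg.Agent.Lib.GenFitting.genFitting_normal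
  have hEn : (layer G).Normal := by rw [← hE]; exact hFn
  have hCle := Cfsg.Agent.Lib.GenFitting.centralizer_genFitting_le (G := G)
  rw [hE] at hCle
  have hcn : (centralizer (layer G : Set G)).Normal := inferInstance
  have hCE : centralizer (layer G : Set G) = ⊥ :=
    h.bot_of_abelian hcn (fun a ha b hb => (mem_centralizer_iff.1 hb a (hCle ha)))
  have hEne : layer G ≠ ⊥ := by
    intro hb
    rw [hb] at hCE
    apply h.hy.ex.z1
    have : z ∈ centralizer ((⊥ : Subgroup G) : Set G) := by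
      rw [mem_centralizer_iff]
      intro y hy
      rw [Subgroup.mem_bot.1 hy, one_mul, mul_one]
    rw [hCE, mem_bot] at this
    exact this
  have hzE : z ∈ layer G := h.z_mem hEn hEne
  -- a component
  obtain ⟨L, hL⟩ : ∃ L : Subgroup G, IsComponent L := by
    by_contra hcon
    push Not at hcon
    apply hEne
    rw [eq_bot_iff]
    exact (layer_le_iff).2 fun K hK => absurd hK (hcon K)
  have hLE : L ≤ layer G := component_le_layer hL
  -- decomposition with respect to any component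
  have hLM : ∀ L : Subgroup G, IsComponent L → ∀ x ∈ L, (∀ y ∈ L, y * x = x * y) → x = 1 := by
    intro L hL x hx hxc
    have h1 : x ∈ centralizer (layer G : Set G) := by
      have h2 : layer G ≤ centralizer ({x} : Set G) := by
        rw [layer_le_iff]
        intro K hK k hk
        rw [Subgroup.mem_centralizer_singleton_iff]
        by_cases hKL : K = L
        · subst hKL
          exact hxc k hk
        · exact (mem_centralizer_iff.1 (component_le_centralizer_of_ne hK hL hKL hk) x hx).symm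
      rw [mem_centralizer_iff]
      intro y hy
      exact (Subgroup.mem_centralizer_singleton_iff.1 (h2 hy))
    rw [hCE] at h1
    exact Subgroup.mem_bot.1 h1
  have hdec : ∀ L : Subgroup G, IsComponent L → ∀ x ∈ layer G, ∃ a ∈ L, ∃ b ∈ centralizer (L : Set G), x = a * b := by
    intro L hL x hx
    refine mem_sup_comm (fun a ha b hb => mem_centralizer_iff.1 hb a ha) ?_
    have h1 : layer G ≤ L ⊔ centralizer (L : Set G) := by
      rw [layer_le_iff]
      intro K hK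
      by_cases hKL : K = L
      · rw [hKL]; exact le_sup_left
      · exact (component_le_centralizer_of_ne hK hL hKL).trans le_sup_right
    exact h1 hx
  -- uniqueness of the decomposition
  have huq : ∀ L : Subgroup G, IsComponent L → ∀ a ∈ L, ∀ b ∈ centralizer (L : Set G), ∀ a' ∈ L,
      ∀ b' ∈ centralizer (L : Set G), a * b = a' * b' → a = a' := by
    intro L hL a ha b hb a' ha' b' hb' e
    have h1 : a'⁻¹ * a = b' * b⁻¹ := by
      rw [eq_mul_inv_iff_mul_eq, mul_assoc, e]; group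
    have h2 : a'⁻¹ * a = 1 := by
      apply hLM L hL _ (mul_mem (inv_mem ha') ha)
      rw [h1]
      intro y hy
      exact mem_centralizer_iff.1 (mul_mem hb' (inv_mem hb)) y hy
    exact (inv_mul_eq_one.1 h2).symm
  -- the centre of `C_E(z)`
  obtain ⟨a, ha, b, hb, hzab⟩ := hdec L hL z hzE
  have hab : a * b = b * a := mem_centralizer_iff.1 hb a ha
  have ha3 : a ^ 3 = 1 := by
    have h1 : a ^ 3 * b ^ 3 = 1 * 1 := by
      rw [← (show Commute a b from hab).mul_pow, ← hzab, h.hy.ex.zz, one_mul]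
    exact huq L hL _ (pow_mem ha 3) _ (pow_mem hb 3) 1 (one_mem _) 1 (one_mem _) h1
  have ha1 : a ≠ 1 := by
    rintro rfl
    apply h.not_le_of_component hL
    intro x hx
    rw [hzab, one_mul]
    exact mem_centralizer_iff.1 hb x hx
  have haC : ∀ y ∈ layer G, y * z = z * y → a * y = y * a := by
    intro y hy hyz
    obtain ⟨c, hc, d, hd, rfl⟩ := hdec L hL y hy
    have hcd := mem_centralizer_iff.1 hd c hc
    have had := mem_centralizer_iff.1 hd a ha
    have hcb := mem_centralizer_iff.1 hb c hc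
    have h1 : (c * a) * (d * b) = (a * c) * (b * d) := by
      calc (c * a) * (d * b) = c * (a * d) * b := by group
        _ = (c * d) * (a * b) := by rw [had]; group
        _ = (a * b) * (c * d) := by rw [← hzab]; exact hyz
        _ = a * (b * c) * d := by group
        _ = (a * c) * (b * d) := by rw [← hcb]; group
    have h2 := huq L hL _ (mul_mem hc ha) _ (mul_mem hd hb) _ (mul_mem ha hc) _ (mul_mem hb hd) h1
    calc a * (c * d) = (a * c) * d := by group
      _ = c * (a * d) := by rw [← h2]; group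
      _ = c * d * a := by rw [had]; group
  -- the group of the elements of order three in the centre
  let N : Subgroup G :=
    { carrier := {y | y ∈ layer G ∧ y * z = z * y ∧ (∀ w ∈ layer G, w * z = z * w → y * w = w * y) ∧ y ^ 3 = 1}
      mul_mem' := by
        rintro u v ⟨hu1, hu2, hu3, hu4⟩ ⟨hv1, hv2, hv3, hv4⟩
        refine ⟨mul_mem hu1 hv1, ((show Commute u z from hu2).mul_left hv2).eq, fun w hw hwz => ?_, ?_⟩
        · exact ((show Commute u w from hu3 w hw hwz).mul_left (hv3 w hw hwz)).eq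
        · rw [(show Commute u v from hu3 v hv1 hv2).mul_pow, hu4, hv4, one_mul]
      one_mem' := ⟨one_mem _, by simp, fun w _ _ => by simp, one_pow 3⟩
      inv_mem' := by
        rintro u ⟨hu1, hu2, hu3, hu4⟩
        refine ⟨inv_mem hu1, ((show Commute u z from hu2).inv_left).eq, fun w hw hwz => ?_, ?_⟩
        · exact ((show Commute u w from hu3 w hw hwz).inv_left).eq
        · rw [inv_pow, hu4, inv_one] }
  have hNQ : N ≤ Q := by
    refine h.pcore N (fun n hn => hn.2.1) ?_ ?_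
    · rintro c hc n ⟨hn1, hn2, hn3, hn4⟩
      have hc' : c⁻¹ * z = z * c⁻¹ := ((show Commute c z from hc).inv_left).eq
      refine ⟨hEn.conj_mem n hn1 c, ?_, fun w hw hwz => ?_, ?_⟩
      · have h1 : Commute (c * n * c⁻¹) z :=
          ((show Commute c z from hc).mul_left hn2).mul_left hc'
        exact h1.eq
      · have h1 := hn3 (c⁻¹ * w * c) (by have := hEn.conj_mem w hw c⁻¹; rwa [inv_inv] at this)
          ((((show Commute c⁻¹ z from hc').mul_left hwz).mul_left hc).eq)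
        calc c * n * c⁻¹ * w = c * (n * (c⁻¹ * w * c)) * c⁻¹ := by group
          _ = c * ((c⁻¹ * w * c) * n) * c⁻¹ := by rw [h1]
          _ = _ := by group
      · rw [conj_pow, hn4]; group
    · rw [IsPGroup]
      rintro ⟨n, hn⟩
      exact ⟨1, Subtype.ext hn.2.2.2⟩
  have haN : a ∈ N := ⟨hLE ha, by rw [hzab, mul_assoc a b a, ← hab], haC, ha3⟩
  -- `N` has order at most nine
  obtain ⟨u, hu, v, hv, e, huz, hvz, hut⟩ := h.comp
  have hxR : g * z * g⁻¹ ∈ layer G ⊓ Q := ⟨hEn.conj_mem z hzE g, h.gx⟩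
  have hR := h.hy.le_of_comp (R := layer G ⊓ Q) (fun c hc r hr => ⟨hEn.conj_mem r hr.1 c, h.hy.nor c hc r hr.2⟩)
    ⟨hzE, h.hy.ex.zQ⟩ hxR hu huz hut e
  have hNW : N ≤ zpowers v ⊔ zpowers z := by
    intro y hy
    refine h.hy.cen_le hR.1 hR.2 hv hvz (hNQ hy) (fun r hr => ?_)
    exact hy.2.2.1 r hr.1 (h.hy.ex.zc r hr.2)
  have hvo : orderOf v = 3 := orderOf_eq_prime (h.hy.ex.exp v (h.hy.tt.two_le hv)) (by rintro rfl; exact hvz (one_mem _))
  have hN9 : Nat.card N ≤ 9 := by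
    have h1 := card_sup_le hvo h.hy.ex.order (h.hy.ex.zc v (h.hy.tt.two_le hv))
    have hf : Finite (zpowers v ⊔ zpowers z : Subgroup G) := inferInstance
    exact (Nat.card_le_card_of_injective _ (Subgroup.inclusion_injective hNW)).trans h1
  -- conjugates of `a`
  have hcomp : ∀ k : G, k * z = z * k → ∀ L' : Subgroup G, L' = cj k L →
      IsComponent L' ∧ k * a * k⁻¹ ∈ L' ∧ k * a * k⁻¹ ∈ N := by
    intro k hk L' hL'
    refine ⟨by rw [hL']; exact isComponent_conj k hL, ?_, ?_⟩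
    · rw [hL', mem_cj]
      have : k⁻¹ * (k * a * k⁻¹) * k = a := by group
      rw [this]; exact ha
    · obtain ⟨hn1, hn2, hn3, hn4⟩ := haN
      have hk' : k⁻¹ * z = z * k⁻¹ := ((show Commute k z from hk).inv_left).eq
      refine ⟨hEn.conj_mem a hn1 k, ?_, fun w hw hwz => ?_, ?_⟩
      · exact (((show Commute k z from hk).mul_left hn2).mul_left hk').eq
      · have h1 := hn3 (k⁻¹ * w * k) (by have := hEn.conj_mem w hw k⁻¹; rwa [inv_inv] at this)
          ((((show Commute k⁻¹ z from hk').mul_left hwz).mul_left hk).eq)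
        calc k * a * k⁻¹ * w = k * (a * (k⁻¹ * w * k)) * k⁻¹ := by group
          _ = k * ((k⁻¹ * w * k) * a) * k⁻¹ := by rw [h1]
          _ = _ := by group
      · rw [conj_pow, hn4]; group
  -- `S` normalises `L`
  have hSL : ∀ s ∈ S, cj s L = L := by
    intro s hs
    by_contra hne
    have hsz := h.Sz s hs
    have hs2z : (s * s) * z = z * (s * s) := ((show Commute s z from hsz).mul_left hsz).eq
    obtain ⟨hL1, ha1L, ha1N⟩ := hcomp s hsz (cj s L) rfl
    obtain ⟨hL2, ha2L, ha2N⟩ := hcomp (s * s) hs2z (cj (s * s) L) rfl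
    have hcc : ∀ k l : G, cj (k * l) L = cj k (cj l L) := by
      intro k l
      ext y
      rw [mem_cj, mem_cj, mem_cj]
      have : (k * l)⁻¹ * y * (k * l) = l⁻¹ * (k⁻¹ * y * k) * l := by group
      rw [this]
    have hinj : ∀ (k : G) (A B : Subgroup G), cj k A = cj k B → A = B := by
      intro k A B hAB
      ext y
      have h1 : k * y * k⁻¹ ∈ cj k A ↔ k * y * k⁻¹ ∈ cj k B := by rw [hAB]
      rw [mem_cj, mem_cj] at h1
      have h2 : k⁻¹ * (k * y * k⁻¹) * k = y := by group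
      rwa [h2] at h1
    have h12 : cj (s * s) L ≠ cj s L := by
      rw [hcc]
      intro h1
      exact hne (hinj s _ _ h1)
    have h02 : cj (s * s) L ≠ L := by
      intro h1
      -- `s` is a power of `s * s`
      have hstab : ∀ n : ℕ, cj ((s * s) ^ n) L = L := by
        intro n
        induction n with
        | zero =>
          ext y; rw [pow_zero, mem_cj, inv_one, one_mul, mul_one]
        | succ n ih => rw [pow_succ, hcc, h1, ih]
      obtain ⟨m, hm⟩ := (S.isPGroup') ⟨s, hs⟩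
      have hm' : s ^ 3 ^ m = 1 := congrArg Subtype.val hm
      have hodd : Odd (3 ^ m) := Odd.pow (by decide)
      obtain ⟨r, hr⟩ := hodd
      have h3 : (s * s) ^ (r + 1) = s := by
        rw [← pow_two, ← pow_mul]
        have : 2 * (r + 1) = 3 ^ m + 1 := by rw [hr]; ring
        rw [this, pow_succ, hm', one_mul]
      apply hne
      have h4 := hstab (r + 1)
      rwa [h3] at h4
    -- the centralisers
    have hc1 := component_le_centralizer_of_ne hL1 hL (fun h1 => hne h1)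
    have hc2 := component_le_centralizer_of_ne hL2 hL h02
    have hc21 := component_le_centralizer_of_ne hL2 hL1 h12
    obtain ⟨a1, ha1'⟩ : ∃ a1, a1 = s * a * s⁻¹ := ⟨_, rfl⟩
    obtain ⟨a2, ha2'⟩ : ∃ a2, a2 = (s * s) * a * (s * s)⁻¹ := ⟨_, rfl⟩
    rw [← ha1'] at ha1L ha1N
    rw [← ha2'] at ha2L ha2N
    have hao : orderOf a = 3 := orderOf_eq_prime ha3 ha1
    have ha1ne : a1 ≠ 1 := by rw [ha1']; intro h1; exact ha1 (conj_eq_one_iff.1 h1)
    have ha2ne : a2 ≠ 1 := by rw [ha2']; intro h1; exact ha1 (conj_eq_one_iff.1 h1)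
    have ha1o : orderOf a1 = 3 := orderOf_eq_prime (ha1N.2.2.2) ha1ne
    have haa1 : a * a1 = a1 * a := haN.2.2.1 a1 ha1N.1 ha1N.2.1
    have hN' : zpowers a ⊔ zpowers a1 = N := by
      have h1 : zpowers a ⊔ zpowers a1 ≤ N := sup_le (by rw [zpowers_le]; exact haN) (by rw [zpowers_le]; exact ha1N)
      refine Subgroup.eq_of_le_of_card_ge h1 (hN9.trans ?_)
      by_contra h2
      push Not at h2
      have h3 : Nat.card (zpowers a ⊔ zpowers a1 : Subgroup G) ∣ 3 ^ 5 := by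
        rw [← h.hy.ex.card]; exact Subgroup.card_dvd_of_le (h1.trans hNQ)
      obtain ⟨j, hj, hj2⟩ := (Nat.dvd_prime_pow Nat.prime_three).1 h3
      have h4 : j ≤ 1 := by
        by_contra h5
        have h6 : 2 ≤ j := by omega
        have := Nat.pow_le_pow_right (show 0 < 3 by norm_num) h6
        omega
      have h5 : Nat.card (zpowers a ⊔ zpowers a1 : Subgroup G) ≤ 3 := by
        rw [hj2]
        exact Nat.pow_le_pow_right (show 0 < 3 by norm_num) h4
      have h6 : zpowers a = zpowers a ⊔ zpowers a1 :=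
        Subgroup.eq_of_le_of_card_ge le_sup_left (by rw [Nat.card_zpowers, hao]; exact h5)
      have h7 : a1 ∈ zpowers a := by rw [h6]; exact mem_sup_right (mem_zpowers a1)
      have h8 : a1 ∈ L := (zpowers_le.2 ha : zpowers a ≤ L) h7
      exact ha1ne (hLM L hL a1 h8 (fun y hy => mem_centralizer_iff.1 (hc1 ha1L) y hy))
    have h1 : a2 ∈ zpowers a ⊔ zpowers a1 := by rw [hN']; exact ha2N
    obtain ⟨p, hp, q, hq, e2⟩ := mem_sup_comm (by
      rintro _ ⟨i, rfl⟩ _ ⟨j, rfl⟩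
      exact ((show Commute a a1 from haa1).zpow_zpow i j).eq) h1
    have hpL : p ∈ L := (zpowers_le.2 ha : zpowers a ≤ L) hp
    have hqL : q ∈ cj s L := (zpowers_le.2 ha1L : zpowers a1 ≤ cj s L) hq
    have hp1 : p = 1 := by
      apply hLM L hL p hpL
      have e3 : p = a2 * q⁻¹ := by rw [e2]; group
      rw [e3]
      intro y hy
      exact mem_centralizer_iff.1 (mul_mem (hc2 ha2L) (inv_mem (hc1 hqL))) y hy
    rw [hp1, one_mul] at e2
    apply ha2ne
    apply hLM _ hL1 a2 (by rw [e2]; exact hqL)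
    intro y hy
    exact mem_centralizer_iff.1 (hc21 ha2L) y hy
  -- hence `a ∈ Z(S)`
  have hacen : ∀ s ∈ S, s * a = a * s := by
    intro s hs
    have h1 := hSL s hs
    have h2 : s * a * s⁻¹ ∈ L := by
      rw [← h1, mem_cj]
      have : s⁻¹ * (s * a * s⁻¹) * s = a := by group
      rw [this]; exact ha
    have h3 : s * b * s⁻¹ ∈ centralizer (L : Set G) := by
      rw [mem_centralizer_iff]
      intro y hy
      have h4 : s⁻¹ * y * s ∈ L := by
        have h5 : y ∈ L := hy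
        rw [← h1, mem_cj] at h5
        exact h5
      have h5 := mem_centralizer_iff.1 hb _ h4
      calc y * (s * b * s⁻¹) = s * ((s⁻¹ * y * s) * b) * s⁻¹ := by group
        _ = s * (b * (s⁻¹ * y * s)) * s⁻¹ := by rw [h5]
        _ = _ := by group
    have h4 : (s * a * s⁻¹) * (s * b * s⁻¹) = a * b := by
      calc (s * a * s⁻¹) * (s * b * s⁻¹) = s * (a * b) * s⁻¹ := by group
        _ = a * b := by rw [← hzab, h.Sz s hs]; group
    have h5 := huq L hL _ h2 _ h3 a ha b hb h4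
    rwa [mul_inv_eq_iff_eq_mul] at h5
  have haz : a ∈ zpowers z := h.cS a (h.QS (hNQ haN)) hacen
  have hzL : z ∈ L := (zpowers_le.2 ha : zpowers a ≤ L) (mem_zpowers_of_three h.hy.ex.order haz ha1)
  have huniq : ∀ K : Subgroup G, IsComponent K → K = L := by
    intro K hK
    by_contra hne
    apply h.not_le_of_component hK
    intro k hk
    exact (mem_centralizer_iff.1 (component_le_centralizer_of_ne hK hL hne hk) z hzL).symm
  have hEL : layer G = L := by
    refine le_antisymm ?_ hLE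
    rw [layer_le_iff]
    intro K hK
    rw [huniq K hK]
  have hcenter : center L = ⊥ := by
    rw [eq_bot_iff]
    intro x hx
    rw [Subgroup.mem_bot]
    apply Subtype.ext
    exact hLM L hL x x.2 (fun y hy => congrArg Subtype.val (Subgroup.mem_center_iff.1 hx ⟨y, hy⟩))
  have hsimple : IsSimpleGroup L := by
    have h1 : IsSimpleGroup (L ⧸ center L) := hL.2.2
    have e : L ⧸ center L ≃* L := (QuotientGroup.quotientMulEquivOfEq hcenter).trans QuotientGroup.quotientBot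
    exact (MulEquiv.isSimpleGroup_congr e).1 h1
  refine ⟨hEn, ?_, ?_, hzE, hCE, hE⟩
  · rw [hEL]; exact hsimple
  · rw [hEL]; exact quasisimple_not_isMulCommutative hL.2

end Gl

end Cfsg.Agent.H351.OE
end

-- part: H351/OE/Mod
section
/-!
# S3372: a module lemma for `SL(2,3)` in characteristic three

`exists_invariant` : a group `V` of exponent three and order `81` with operators `I`, `J`, `S` satisfying the relations
of `SL(2,3)` with `I ^ 2 = -1` has a proper nontrivial invariant subgroup.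
-/

set_option autoImplicit false

namespace Cfsg.Agent.H351.OE.Mod

variable {V : Type*} [AddCommGroup V]

theorem exists_invariant [Finite V] (h3 : ∀ v : V, v + v + v = 0) (hcard : Nat.card V = 81)
    (I J S : AddMonoid.End V) (hI : I * I = -1) (hJ : J * J = -1) (hIJ : I * J = -(J * I))
    (hSI : S * I = J * S) (hSJ : S * J = I * J * S) (hS : S * S * S = 1) :
    ∃ B : AddSubgroup V, B ≠ ⊥ ∧ B ≠ ⊤ ∧ (∀ v ∈ B, I v ∈ B) ∧ (∀ v ∈ B, J v ∈ B) ∧ (∀ v ∈ B, S v ∈ B) := by
  have h3' : (3 : AddMonoid.End V) = 0 := by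
    ext v
    have : (3 : AddMonoid.End V) v = v + v + v := by
      rw [show (3 : AddMonoid.End V) = 1 + 1 + 1 by norm_num]; rfl
    rw [this, h3]; rfl
  -- the element commuting with everything
  obtain ⟨n, hn⟩ : ∃ n : AddMonoid.End V, n = I + J + I * J := ⟨_, rfl⟩
  have hJI : J * I = -(I * J) := by rw [hIJ, neg_neg]
  have hnn : n * n = 0 := by
    have e1 : n * n = I * I + J * J + (I * J) * (I * J) + (I * J + J * I) + (I * (I * J) + (I * J) * I)
        + (J * (I * J) + (I * J) * J) := by rw [hn]; noncomm_ring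
    have e2 : (I * J) * (I * J) = -1 := by
      calc (I * J) * (I * J) = I * (J * I) * J := by noncomm_ring
        _ = -((I * I) * (J * J)) := by rw [hJI]; noncomm_ring
        _ = -1 := by rw [hI, hJ]; noncomm_ring
    have e3 : (I * J) * I = -(I * (I * J)) := by
      calc (I * J) * I = I * (J * I) := by noncomm_ring
        _ = _ := by rw [hJI]; noncomm_ring
    have e4 : J * (I * J) = -((I * J) * J) := by
      calc J * (I * J) = (J * I) * J := by noncomm_ring
        _ = _ := by rw [hJI]; noncomm_ring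
    rw [e1, e2, e3, e4, hJI, hI, hJ]
    have : (-1 : AddMonoid.End V) + -1 + -1 + (I * J + -(I * J)) + (I * (I * J) + -(I * (I * J)))
        + (-(I * J * J) + I * J * J) = -3 := by
      rw [show (3 : AddMonoid.End V) = 1 + 1 + 1 by norm_num]; abel
    rw [this, h3', neg_zero]
  have hSn : S * n = n * S := by
    have e1 : S * (I * J) = I * S := by
      calc S * (I * J) = (S * I) * J := by noncomm_ring
        _ = J * (S * J) := by rw [hSI]; noncomm_ring
        _ = (J * I) * J * S := by rw [hSJ]; noncomm_ring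
        _ = -(I * (J * J)) * S := by rw [hJI]; noncomm_ring
        _ = I * S := by rw [hJ]; noncomm_ring
    calc S * n = S * I + S * J + S * (I * J) := by rw [hn]; noncomm_ring
      _ = J * S + I * J * S + I * S := by rw [hSI, hSJ, e1]
      _ = n * S := by rw [hn]; noncomm_ring
  -- `e = (1 - n) S`
  obtain ⟨e, he⟩ : ∃ e : AddMonoid.End V, e = (1 - n) * S := ⟨_, rfl⟩
  have hcube : (1 - n) * (1 - n) * (1 - n) = 1 := by
    have : (1 - n) * (1 - n) * (1 - n) = 1 - 3 * n + 3 * (n * n) - n * n * n := by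
      rw [show (3 : AddMonoid.End V) = 1 + 1 + 1 by norm_num]; noncomm_ring
    rw [this, hnn, h3']; noncomm_ring
  have hcomS : (1 - n) * S = S * (1 - n) := by
    rw [sub_mul, mul_sub, hSn, one_mul, mul_one]
  have he3 : e * e * e = 1 := by
    have : e * e * e = ((1 - n) * (1 - n) * (1 - n)) * (S * S * S) := by
      rw [he]
      calc (1 - n) * S * ((1 - n) * S) * ((1 - n) * S) = (1 - n) * (S * (1 - n)) * (S * (1 - n)) * S := by noncomm_ring
        _ = (1 - n) * ((1 - n) * S) * ((1 - n) * S) * S := by rw [hcomS]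
        _ = (1 - n) * (1 - n) * (S * (1 - n)) * S * S := by noncomm_ring
        _ = (1 - n) * (1 - n) * ((1 - n) * S) * S * S := by rw [hcomS]
        _ = _ := by noncomm_ring
    rw [this, hcube, hS, mul_one]
  -- `e` commutes with `I`, `J`, `S`
  have hJIJ : J * (I * J) = I := by
    calc J * (I * J) = (J * I) * J := by noncomm_ring
      _ = -(I * (J * J)) := by rw [hJI]; noncomm_ring
      _ = I := by rw [hJ]; noncomm_ring
  have hIIJ : I * (I * J) = -J := by
    calc I * (I * J) = (I * I) * J := by noncomm_ring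
      _ = -J := by rw [hI]; noncomm_ring
  have hIJI : (I * J) * I = J := by
    calc (I * J) * I = I * (J * I) := by noncomm_ring
      _ = -(I * (I * J)) := by rw [hJI]; noncomm_ring
      _ = J := by rw [hIIJ, neg_neg]
  have hIJJ : (I * J) * J = -I := by
    calc (I * J) * J = I * (J * J) := by noncomm_ring
      _ = -I := by rw [hJ]; noncomm_ring
  have hIJIJ : (I * J) * (I * J) = -1 := by
    calc (I * J) * (I * J) = ((I * J) * I) * J := by noncomm_ring
      _ = -1 := by rw [hIJI, hJ]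
  have heI : e * I = I * e := by
    have e1 : (1 - n) * J = I * (1 - n) := by
      rw [sub_mul, mul_sub, one_mul, mul_one, hn, add_mul, add_mul, mul_add, mul_add, hJ, hIJJ, hI, hIIJ]
      abel
    calc e * I = (1 - n) * (S * I) := by rw [he]; noncomm_ring
      _ = ((1 - n) * J) * S := by rw [hSI]; noncomm_ring
      _ = I * e := by rw [e1, he]; noncomm_ring
  have heS : e * S = S * e := by
    calc e * S = ((1 - n) * S) * S := by rw [he]
      _ = (S * (1 - n)) * S := by rw [hcomS]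
      _ = S * e := by rw [he]; noncomm_ring
  have heJ : e * J = J * e := by
    have e1 : (1 - n) * (I * J) = J * (1 - n) := by
      rw [sub_mul, mul_sub, one_mul, mul_one, hn, add_mul, add_mul, mul_add, mul_add, hIIJ, hJIJ, hIJIJ, hJI, hJ]
      abel
    calc e * J = (1 - n) * (S * J) := by rw [he]; noncomm_ring
      _ = ((1 - n) * (I * J)) * S := by rw [hSJ]; noncomm_ring
      _ = J * e := by rw [e1, he]; noncomm_ring
  have hne : Nontrivial V := by
    rw [← Finite.one_lt_card_iff_nontrivial, hcard]; norm_num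
  by_cases h1 : e = 1
  · -- `S = 1 + n` is in the algebra generated by `I`, `J`
    have hS1 : S = 1 + n := by
      have e1 : (1 + n) * (1 - n) = 1 := by
        have : (1 + n) * (1 - n) = 1 - n * n := by noncomm_ring
        rw [this, hnn, sub_zero]
      calc S = ((1 + n) * (1 - n)) * S := by rw [e1, one_mul]
        _ = (1 + n) * e := by rw [he]; noncomm_ring
        _ = 1 + n := by rw [h1, mul_one]
    have hu : (I + J) * (I + J) = 1 := by
      have : (I + J) * (I + J) = I * I + J * J + (I * J + J * I) := by noncomm_ring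
      rw [this, hI, hJ, hJI]
      have h4 : (-1 : AddMonoid.End V) + -1 + (I * J + -(I * J)) = 1 - 3 := by
        rw [show (3 : AddMonoid.End V) = 1 + 1 + 1 by norm_num]; abel
      rw [h4, h3', sub_zero]
    obtain ⟨v, hv0, hv⟩ : ∃ v : V, v ≠ 0 ∧ I v + J v = v := by
      by_contra hcon
      push Not at hcon
      have h4 : ∀ w : V, w + (I w + J w) = 0 := by
        intro w
        by_contra h5
        apply hcon _ h5
        have h6 := DFunLike.congr_fun hu w
        have h7 : I (I w + J w) + J (I w + J w) = w := h6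
        rw [map_add I w, map_add J w, add_add_add_comm, h7]
        rw [add_comm w]
      have h5 : J = -1 - I := by
        ext w
        have := h4 w
        change J w = -w - I w
        rw [add_comm (I w), ← add_assoc] at this
        rw [eq_sub_iff_add_eq]
        have h8 : w + (J w + I w) = 0 := by rw [← add_assoc]; exact this
        exact eq_neg_of_add_eq_zero_right h8
      have h6 : J * J = 1 + I + I + I * I := by rw [h5]; noncomm_ring
      rw [hJ, hI] at h6
      have h7 : I = 1 := by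
        have : (1 : AddMonoid.End V) + I + I + -1 = I + I := by abel
        rw [this] at h6
        have h9 : I + I + I = 0 := by
          have : I + I + I = 3 * I := by rw [show (3 : AddMonoid.End V) = 1 + 1 + 1 by norm_num]; noncomm_ring
          rw [this, h3', zero_mul]
        rw [← h6] at h9
        rw [neg_add_eq_zero] at h9
        exact h9.symm
      rw [h7, one_mul] at hI
      obtain ⟨w, hw⟩ := exists_ne (0 : V)
      have h8 := DFunLike.congr_fun hI w
      change w = -w at h8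
      have h9 : w + w = 0 := by nth_rw 1 [h8]; exact neg_add_cancel w
      have h10 := h3 w
      rw [h9, zero_add] at h10
      exact hw h10
    -- `B = ⟨v, I v⟩`
    have hIv : I (I v) = -v := DFunLike.congr_fun hI v
    have hJv : J v = v - I v := by rw [eq_sub_iff_add_eq, add_comm]; exact hv
    have hJIv : J (I v) = -v - I v := by
      have h4 := DFunLike.congr_fun hJI v
      change J (I v) = -(I (J v)) at h4
      rw [h4, hJv, map_sub, hIv]; abel
    obtain ⟨B, hB⟩ : ∃ B : AddSubgroup V, B = AddSubgroup.zmultiples v ⊔ AddSubgroup.zmultiples (I v) := ⟨_, rfl⟩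
    have hvB : v ∈ B := by rw [hB]; exact AddSubgroup.mem_sup_left (AddSubgroup.mem_zmultiples v)
    have hIvB : I v ∈ B := by rw [hB]; exact AddSubgroup.mem_sup_right (AddSubgroup.mem_zmultiples (I v))
    have hgen : ∀ F : AddMonoid.End V, F v ∈ B → F (I v) ∈ B → ∀ w ∈ B, F w ∈ B := by
      intro F h4 h5 w hw
      rw [hB, AddSubgroup.mem_sup] at hw
      obtain ⟨y, hy, y', hy', rfl⟩ := hw
      obtain ⟨m, rfl⟩ := AddSubgroup.mem_zmultiples_iff.1 hy
      obtain ⟨m', rfl⟩ := AddSubgroup.mem_zmultiples_iff.1 hy'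
      rw [map_add, map_zsmul, map_zsmul]
      exact add_mem (AddSubgroup.zsmul_mem _ h4 _) (AddSubgroup.zsmul_mem _ h5 _)
    have hBI : ∀ w ∈ B, I w ∈ B := hgen I hIvB (by rw [hIv]; exact neg_mem hvB)
    have hBJ : ∀ w ∈ B, J w ∈ B :=
      hgen J (by rw [hJv]; exact sub_mem hvB hIvB) (by rw [hJIv]; exact sub_mem (neg_mem hvB) hIvB)
    refine ⟨B, ?_, ?_, hBI, hBJ, ?_⟩
    · intro h4
      rw [h4, AddSubgroup.mem_bot] at hvB
      exact hv0 hvB
    · intro h4
      have h5 : Nat.card B ≤ 9 := by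
        have h6 : Nat.card (AddSubgroup.zmultiples v) ≤ 3 := by
          rw [Nat.card_zmultiples]
          apply Nat.le_of_dvd (by norm_num)
          apply addOrderOf_dvd_of_nsmul_eq_zero
          rw [show (3 : ℕ) = 1 + 1 + 1 from rfl, add_nsmul, add_nsmul, one_nsmul, h3]
        have h7 : Nat.card (AddSubgroup.zmultiples (I v)) ≤ 3 := by
          rw [Nat.card_zmultiples]
          apply Nat.le_of_dvd (by norm_num)
          apply addOrderOf_dvd_of_nsmul_eq_zero
          rw [show (3 : ℕ) = 1 + 1 + 1 from rfl, add_nsmul, add_nsmul, one_nsmul, h3]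
        have h8 : Nat.card B ≤ Nat.card (AddSubgroup.zmultiples v × AddSubgroup.zmultiples (I v)) := by
          apply Nat.card_le_card_of_surjective
            (fun p => (⟨p.1 + p.2, by rw [hB]; exact AddSubgroup.add_mem_sup p.1.2 p.2.2⟩ : B))
          rintro ⟨w, hw⟩
          rw [hB, AddSubgroup.mem_sup] at hw
          obtain ⟨y, hy, y', hy', h9⟩ := hw
          exact ⟨(⟨y, hy⟩, ⟨y', hy'⟩), Subtype.ext h9⟩
        rw [Nat.card_prod] at h8
        exact h8.trans (Nat.mul_le_mul h6 h7)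
      rw [h4, AddSubgroup.card_top, hcard] at h5
      norm_num at h5
    · intro w hw
      rw [hS1, hn]
      change w + (I w + J w + I (J w)) ∈ B
      exact add_mem hw (add_mem (add_mem (hBI w hw) (hBJ w hw)) (hBI _ (hBJ w hw)))
  · -- the kernel of `e - 1`
    have hnil : (e - 1) * ((e - 1) * (e - 1)) = 0 := by
      have : (e - 1) * ((e - 1) * (e - 1)) = e * e * e - 1 - 3 * (e * e) + 3 * e := by
        rw [show (3 : AddMonoid.End V) = 1 + 1 + 1 by norm_num]; noncomm_ring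
      rw [this, he3, h3']; noncomm_ring
    refine ⟨(e - 1).ker, ?_, ?_, ?_, ?_, ?_⟩
    · intro h4
      apply h1
      have hinj : ∀ w : V, (e - 1) w = 0 → w = 0 := fun w hw =>
        (AddSubgroup.mem_bot).1 (h4 ▸ (AddMonoidHom.mem_ker.2 hw))
      rw [← sub_eq_zero]
      ext w
      apply hinj; apply hinj
      exact DFunLike.congr_fun hnil w
    · intro h4
      apply h1
      rw [← sub_eq_zero]
      ext w
      have : w ∈ (e - 1).ker := by rw [h4]; trivial
      exact AddMonoidHom.mem_ker.1 this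
    · intro v hv
      replace hv : (e - 1) v = 0 := hv
      change (e - 1) (I v) = 0
      have h4 : (e - 1) * I = I * (e - 1) := by rw [sub_mul, mul_sub, heI, one_mul, mul_one]
      have h5 := DFunLike.congr_fun h4 v
      change (e - 1) (I v) = I ((e - 1) v) at h5
      rw [h5, hv, map_zero]
    · intro v hv
      replace hv : (e - 1) v = 0 := hv
      change (e - 1) (J v) = 0
      have h4 : (e - 1) * J = J * (e - 1) := by rw [sub_mul, mul_sub, heJ, one_mul, mul_one]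
      have h5 := DFunLike.congr_fun h4 v
      change (e - 1) (J v) = J ((e - 1) v) at h5
      rw [h5, hv, map_zero]
    · intro v hv
      replace hv : (e - 1) v = 0 := hv
      change (e - 1) (S v) = 0
      have h4 : (e - 1) * S = S * (e - 1) := by rw [sub_mul, mul_sub, heS, one_mul, mul_one]
      have h5 := DFunLike.congr_fun h4 v
      change (e - 1) (S v) = S ((e - 1) v) at h5
      rw [h5, hv, map_zero]

end Cfsg.Agent.H351.OE.Mod
end

-- part: H351/OE/VMod
section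
/-!
# S3372: the module `Q/Z`

`exists_between` : if elements `i, j, s` of `C(z)` act on `Q/Z` with the relations of `SL(2,3)` and `i ^ 2` inverts
`Q/Z`, there is a subgroup strictly between `⟨z⟩` and `Q` normalised by `i, j, s`.
-/

set_option autoImplicit false
set_option linter.unusedSectionVars false

namespace Cfsg.Agent.H351.OE

open Subgroup
open scoped commutatorElement

variable {G : Type*} [Group G]

namespace Ex

variable {Q : Subgroup G} {z : G} (h : Ex Q z)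

/-- the centre as a subgroup of `Q` -/
def zq (_ : Ex Q z) : Subgroup Q := (zpowers z).subgroupOf Q

theorem zq_normal : (h.zq).Normal := by
  constructor
  intro n hn g
  rw [zq, mem_subgroupOf] at hn ⊢
  have h1 : (g : G) * n = n * g := h.comm_z g.2 hn
  have h2 : ((g * n * g⁻¹ : Q) : G) = n := by
    change (g : G) * n * (g : G)⁻¹ = n
    rw [h1, mul_inv_cancel_right]
  rw [h2]; exact hn

/-- the group `Q / Z` -/
def V (h : Ex Q z) : Type _ := have := h.zq_normal; Additive (Q ⧸ h.zq)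

noncomputable instance instV (h : Ex Q z) : AddCommGroup h.V :=
  have := h.zq_normal
  { (inferInstance : AddGroup (Additive (Q ⧸ h.zq))) with
    add_comm := by
      intro a b
      induction a using QuotientGroup.induction_on with | _ a => ?_
      induction b using QuotientGroup.induction_on with | _ b => ?_
      apply (QuotientGroup.eq (s := h.zq)).2
      have h1 : ((a * b)⁻¹ * (b * a) : Q) = ⁅b⁻¹, a⁻¹⁆ := by simp only [commutatorElement_def]; group
      rw [h1, zq, mem_subgroupOf]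
      exact h.comm _ (inv_mem b.2) _ (inv_mem a.2) }

/-- the projection -/
def pr (h : Ex Q z) (q : Q) : h.V := have := h.zq_normal; Additive.ofMul (QuotientGroup.mk q : Q ⧸ h.zq)

theorem pr_surj (v : h.V) : ∃ q, h.pr q = v := by
  induction v using QuotientGroup.induction_on with | _ a => ?_
  exact ⟨a, rfl⟩

theorem pr_mul (a b : Q) : h.pr (a * b) = h.pr a + h.pr b := rfl

theorem pr_inv (a : Q) : h.pr a⁻¹ = - h.pr a := rfl

theorem pr_one : h.pr 1 = 0 := rfl

theorem pr_eq {a b : Q} : h.pr a = h.pr b ↔ (a : G)⁻¹ * b ∈ zpowers z := by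
  have := h.zq_normal
  exact (QuotientGroup.eq (s := h.zq)).trans Iff.rfl

theorem pr_eq_zero {a : Q} : h.pr a = 0 ↔ (a : G) ∈ zpowers z := by
  rw [← h.pr_one, h.pr_eq]
  change (a : G)⁻¹ * 1 ∈ zpowers z ↔ _
  rw [mul_one, inv_mem_iff]

theorem card_V : Nat.card h.V = 81 := by
  have := h.zq_normal
  have hf := h.finite
  have h1 := Subgroup.card_mul_index h.zq
  have h2 : Nat.card h.zq = 3 := by
    rw [zq, Nat.card_congr (subgroupOfEquivOfLe h.zle).toEquiv, h.card_z]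
  rw [h2, h.card] at h1
  have h3 : Nat.card h.V = h.zq.index := rfl
  omega

theorem three_V (v : h.V) : v + v + v = 0 := by
  obtain ⟨q, rfl⟩ := h.pr_surj v
  rw [← h.pr_mul, ← h.pr_mul, h.pr_eq_zero]
  have h1 := h.exp q q.2
  have h2 : ((q * q * q : Q) : G) = 1 := by
    change (q : G) * q * q = 1
    rw [← h1, pow_succ, pow_two]
  rw [h2]; exact one_mem _

/-- conjugation on `Q` -/
def cjq {c : G} (hc : ∀ q ∈ Q, c * q * c⁻¹ ∈ Q) : Q →* Q where
  toFun q := ⟨c * q * c⁻¹, hc q q.2⟩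
  map_one' := by apply Subtype.ext; simp
  map_mul' a b := by apply Subtype.ext; simp only [mul_assoc, _root_.Subgroup.coe_mul, _root_.MulMemClass.mk_mul_mk, _root_.inv_mul_cancel_left]

/-- the quotient map -/
def qmap (h : Ex Q z) {c : G} (hc : ∀ q ∈ Q, c * q * c⁻¹ ∈ Q) (hcz : c * z = z * c) :
    have := h.zq_normal; (Q ⧸ h.zq) →* (Q ⧸ h.zq) :=
  have := h.zq_normal
  QuotientGroup.map h.zq h.zq (cjq hc) (by
    intro q hq
    rw [zq, mem_subgroupOf] at hq
    rw [mem_comap, zq, mem_subgroupOf]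
    change c * (q : G) * c⁻¹ ∈ zpowers z
    obtain ⟨i, hi⟩ := hq
    simp only at hi
    rw [← hi, ((show Commute c z from hcz).zpow_right i).eq, mul_inv_cancel_right]
    exact ⟨i, rfl⟩)

/-- the operator of `c ∈ C(z)` on `V` -/
noncomputable def op (h : Ex Q z) {c : G} (hc : ∀ q ∈ Q, c * q * c⁻¹ ∈ Q) (hcz : c * z = z * c) :
    AddMonoid.End h.V :=
  have := h.zq_normal
  { toFun := fun v => h.qmap hc hcz v
    map_zero' := map_one (h.qmap hc hcz)
    map_add' := fun v w => map_mul (h.qmap hc hcz) (show Q ⧸ h.zq from v) (show Q ⧸ h.zq from w) }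

theorem op_mk {c : G} (hc : ∀ q ∈ Q, c * q * c⁻¹ ∈ Q) (hcz : c * z = z * c) (q : Q) :
    h.op hc hcz (h.pr q) = h.pr ⟨c * q * c⁻¹, hc q q.2⟩ := rfl

end Ex

/-- **A subgroup between `⟨z⟩` and `Q`.** -/
theorem exists_between {Q : Subgroup G} {z : G} (h : Ex Q z) {i j s : G} (hi : ∀ q ∈ Q, i * q * i⁻¹ ∈ Q)
    (hj : ∀ q ∈ Q, j * q * j⁻¹ ∈ Q) (hs : ∀ q ∈ Q, s * q * s⁻¹ ∈ Q) (hiz : i * z = z * i) (hjz : j * z = z * j)
    (hsz : s * z = z * s)
    (hinv : ∀ q ∈ Q, (i * i) * q * (i * i)⁻¹ * q ∈ zpowers z)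
    (hji : ∃ r ∈ Q, j * j = i * i * r) (hrel : ∃ r ∈ Q, i * j = (i * i) * (j * i) * r)
    (hsi : ∃ r ∈ Q, s * i = j * s * r) (hsj : ∃ r ∈ Q, s * j = i * j * s * r) (hs3 : s * s * s ∈ Q) :
    ∃ B : Subgroup G, zpowers z < B ∧ B < Q ∧ (∀ b ∈ B, i * b * i⁻¹ ∈ B) ∧ (∀ b ∈ B, j * b * j⁻¹ ∈ B) ∧
      (∀ b ∈ B, s * b * s⁻¹ ∈ B) := by
  have hfin : Finite h.V := Nat.finite_of_card_ne_zero (by rw [h.card_V]; norm_num)
  -- absorption of elements of `Q`
  have habs : ∀ (w : G) (hwz : w * z = z * w) (r : G) (hr : r ∈ Q) (q : Q) (h1 : w * r * q * (w * r)⁻¹ ∈ Q)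
      (h2 : w * q * w⁻¹ ∈ Q), h.pr ⟨w * r * q * (w * r)⁻¹, h1⟩ = h.pr ⟨w * q * w⁻¹, h2⟩ := by
    intro w hwz r hr q h1 h2
    rw [h.pr_eq]
    have h3 : ⁅r, (q : G)⁻¹⁆ ∈ zpowers z := h.comm r hr _ (inv_mem q.2)
    have h4 : (w * r * (q : G) * (w * r)⁻¹)⁻¹ * (w * q * w⁻¹) = w * (⁅r, (q : G)⁻¹⁆) * w⁻¹ := by
      simp only [commutatorElement_def]; group
    rw [h4]
    obtain ⟨k, hk⟩ := h3
    simp only at hk
    rw [← hk, ((show Commute w z from hwz).zpow_right k).eq, mul_inv_cancel_right]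
    exact ⟨k, rfl⟩
  have hcc : ∀ {u v : G}, u * z = z * u → v * z = z * v → (u * v) * z = z * (u * v) := fun hu hv =>
    ((show Commute _ z from hu).mul_left hv).eq
  have hnn : ∀ {u v : G}, (∀ q ∈ Q, u * q * u⁻¹ ∈ Q) → (∀ q ∈ Q, v * q * v⁻¹ ∈ Q) →
      ∀ q ∈ Q, (u * v) * q * (u * v)⁻¹ ∈ Q := by
    intro u v hu hv q hq
    have : (u * v) * q * (u * v)⁻¹ = u * (v * q * v⁻¹) * u⁻¹ := by group
    rw [this]; exact hu _ (hv q hq)
  have hii := hnn hi hi
  have hjj := hnn hj hj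
  have hIJ := hnn hi hj
  have hJI := hnn hj hi
  have hsi' := hnn hs hi
  have hjs := hnn hj hs
  have hsj' := hnn hs hj
  have hijs := hnn hIJ hs
  -- composition of operators
  have hop : ∀ {u v : G} (hu : ∀ q ∈ Q, u * q * u⁻¹ ∈ Q) (hv : ∀ q ∈ Q, v * q * v⁻¹ ∈ Q) (huz : u * z = z * u)
      (hvz : v * z = z * v), h.op hu huz * h.op hv hvz = h.op (hnn hu hv) (hcc huz hvz) := by
    intro u v hu hv huz hvz
    ext w
    obtain ⟨q, rfl⟩ := h.pr_surj w
    change h.op hu huz (h.op hv hvz (h.pr q)) = h.op (hnn hu hv) (hcc huz hvz) (h.pr q)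
    rw [h.op_mk, h.op_mk, h.op_mk]
    congr 1
    apply Subtype.ext
    change u * (v * q * v⁻¹) * u⁻¹ = (u * v) * q * (u * v)⁻¹
    group
  have hopr : ∀ {u v r : G} (hu : ∀ q ∈ Q, u * q * u⁻¹ ∈ Q) (hv : ∀ q ∈ Q, v * q * v⁻¹ ∈ Q) (huz : u * z = z * u)
      (hvz : v * z = z * v), r ∈ Q → u = v * r → h.op hu huz = h.op hv hvz := by
    intro u v r hu hv huz hvz hr huv
    subst huv
    ext w
    obtain ⟨q, rfl⟩ := h.pr_surj w
    rw [h.op_mk, h.op_mk]
    exact habs v hvz r hr q _ _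
  have hII : h.op hi hiz * h.op hi hiz = -1 := by
    rw [hop]
    ext w
    obtain ⟨q, rfl⟩ := h.pr_surj w
    change h.op hii _ (h.pr q) = - h.pr q
    rw [h.op_mk, ← h.pr_inv, h.pr_eq]
    have h1 := hinv (q : G)⁻¹ (inv_mem q.2)
    change ((i * i) * (q : G) * (i * i)⁻¹)⁻¹ * (q : G)⁻¹ ∈ zpowers z
    rw [conj_inv]; exact h1
  obtain ⟨r1, hr1, e1⟩ := hji
  obtain ⟨r2, hr2, e2⟩ := hrel
  obtain ⟨r3, hr3, e3⟩ := hsi
  obtain ⟨r4, hr4, e4⟩ := hsj
  have hJJ : h.op hj hjz * h.op hj hjz = -1 := by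
    rw [← hII, hop, hop]
    exact hopr hjj hii _ _ hr1 e1
  have hIJ' : h.op hi hiz * h.op hj hjz = -(h.op hj hjz * h.op hi hiz) := by
    have h1 : -(h.op hj hjz * h.op hi hiz) = (h.op hi hiz * h.op hi hiz) * (h.op hj hjz * h.op hi hiz) := by
      rw [hII, neg_one_mul]
    rw [h1, hop, hop, hop, hop]
    exact hopr _ _ _ _ hr2 e2
  have hSI : h.op hs hsz * h.op hi hiz = h.op hj hjz * h.op hs hsz := by
    rw [hop, hop]
    exact hopr _ _ _ _ hr3 e3
  have hSJ : h.op hs hsz * h.op hj hjz = h.op hi hiz * h.op hj hjz * h.op hs hsz := by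
    rw [hop, hop, hop]
    exact hopr _ _ _ _ hr4 e4
  have hSS : h.op hs hsz * h.op hs hsz * h.op hs hsz = 1 := by
    rw [hop, hop]
    ext w
    obtain ⟨q, rfl⟩ := h.pr_surj w
    rw [h.op_mk]
    have h1 := habs 1 (by simp) (s * s * s) hs3 q (by rw [one_mul]; exact mul_mem (mul_mem hs3 q.2) (inv_mem hs3))
      (by simp)
    simp only [one_mul, inv_one, mul_one] at h1
    exact h1
  obtain ⟨B, hB1, hB2, hBI, hBJ, hBS⟩ := Mod.exists_invariant h.three_V h.card_V _ _ _ hII hJJ hIJ' hSI hSJ hSS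
  -- the corresponding subgroup
  let B' : Subgroup G :=
    { carrier := {x | ∃ hx : x ∈ Q, h.pr ⟨x, hx⟩ ∈ B}
      mul_mem' := by
        rintro a b ⟨ha, ha'⟩ ⟨hb, hb'⟩
        exact ⟨mul_mem ha hb, B.add_mem ha' hb'⟩
      one_mem' := ⟨one_mem Q, B.zero_mem⟩
      inv_mem' := by
        rintro a ⟨ha, ha'⟩
        exact ⟨inv_mem ha, B.neg_mem ha'⟩ }
  have hB' : ∀ x, x ∈ B' ↔ ∃ hx : x ∈ Q, h.pr ⟨x, hx⟩ ∈ B := fun x => Iff.rfl
  refine ⟨B', ?_, ?_, ?_, ?_, ?_⟩
  · refine lt_of_le_of_ne ?_ ?_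
    · intro c hc
      refine ⟨h.zle hc, ?_⟩
      rw [(h.pr_eq_zero (a := ⟨c, h.zle hc⟩)).2 hc]
      exact B.zero_mem
    · intro h1
      apply hB1
      rw [eq_bot_iff]
      intro v hv
      obtain ⟨q, rfl⟩ := h.pr_surj v
      rw [AddSubgroup.mem_bot, h.pr_eq_zero, h1]
      exact ⟨q.2, hv⟩
  · refine lt_of_le_of_ne ?_ ?_
    · rintro x ⟨hx, -⟩; exact hx
    · intro h1
      apply hB2
      rw [eq_top_iff]
      intro v _
      obtain ⟨q, rfl⟩ := h.pr_surj v
      have h2 : (q : G) ∈ B' := by rw [h1]; exact q.2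
      exact h2.2
  · rintro b ⟨hb, hb'⟩
    exact ⟨hi b hb, hBI _ hb'⟩
  · rintro b ⟨hb, hb'⟩
    exact ⟨hj b hb, hBJ _ hb'⟩
  · rintro b ⟨hb, hb'⟩
    exact ⟨hs b hb, hBS _ hb'⟩

end Cfsg.Agent.H351.OE
end

-- part: H351/OE/SLThree
section
/-!
# S3372: the groups `SL(2,3)` and `SL(2,3) × C₂`
-/

set_option autoImplicit false

namespace Cfsg.Agent.H351.OE.SLThree

open Subgroup Matrix

/-- the relations of `SL(2,3)` -/
structure Data {H : Type*} [Group H] (i j s : H) : Prop where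
  ij : j * j = i * i
  tt : (i * i) * (i * i) = 1
  t1 : i * i ≠ 1
  cen : ∀ h : H, (i * i) * h = h * (i * i)
  rel : i * j = (i * i) * (j * i)
  si : s * i = j * s
  sj : s * j = i * j * s
  s3 : s * s * s = 1
  gen : ∀ h : H, Nat.Coprime (orderOf h) 2 → h ∈ Subgroup.closure ({i, j, s} : Set H)
  mem : ∀ h ∈ Subgroup.closure ({i, j, s} : Set H), h ∈ Subgroup.closure {h : H | Nat.Coprime (orderOf h) 2}
  dvd : Nat.card H ∣ 48
  three : 3 ∣ Nat.card H

theorem Data.map {H H' : Type*} [Group H] [Group H'] {i j s : H} (h : Data i j s) (e : H ≃* H') :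
    Data (e i) (e j) (e s) where
  ij := by rw [← map_mul, ← map_mul, h.ij]
  tt := by rw [← map_mul, ← map_mul, h.tt, map_one]
  t1 := by
    rw [← map_mul]
    intro h1
    exact h.t1 ((MulEquiv.map_eq_one_iff e).1 h1)
  cen := by
    intro k
    obtain ⟨k, rfl⟩ := e.surjective k
    rw [← map_mul, ← map_mul, ← map_mul, h.cen]
  rel := by rw [← map_mul, ← map_mul, ← map_mul, ← map_mul, h.rel]
  si := by rw [← map_mul, ← map_mul, h.si]
  sj := by rw [← map_mul, ← map_mul, ← map_mul, h.sj]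
  s3 := by rw [← map_mul, ← map_mul, h.s3, map_one]
  gen := by
    intro k hk
    obtain ⟨k, rfl⟩ := e.surjective k
    rw [MulEquiv.orderOf_eq] at hk
    have h1 := h.gen k hk
    have h2 : e k ∈ (Subgroup.closure ({i, j, s} : Set H)).map e.toMonoidHom := ⟨k, h1, rfl⟩
    rw [MonoidHom.map_closure] at h2
    have h3 : (e.toMonoidHom : H → H') '' ({i, j, s} : Set H) = {e i, e j, e s} := by
      rw [Set.image_insert_eq, Set.image_pair]; rfl
    rwa [h3] at h2
  mem := by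
    intro k hk
    have h3 : (e.toMonoidHom : H → H') '' ({i, j, s} : Set H) = {e i, e j, e s} := by
      rw [Set.image_insert_eq, Set.image_pair]; rfl
    rw [← h3, ← MonoidHom.map_closure] at hk
    obtain ⟨k, hk, rfl⟩ := hk
    have h1 := h.mem k hk
    have h2 : e.toMonoidHom k ∈ (Subgroup.closure {h : H | Nat.Coprime (orderOf h) 2}).map e.toMonoidHom := ⟨k, h1, rfl⟩
    rw [MonoidHom.map_closure] at h2
    refine (Subgroup.closure_mono ?_) h2
    rintro _ ⟨y, hy, rfl⟩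
    change Nat.Coprime (orderOf (e y)) 2
    rw [MulEquiv.orderOf_eq]
    exact hy
  dvd := by rw [← Nat.card_congr e.toEquiv]; exact h.dvd
  three := by rw [← Nat.card_congr e.toEquiv]; exact h.three

/-- `SL(2,3)` -/
abbrev SL3 := Matrix.SpecialLinearGroup (Fin 2) (ZMod 3)

def iM : SL3 := ⟨!![0,1;2,0], by decide⟩
def jM : SL3 := ⟨!![1,1;1,2], by decide⟩
def sM : SL3 := ⟨!![0,1;2,2], by decide⟩
def aM : SL3 := ⟨!![1,2;0,1], by decide⟩
def bM : SL3 := ⟨!![1,0;1,1], by decide⟩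

theorem closure_top : Subgroup.closure ({iM, jM, sM} : Set SL3) = ⊤ := by
  rw [eq_top_iff]
  intro h _
  have h1 : ∀ h : SL3, ∃ a : Fin 4, ∃ b : Fin 2, ∃ c : Fin 3, h = iM ^ (a:ℕ) * jM ^ (b:ℕ) * sM ^ (c:ℕ) := by
    decide +kernel
  obtain ⟨a, b, c, rfl⟩ := h1 h
  refine mul_mem (mul_mem (pow_mem (_root_.Subgroup.subset_closure ?_) _) (pow_mem (_root_.Subgroup.subset_closure ?_) _))
    (pow_mem (_root_.Subgroup.subset_closure ?_) _) <;> simp

theorem coprime_of_three {H : Type*} [Group H] {a : H} (h : a ^ 3 = 1) : Nat.Coprime (orderOf a) 2 := by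
  have h1 := orderOf_dvd_of_pow_eq_one h
  rcases (Nat.dvd_prime Nat.prime_three).1 h1 with h2 | h2 <;> rw [h2] <;> norm_num

theorem sq_one : ∀ c : Multiplicative (ZMod 2), c ^ 2 = 1 := by decide

theorem data1 : Data iM jM sM where
  ij := by decide
  tt := by decide
  t1 := by decide
  cen := by decide +kernel
  rel := by decide
  si := by decide
  sj := by decide
  s3 := by decide
  gen := by
    intro h _
    rw [closure_top]; trivial
  mem := by
    intro h hh
    revert h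
    change Subgroup.closure ({iM, jM, sM} : Set SL3) ≤ _
    rw [closure_le]
    have hs : sM ∈ Subgroup.closure {h : SL3 | Nat.Coprime (orderOf h) 2} := _root_.Subgroup.subset_closure (coprime_of_three (by decide))
    have ha : aM ∈ Subgroup.closure {h : SL3 | Nat.Coprime (orderOf h) 2} := _root_.Subgroup.subset_closure (coprime_of_three (by decide))
    have hb : bM ∈ Subgroup.closure {h : SL3 | Nat.Coprime (orderOf h) 2} := _root_.Subgroup.subset_closure (coprime_of_three (by decide))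
    have e1 : iM = sM * aM := by decide
    have e2 : jM = sM * bM := by decide
    rintro k (rfl | rfl | rfl)
    · exact e1 ▸ mul_mem hs ha
    · exact e2 ▸ mul_mem hs hb
    · exact hs
  dvd := by
    have : Fintype.card SL3 = 24 := by decide +kernel
    rw [Nat.card_eq_fintype_card, this]; norm_num
  three := by
    have : Fintype.card SL3 = 24 := by decide +kernel
    rw [Nat.card_eq_fintype_card, this]; norm_num

theorem data2 : Data ((iM, 1) : SL3 × Multiplicative (ZMod 2)) (jM, 1) (sM, 1) where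
  ij := by
    have := data1.ij
    exact Prod.ext this rfl
  tt := Prod.ext data1.tt rfl
  t1 := fun h => data1.t1 (congrArg Prod.fst h)
  cen := fun h => Prod.ext (data1.cen h.1) (mul_comm _ _)
  rel := Prod.ext data1.rel rfl
  si := Prod.ext data1.si rfl
  sj := Prod.ext data1.sj rfl
  s3 := Prod.ext data1.s3 rfl
  gen := by
    rintro ⟨h, c⟩ hh
    have hc : c = 1 := by
      have h1 : orderOf c ∣ orderOf ((h, c) : SL3 × Multiplicative (ZMod 2)) := by
        rw [Prod.orderOf]; exact Nat.dvd_lcm_right _ _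
      have h2 : orderOf c ∣ 2 := by
        exact orderOf_dvd_of_pow_eq_one (sq_one c)
      have h3 : Nat.Coprime (orderOf c) 2 := Nat.Coprime.coprime_dvd_left h1 hh
      have h4 : orderOf c ∣ Nat.gcd (orderOf c) 2 := Nat.dvd_gcd dvd_rfl h2
      rw [h3, Nat.dvd_one] at h4
      exact orderOf_eq_one_iff.1 h4
    rw [hc]
    have h1 : (MonoidHom.inl SL3 (Multiplicative (ZMod 2))) h ∈
        (Subgroup.closure ({iM, jM, sM} : Set SL3)).map (MonoidHom.inl SL3 (Multiplicative (ZMod 2))) :=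
      ⟨h, by rw [closure_top]; trivial, rfl⟩
    rw [MonoidHom.map_closure, Set.image_insert_eq, Set.image_pair] at h1
    exact h1
  mem := by
    intro k hk
    have h3 : ((MonoidHom.inl SL3 (Multiplicative (ZMod 2)) : SL3 → SL3 × Multiplicative (ZMod 2))) ''
        ({iM, jM, sM} : Set SL3) = {(iM, 1), (jM, 1), (sM, 1)} := by
      rw [Set.image_insert_eq, Set.image_pair]; rfl
    rw [← h3, ← MonoidHom.map_closure] at hk
    obtain ⟨k, hk, rfl⟩ := hk
    have h1 := data1.mem k hk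
    have h2 : (MonoidHom.inl SL3 (Multiplicative (ZMod 2))) k ∈
        (Subgroup.closure {h : SL3 | Nat.Coprime (orderOf h) 2}).map (MonoidHom.inl SL3 (Multiplicative (ZMod 2))) :=
      ⟨k, h1, rfl⟩
    rw [MonoidHom.map_closure] at h2
    refine (Subgroup.closure_mono ?_) h2
    rintro _ ⟨y, hy, rfl⟩
    change Nat.Coprime (orderOf ((y, 1) : SL3 × Multiplicative (ZMod 2))) 2
    rw [Prod.orderOf, orderOf_one, Nat.lcm_one_right]
    exact hy
  dvd := by
    have : Fintype.card SL3 = 24 := by decide +kernel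
    rw [Nat.card_prod, Nat.card_eq_fintype_card, this, Nat.card_eq_fintype_card]
    decide
  three := by
    have : Fintype.card SL3 = 24 := by decide +kernel
    rw [Nat.card_prod, Nat.card_eq_fintype_card, this, Nat.card_eq_fintype_card]
    decide

end Cfsg.Agent.H351.OE.SLThree
end

-- part: H351/OE/Start
section
/-!
# S3372: from the hypotheses of the statement to `Gl`
-/

set_option autoImplicit false
set_option linter.unusedSectionVars false

namespace Cfsg.Agent.H351.OE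

open Subgroup Cfsg
open scoped commutatorElement

variable {G : Type*} [Group G] [Finite G]

/-- the hypotheses of the statement, with the quotient `C / Q` described by `SLThree.Data` -/
structure St (S : Sylow 3 G) (Z C Q K : Subgroup G) (r : ℕ) (A : Fin (r + 1) → Subgroup G)
    (i j s : C ⧸ Cfsg.pCore 3 C) : Prop where
  hZ : Z = (S : Subgroup G) ⊓ Subgroup.centralizer ((S : Subgroup G) : Set G)
  hCZ : C = Subgroup.centralizer (Z : Set G)
  hQ : Q = (Cfsg.pCore 3 C).map C.subtype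
  hQex : Cfsg.IsExtraspecial 3 Q
  hQcard : Nat.card Q = 3 ^ 5
  hQexp : ∀ a ∈ Q, a ^ 3 = 1
  hCQ : Subgroup.centralizer (Q : Set G) ≤ Q
  hZQ : ∃ x : G, Z.map (MulAut.conj x).toMonoidHom ≤ Q ∧ Z.map (MulAut.conj x).toMonoidHom ≠ Z
  hK : K = ((Cfsg.pResidual 2 (C ⧸ Cfsg.pCore 3 C)).comap (QuotientGroup.mk' (Cfsg.pCore 3 C))).map C.subtype
  hA0 : A 0 = Z
  hAr : A (Fin.last r) = Q
  hmono : ∀ i : Fin r, A i.castSucc < A i.succ
  hmax : ∀ i : Fin r, ∀ B : Subgroup G, A i.castSucc < B → B < A i.succ → ∃ k ∈ K, ∃ b ∈ B, k * b * k⁻¹ ∉ B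
  hone : ∃! i : Fin r, (∃ k ∈ K, ∃ a ∈ A i.succ, k * a * k⁻¹ * a⁻¹ ∉ A i.castSucc)
  data : SLThree.Data i j s

namespace St

variable {S : Sylow 3 G} {Z C Q K : Subgroup G} {r : ℕ} {A : Fin (r + 1) → Subgroup G}
  {i j s : C ⧸ Cfsg.pCore 3 C} (h : St S Z C Q K r A i j s)

include h

theorem SC : (S : Subgroup G) ≤ C := by
  intro x hx
  rw [h.hCZ, mem_centralizer_iff]
  intro y hy
  have hy' : y ∈ Z := hy
  rw [h.hZ] at hy'
  exact (mem_centralizer_iff.1 hy'.2 x hx).symm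

theorem QC : Q ≤ C := by
  rw [h.hQ]; rintro _ ⟨x, -, rfl⟩; exact x.2

theorem mem_Q {c : C} : (c : G) ∈ Q ↔ c ∈ Cfsg.pCore 3 C := by
  rw [h.hQ]
  constructor
  · rintro ⟨x, hx, hx2⟩
    have : x = c := Subtype.ext hx2
    rw [← this]; exact hx
  · intro hc; exact ⟨c, hc, rfl⟩

theorem QS : Q ≤ S := by
  have : Fact (Nat.Prime 3) := ⟨Nat.prime_three⟩
  have h1 := Cfsg.Agent.Lib.Cores.pCore_le_sylow (S.subtype h.SC)
  intro x hx
  have hxC : x ∈ C := h.QC hx
  have h2 := h1 ((h.mem_Q (c := ⟨x, hxC⟩)).1 hx)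
  exact h2

theorem ZQ : Z ≤ Q := by
  refine le_trans ?_ h.hCQ
  intro y hy
  rw [h.hZ] at hy
  rw [mem_centralizer_iff]
  intro q hq
  exact mem_centralizer_iff.1 hy.2 q (h.QS hq)

theorem exists_z : ∃ z : G, Z = zpowers z ∧ Ex Q z := by
  have hF : Fact (Nat.Prime 3) := ⟨Nat.prime_three⟩
  have hcent : ∀ y ∈ Z, ∀ q ∈ Q, q * y = y * q := by
    intro y hy q hq
    rw [h.hZ] at hy
    exact mem_centralizer_iff.1 hy.2 q (h.QS hq)
  have hZc : ∀ y (hy : y ∈ Z), (⟨y, h.ZQ hy⟩ : Q) ∈ center Q := by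
    intro y hy
    rw [mem_center_iff]
    intro q
    exact Subtype.ext (hcent y hy q q.2)
  have hSne : (S : Subgroup G) ≠ ⊥ := by
    intro h1
    have h2 : Q = ⊥ := le_bot_iff.1 (h1 ▸ h.QS)
    have h3 := h.hQcard
    rw [h2, Subgroup.card_bot] at h3
    norm_num at h3
  obtain ⟨w, hw, hw1, hc⟩ := Cfsg.Agent.Characters.CNBasic.exists_mem_center_of_normal (S : Subgroup G) S.isPGroup'
    (S : Subgroup G) S.isPGroup' hSne
    (fun s hs d hd => (S : Subgroup G).mul_mem ((S : Subgroup G).mul_mem hs hd) ((S : Subgroup G).inv_mem hs))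
  have hwZ : w ∈ Z := by
    rw [h.hZ]
    exact ⟨hw, mem_centralizer_iff.2 hc⟩
  have hw3 : w ^ 3 = 1 := h.hQexp w (h.ZQ hwZ)
  have hwo : orderOf w = 3 := orderOf_eq_prime hw3 hw1
  have hcard : Nat.card (center Q) = 3 := h.hQex.2
  -- `center Q` is generated by `w`
  have hgen : ∀ q : Q, q ∈ center Q → (q : G) ∈ zpowers w := by
    intro q hq
    have h1 : zpowers (⟨w, h.ZQ hwZ⟩ : Q) = center Q := by
      apply Subgroup.eq_of_le_of_card_ge
      · rw [zpowers_le]; exact hZc w hwZ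
      · rw [hcard, Nat.card_zpowers, Subgroup.orderOf_mk, hwo]
    rw [← h1] at hq
    obtain ⟨n, hn⟩ := hq
    exact ⟨n, congrArg Subtype.val hn⟩
  refine ⟨w, ?_, ?_⟩
  · apply le_antisymm
    · intro y hy
      exact hgen ⟨y, h.ZQ hy⟩ (hZc y hy)
    · rw [zpowers_le]; exact hwZ
  · exact
      { z1 := hw1
        zz := hw3
        zQ := h.ZQ hwZ
        card := h.hQcard
        exp := h.hQexp
        zc := fun a ha => hcent w hwZ a ha
        comm := by
          intro a ha b hb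
          have h1 : ⁅(⟨a, ha⟩ : Q), (⟨b, hb⟩ : Q)⁆ ∈ commutator Q :=
            Subgroup.commutator_mem_commutator (mem_top _) (mem_top _)
          rw [h.hQex.1.2.2] at h1
          exact hgen _ h1
        cen := by
          intro a ha hab
          apply hgen ⟨a, ha⟩
          rw [mem_center_iff]
          intro q
          exact Subtype.ext (hab q q.2).symm }

end St

end Cfsg.Agent.H351.OE
end

-- part: H351/OE/Full
section
/-!
# S3372: the global hypothesis from the hypotheses of the statement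
-/

set_option autoImplicit false
set_option linter.unusedSectionVars false

namespace Cfsg.Agent.H351.OE

open Subgroup Cfsg
open scoped commutatorElement

variable {G : Type*} [Group G] [Finite G]

/-- everything which is used about `G` -/
structure Full (Q : Subgroup G) (z t g : G) (S : Sylow 3 G) : Prop extends Gl Q z t g S where
  cardC : Nat.card (centralizer ({z} : Set G)) ∣ 2 ^ 4 * 3 ^ 6
  cardS : Nat.card S = 3 ^ 6
  tS : ∀ N : Subgroup G, (∀ c, c * z = z * c → ∀ n ∈ N, c * n * c⁻¹ ∈ N) → (S : Subgroup G) ≤ N → t ∈ N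

namespace St

variable {S : Sylow 3 G} {Z C Q K : Subgroup G} {r : ℕ} {A : Fin (r + 1) → Subgroup G}
  {i j s : C ⧸ Cfsg.pCore 3 C}

theorem mem_C (h : St S Z C Q K r A i j s) {z : G} (hz : Z = zpowers z) {c : G} : c ∈ C ↔ c * z = z * c := by
  rw [h.hCZ, hz, mem_centralizer_iff]
  constructor
  · intro h1
    exact (h1 z (mem_zpowers z)).symm
  · intro h1 y hy
    obtain ⟨n, rfl⟩ := hy
    exact ((show Commute c z from h1).zpow_right n).eq.symm

theorem mk_eq (h : St S Z C Q K r A i j s) {a b : C}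
    (hab : (QuotientGroup.mk' (Cfsg.pCore 3 C)) a = (QuotientGroup.mk' (Cfsg.pCore 3 C)) b) :
    ∃ q ∈ Q, (a : G) = b * q := by
  have h1 : (a : C)⁻¹ * b ∈ Cfsg.pCore 3 C := QuotientGroup.eq.1 hab
  have h2 := (h.mem_Q (c := a⁻¹ * b)).2 h1
  refine ⟨((a⁻¹ * b : C) : G)⁻¹, inv_mem h2, ?_⟩
  rw [Subgroup.coe_mul, Subgroup.coe_inv]
  group

theorem mk_one (h : St S Z C Q K r A i j s) {a : C}
    (ha : (QuotientGroup.mk' (Cfsg.pCore 3 C)) a = 1) : (a : G) ∈ Q :=
  (h.mem_Q).2 ((QuotientGroup.eq_one_iff a).1 ha)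

theorem mk_Q (h : St S Z C Q K r A i j s) {a : C} (ha : (a : G) ∈ Q) :
    (QuotientGroup.mk' (Cfsg.pCore 3 C)) a = 1 := (QuotientGroup.eq_one_iff a).2 ((h.mem_Q).1 ha)

theorem nor (h : St S Z C Q K r A i j s) {c : G} (hc : c ∈ C) {q : G} (hq : q ∈ Q) : c * q * c⁻¹ ∈ Q := by
  have h1 : (⟨q, h.QC hq⟩ : C) ∈ Cfsg.pCore 3 C := (h.mem_Q).1 hq
  have hn : (Cfsg.pCore 3 C).Normal := Cfsg.Agent.Lib.Cores.pCore_normal 3
  exact (h.mem_Q (c := ⟨c, hc⟩ * ⟨q, h.QC hq⟩ * ⟨c, hc⟩⁻¹)).2 (hn.conj_mem _ h1 _)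

/-- powers of three dividing `48` -/
theorem le_three {n m : ℕ} (h1 : n ∣ 48) (h2 : n ∣ 3 ^ m) : n ≤ 3 := by
  have h3 : Nat.Coprime n 16 := by
    apply Nat.Coprime.coprime_dvd_left h2
    exact Nat.Coprime.pow_left m (by norm_num)
  have h4 : n ∣ 3 := by
    apply Nat.Coprime.dvd_of_dvd_mul_left h3
    exact h1
  exact Nat.le_of_dvd (by norm_num) h4

theorem idx (h : St S Z C Q K r A i j s) {P : Subgroup G} (hP : IsPGroup 3 P) (hPC : P ≤ C) :
    Nat.card P ≤ 3 * Nat.card (P ⊓ Q : Subgroup G) := by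
  have hF : Fact (Nat.Prime 3) := ⟨Nat.prime_three⟩
  let f : P →* C ⧸ Cfsg.pCore 3 C := (QuotientGroup.mk' (Cfsg.pCore 3 C)).comp (Subgroup.inclusion hPC)
  have h1 := Subgroup.card_mul_index f.ker
  rw [Subgroup.index_ker] at h1
  have h2 : Nat.card f.range ≤ 3 := by
    obtain ⟨m, hm⟩ := IsPGroup.iff_card.1 hP
    refine le_three (m := m) ((Subgroup.card_subgroup_dvd_card _).trans h.data.dvd) ?_
    rw [← hm]
    exact Subgroup.card_range_dvd f
  have h3 : Nat.card f.ker = Nat.card (P ⊓ Q : Subgroup G) := by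
    refine Nat.card_congr
      { toFun := fun p => ⟨(p : P), (p : P).2, h.mk_one (a := Subgroup.inclusion hPC (p : P)) (MonoidHom.mem_ker.1 p.2)⟩
        invFun := fun q => ⟨⟨q, q.2.1⟩, MonoidHom.mem_ker.2 (h.mk_Q (a := ⟨q, hPC q.2.1⟩) q.2.2)⟩
        left_inv := fun p => rfl
        right_inv := fun q => rfl }
  rw [h3] at h1
  rw [← h1, mul_comm]
  exact Nat.mul_le_mul_right _ h2

theorem cardC (h : St S Z C Q K r A i j s) : Nat.card C ∣ 2 ^ 4 * 3 ^ 6 ∧ 3 ^ 6 ∣ Nat.card C := by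
  have h1 := Subgroup.card_mul_index (Cfsg.pCore 3 C)
  have h2 : Nat.card (Cfsg.pCore 3 C) = 3 ^ 5 := by
    rw [← h.hQcard]
    rw [h.hQ]
    exact (Nat.card_congr ((Cfsg.pCore 3 C).equivMapOfInjective C.subtype C.subtype_injective).toEquiv)
  rw [h2] at h1
  have h3 : Nat.card (C ⧸ Cfsg.pCore 3 C) = (Cfsg.pCore 3 C).index := rfl
  have h4 := h.data.dvd
  have h5 := h.data.three
  rw [h3] at h4 h5
  rw [← h1]
  constructor
  · have := Nat.mul_dvd_mul_left (3 ^ 5) h4
    exact this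
  · have := Nat.mul_dvd_mul_left (3 ^ 5) h5
    exact this

theorem cardS (h : St S Z C Q K r A i j s) : Nat.card S = 3 ^ 6 := by
  have hF : Fact (Nat.Prime 3) := ⟨Nat.prime_three⟩
  obtain ⟨k, hk⟩ := IsPGroup.iff_card.1 S.isPGroup'
  have h1 : Nat.card S ∣ 2 ^ 4 * 3 ^ 6 := (Subgroup.card_dvd_of_le h.SC).trans h.cardC.1
  have h2 : 3 ^ 6 ∣ Nat.card S := by
    have h3 : 3 ^ 6 ∣ Nat.card G := h.cardC.2.trans (Subgroup.card_subgroup_dvd_card C)
    exact S.pow_dvd_card_of_pow_dvd_card h3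
  have hk' : Nat.card S = 3 ^ k := hk
  rw [hk'] at h1 h2 ⊢
  have h4 : 3 ^ k ∣ 3 ^ 6 := by
    apply Nat.Coprime.dvd_of_dvd_mul_left _ h1
    exact Nat.Coprime.pow _ _ (by norm_num)
  exact Nat.dvd_antisymm h4 h2

end St

end Cfsg.Agent.H351.OE
end

-- part: H351/OE/Full2
section
/-!
# S3372: the global hypothesis from the hypotheses of the statement, II
-/

set_option autoImplicit false
set_option linter.unusedSectionVars false
set_option maxHeartbeats 1000000

namespace Cfsg.Agent.H351.OE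

open Subgroup Cfsg
open scoped commutatorElement

variable {G : Type*} [Group G] [Finite G]

theorem isSolvable_of_dvd {X : Type*} [Group X] [Finite X] {a b : ℕ} (h : Nat.card X ∣ 2 ^ a * 3 ^ b) :
    Group.IsSolvable X := by
  obtain ⟨u, v, hu, hv, e⟩ := (Nat.dvd_mul).1 h
  obtain ⟨k, -, rfl⟩ := (Nat.dvd_prime_pow Nat.prime_two).1 hu
  obtain ⟨l, -, rfl⟩ := (Nat.dvd_prime_pow Nat.prime_three).1 hv
  exact Cfsg.Agent.S0144.result 2 3 k l Nat.prime_two Nat.prime_three e.symm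

/-- a subgroup of `Q` of order at least nine on which `c` acts -/
theorem not_scalar {Q : Subgroup G} {z t : G} (h : Tt Q z t) {B : Subgroup G} (hB : B ≤ one Q t) (hzB : z ∈ B) 
    {b : G} (hb : b ∈ B) (hbz : b ∉ zpowers z) (hB9 : Nat.card B ≤ 9) {c r : G} (hcB : ∀ b ∈ B, c * b * c⁻¹ ∈ B)
    (hcz : c * z = z * c) (hr : r ∈ Q) (e : c * c = t * r) : False := by
  have hF : Fact (Nat.Prime 3) := ⟨Nat.prime_three⟩
  have hbQ : b ∈ Q := h.one_le (hB hb)
  have hbo : orderOf b = 3 := orderOf_eq_prime (h.ex.exp b hbQ) (by rintro rfl; exact hbz (one_mem _))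
  have hsup : zpowers b ⊔ zpowers z = B := by
    have h1 : zpowers b ⊔ zpowers z ≤ B := sup_le (by rw [zpowers_le]; exact hb) (by rw [zpowers_le]; exact hzB)
    refine Subgroup.eq_of_le_of_card_ge h1 (hB9.trans ?_)
    by_contra h2
    push Not at h2
    have h3 : Nat.card (zpowers b ⊔ zpowers z : Subgroup G) ∣ 3 ^ 5 := by
      rw [← h.ex.card]; exact Subgroup.card_dvd_of_le (h1.trans (hB.trans h.one_le))
    obtain ⟨j, hj, hj2⟩ := (Nat.dvd_prime_pow Nat.prime_three).1 h3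
    have h4 : j ≤ 1 := by
      by_contra h5
      have h6 : 2 ≤ j := by omega
      have := Nat.pow_le_pow_right (show 0 < 3 by norm_num) h6
      omega
    have h5 : Nat.card (zpowers b ⊔ zpowers z : Subgroup G) ≤ 3 := by
      rw [hj2]
      exact Nat.pow_le_pow_right (show 0 < 3 by norm_num) h4
    have h6 : zpowers z = zpowers b ⊔ zpowers z :=
      Subgroup.eq_of_le_of_card_ge le_sup_right (by rw [h.ex.card_z]; exact h5)
    exact hbz (h6 ▸ mem_sup_left (mem_zpowers b))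
  have hcomm : ∀ a ∈ zpowers b, ∀ a' ∈ zpowers z, a * a' = a' * a := by
    rintro _ ⟨m, rfl⟩ a' ha'
    exact h.ex.comm_z (zpow_mem hbQ m) ha'
  have hcζ : ∀ a ∈ zpowers z, c * a * c⁻¹ = a := by
    rintro _ ⟨m, rfl⟩
    simp only
    rw [((show Commute c z from hcz).zpow_right m).eq, mul_inv_cancel_right]
  have h1 := hcB b hb
  rw [← hsup] at h1
  obtain ⟨_, ⟨m, rfl⟩, ζ, hζ, e1⟩ := mem_sup_comm hcomm h1
  simp only at e1
  -- `c ^ 2` acts as `m ^ 2`
  have h2 : (c * c) * b * (c * c)⁻¹ = b ^ (m * m) * (ζ ^ m * ζ) := by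
    have hζb : Commute (b ^ m) ζ := h.ex.comm_z (zpow_mem hbQ m) hζ
    calc (c * c) * b * (c * c)⁻¹ = c * (c * b * c⁻¹) * c⁻¹ := by group
      _ = c * (b ^ m * ζ) * c⁻¹ := by rw [e1]
      _ = (c * b * c⁻¹) ^ m * (c * ζ * c⁻¹) := by rw [conj_zpow]; group
      _ = (b ^ m * ζ) ^ m * ζ := by rw [e1, hcζ ζ hζ]
      _ = b ^ (m * m) * (ζ ^ m * ζ) := by rw [hζb.mul_zpow, zpow_mul, mul_assoc]
  -- `t` inverts
  have h3 : t * b * t⁻¹ * b ∈ zpowers z := by
    have hb1 : b ∈ one Q t := hB hb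
    have h4 := h.f_mem hbQ
    have h5 : t * b * t⁻¹ ∈ one Q t := by
      have h6 := h.m_mem_one hbQ
      have h7 : t * b * t⁻¹ = (t * b * t⁻¹ * b⁻¹) * b := by group
      rw [h7]; exact mul_mem h6 hb1
    have h6 : (b * (t * b * t⁻¹))⁻¹ ∈ one Q t := inv_mem (mul_mem hb1 h5)
    have h7 := h.inter h6 h4
    rw [inv_mem_iff, h.comm_self hbQ] at h7
    exact h7
  have h4 : (c * c) * b * (c * c)⁻¹ * b ∈ zpowers z := by
    have h5 : ⁅r, b⁆ ∈ zpowers z := h.ex.comm r hr b hbQ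
    have h6 : (c * c) * b * (c * c)⁻¹ * b = (t * ⁅r, b⁆ * t⁻¹) * (t * b * t⁻¹ * b) := by
      rw [e, commutatorElement_def]; group
    rw [h6, h.fix_z h5]
    exact mul_mem h5 h3
  rw [h2] at h4
  have h5 : b ^ (m * m + 1) ∈ zpowers z := by
    have hζ' : ζ ^ m * ζ ∈ zpowers z := mul_mem (zpow_mem hζ m) hζ
    have h6 : b ^ (m * m) * (ζ ^ m * ζ) * b = b ^ (m * m + 1) * (ζ ^ m * ζ) := by
      rw [mul_assoc, ← h.ex.comm_z hbQ hζ', zpow_add_one, mul_assoc]
    rw [h6] at h4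
    have := mul_mem h4 (inv_mem hζ')
    rwa [mul_inv_cancel_right] at this
  apply hbz
  have hne : b ^ (m * m + 1) ≠ 1 := by
    intro h6
    have h7 := orderOf_dvd_iff_zpow_eq_one.2 h6
    rw [hbo] at h7
    have h8 : (m * m + 1) % 3 ≠ 0 := by
      have : m % 3 = 0 ∨ m % 3 = 1 ∨ m % 3 = 2 := by omega
      rcases this with h | h | h <;> simp only [Int.add_emod, Int.mul_emod, h, _root_.MulZeroClass.mul_zero, _root_.EuclideanDomain.zero_mod, _root_.Int.reduceMod, _root_.zero_add, _root_.ne_eq, _root_.one_ne_zero, _root_.not_false_eq_true, _root_.mul_one, _root_.Int.reduceAdd, _root_.OfNat.ofNat_ne_zero, _root_.Int.reduceMul]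
    exact h8 (Int.emod_eq_zero_of_dvd h7)
  have h6 := mem_zpowers_of_three hbo (⟨m * m + 1, rfl⟩ : b ^ (m * m + 1) ∈ zpowers b) hne
  exact (zpowers_le.2 h5 : zpowers (b ^ (m * m + 1)) ≤ zpowers z) h6

namespace St

variable {S : Sylow 3 G} {Z C Q K : Subgroup G} {r : ℕ} {A : Fin (r + 1) → Subgroup G}
  {i j s : C ⧸ Cfsg.pCore 3 C}

theorem chain_le (h : St S Z C Q K r A i j s) (n : Fin (r + 1)) : Z ≤ A n := by
  induction n using Fin.induction with
  | zero => rw [h.hA0]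
  | succ k ih => exact ih.trans (h.hmono k).le

/-- **The global hypothesis.** -/
theorem exists_full (h : St S Z C Q K r A i j s) : ∃ z t g : G, Full Q z t g S := by
  have hF : Fact (Nat.Prime 3) := ⟨Nat.prime_three⟩
  obtain ⟨z, hZz, hex⟩ := h.exists_z
  have memC : ∀ {c : G}, c ∈ C ↔ c * z = z * c := fun {c} => h.mem_C hZz
  obtain ⟨π, hπ⟩ : ∃ π : C →* C ⧸ Cfsg.pCore 3 C, π = QuotientGroup.mk' (Cfsg.pCore 3 C) := ⟨_, rfl⟩
  have hπs : Function.Surjective π := by rw [hπ]; exact QuotientGroup.mk'_surjective _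
  have hπe : ∀ {a b : C}, π a = π b → ∃ q ∈ Q, (a : G) = b * q := by
    intro a b hab; rw [hπ] at hab; exact h.mk_eq hab
  have hπ1 : ∀ {a : C}, π a = 1 → (a : G) ∈ Q := by
    intro a ha; rw [hπ] at ha; exact h.mk_one ha
  have hπQ : ∀ {a : C}, (a : G) ∈ Q → π a = 1 := by
    intro a ha; rw [hπ]; exact h.mk_Q ha
  obtain ⟨ci, hci⟩ := hπs i
  obtain ⟨cj', hcj⟩ := hπs j
  obtain ⟨cs, hcs⟩ := hπs s
  have d := h.data
  -- the involution `t`
  have h4 : (ci * ci) * (ci * ci) ∈ (Q.subgroupOf C) := by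
    rw [mem_subgroupOf]
    apply hπ1
    rw [map_mul, map_mul, hci, d.tt]
  have h12 : ((ci * ci) * (ci * ci)) ^ 3 = 1 := Subtype.ext (hex.exp _ h4)
  obtain ⟨t', ht'⟩ : ∃ t', t' = (ci * ci) * (ci * ci) * (ci * ci) := ⟨_, rfl⟩
  have htt' : t' * t' = 1 := by
    rw [← h12, ht']
    simp only [pow_succ, pow_zero, one_mul, mul_assoc]
  have hπt : π t' = i * i := by
    rw [ht', map_mul, map_mul, map_mul, hci, d.tt, one_mul]
  have htt : (t' : G) * t' = 1 := congrArg Subtype.val htt'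
  have htz : (t' : G) * z = z * t' := memC.1 t'.2
  have hnor : ∀ c, c * z = z * c → ∀ q ∈ Q, c * q * c⁻¹ ∈ Q := fun c hc q hq => h.nor (memC.2 hc) hq
  have hTt : Tt Q z t' := ⟨hex, htt, htz, hnor t' htz⟩
  have htQ : (t' : G) ∉ Q := by
    intro h1
    apply d.t1
    rw [← hπt, hπQ h1]
  have htcen : ∀ c, c * z = z * c → ⁅(t' : G), c⁆ ∈ Q := by
    intro c hc
    apply hπ1 (a := ⁅t', ⟨c, memC.2 hc⟩⁆)
    rw [map_commutatorElement, hπt]
    exact commutatorElement_eq_one_iff_mul_comm.2 (d.cen _)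
  have hne : ∃ q ∈ Q, (t' : G) * q ≠ q * t' := by
    by_contra hcon
    push Not at hcon
    exact htQ (h.hCQ (mem_centralizer_iff.2 fun q hq => (hcon q hq).symm))
  -- relations
  have hcz : ∀ c : C, (c : G) * z = z * c := fun c => memC.1 c.2
  have hcn : ∀ c : C, ∀ q ∈ Q, (c : G) * q * (c : G)⁻¹ ∈ Q := fun c => hnor c (hcz c)
  obtain ⟨rt, hrt, ert⟩ := hπe (a := ci * ci) (b := t') (by rw [map_mul, hci, hπt])
  rw [Subgroup.coe_mul] at ert
  obtain ⟨r1, hr1, e1⟩ := hπe (a := cj' * cj') (b := ci * ci) (by rw [map_mul, map_mul, hci, hcj, d.ij])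
  rw [Subgroup.coe_mul, Subgroup.coe_mul] at e1
  obtain ⟨r2, hr2, e2⟩ := hπe (a := ci * cj') (b := (ci * ci) * (cj' * ci)) (by
    rw [map_mul, map_mul, map_mul, map_mul, hci, hcj, d.rel])
  rw [Subgroup.coe_mul, Subgroup.coe_mul, Subgroup.coe_mul, Subgroup.coe_mul] at e2
  obtain ⟨r3, hr3, e3⟩ := hπe (a := cs * ci) (b := cj' * cs) (by rw [map_mul, map_mul, hci, hcj, hcs, d.si])
  rw [Subgroup.coe_mul, Subgroup.coe_mul] at e3
  obtain ⟨r4, hr4, e4⟩ := hπe (a := cs * cj') (b := ci * cj' * cs) (by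
    rw [map_mul, map_mul, map_mul, hci, hcj, hcs, d.sj])
  rw [Subgroup.coe_mul, Subgroup.coe_mul, Subgroup.coe_mul] at e4
  have e5 : (cs : G) * cs * cs ∈ Q := by
    have := hπ1 (a := cs * cs * cs) (by rw [map_mul, map_mul, hcs, d.s3])
    exact this
  -- `t` is in `K`
  have htK : (t' : G) ∈ K := by
    rw [h.hK]
    refine ⟨t', ?_, rfl⟩
    rw [SetLike.mem_coe, mem_comap, ← hπ, hπt]
    refine d.mem _ (mul_mem (_root_.Subgroup.subset_closure ?_) (_root_.Subgroup.subset_closure ?_)) <;> simp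
  -- `t` has fixed points
  have hne2 : ∃ q ∈ two Q (t' : G), q ∉ zpowers z := by
    by_contra hcon
    push Not at hcon
    have hinv : ∀ q ∈ Q, (t' : G) * q * (t' : G)⁻¹ * q ∈ zpowers z := by
      intro q hq
      have h1 := hcon _ (hTt.f_mem hq)
      rw [inv_mem_iff, hTt.comm_self hq] at h1
      exact h1
    have hinv2 : ∀ q ∈ Q, ((ci : G) * ci) * q * ((ci : G) * ci)⁻¹ * q ∈ zpowers z := by
      intro q hq
      have h5 : ⁅rt, q⁆ ∈ zpowers z := hex.comm rt hrt q hq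
      have h6 : ((ci : G) * ci) * q * ((ci : G) * ci)⁻¹ * q = (t' * ⁅rt, q⁆ * (t' : G)⁻¹) * (t' * q * (t' : G)⁻¹ * q) := by
        rw [ert, commutatorElement_def]; group
      rw [h6, hTt.fix_z h5]
      exact mul_mem h5 (hinv q hq)
    obtain ⟨B, hB1, hB2, hBi, hBj, hBs⟩ := exists_between hex (hcn ci) (hcn cj') (hcn cs) (hcz ci) (hcz cj') (hcz cs)
      hinv2 ⟨r1, hr1, e1⟩ ⟨r2, hr2, e2⟩ ⟨r3, hr3, e3⟩ ⟨r4, hr4, e4⟩ e5
    -- every factor is noncentral
    have hall : ∀ n : Fin r, ∃ k ∈ K, ∃ a ∈ A n.succ, k * a * k⁻¹ * a⁻¹ ∉ A n.castSucc := by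
      intro n
      obtain ⟨a, ha, ha'⟩ := SetLike.exists_of_lt (h.hmono n)
      refine ⟨t', htK, a, ha, fun h1 => ha' ?_⟩
      have haQ : a ∈ Q := by
        have h2 : ∀ m : Fin (r + 1), A m ≤ Q := by
          intro m
          have h3 : ∀ k : ℕ, ∀ hk : k < r + 1, A ⟨k, hk⟩ ≤ A (Fin.last r) := by
            intro k hk
            have h4 : Monotone A := Fin.monotone_iff_le_succ.2 fun m => (h.hmono m).le
            exact h4 (Fin.le_last _)
          rw [← h.hAr]
          exact h3 m m.2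
        exact h2 _ ha
      have h2 : (t' : G) * a * (t' : G)⁻¹ * a ∈ A n.castSucc := by
        apply h.chain_le
        rw [hZz]
        exact hinv a haQ
      have h3 : a * a ∈ A n.castSucc := by
        have := mul_mem (inv_mem h1) h2
        have h4 : (((t' : G) * a * (t' : G)⁻¹ * a⁻¹)⁻¹ * ((t' : G) * a * (t' : G)⁻¹ * a)) = a * a := by group
        rwa [h4] at this
      have h4 : a = (a * a)⁻¹ := by
        rw [eq_inv_iff_mul_eq_one, ← mul_assoc]
        have := hex.exp a haQ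
        rwa [pow_succ, pow_two] at this
      rw [h4]
      exact inv_mem h3
    -- so there is just one factor
    obtain ⟨n, hn, hn2⟩ := h.hone
    have hr1 : r = 1 := by
      have hn' : ∀ m : Fin r, m = n := fun m => hn2 m (hall m)
      have h1 : Fintype.card (Fin r) = 1 := Fintype.card_eq_one_iff.2 ⟨n, hn'⟩
      rwa [Fintype.card_fin] at h1
    subst hr1
    have hA1 : A (Fin.last 1) = Q := h.hAr
    have hA0' : A ((0 : Fin 1).castSucc) = Z := h.hA0
    have hA1' : A ((0 : Fin 1).succ) = Q := h.hAr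
    obtain ⟨k, hk, b, hb, hkb⟩ := h.hmax 0 B (by rw [hA0', hZz]; exact hB1) (by rw [hA1']; exact hB2)
    apply hkb
    -- `K` normalises `B`
    have hfB : Finite (B : Set G) := inferInstanceAs (Finite B)
    have hQB : ∀ q ∈ Q, ∀ b ∈ B, q * b * q⁻¹ ∈ B := by
      intro q hq b hb
      have h1 := hex.comm q hq b (hB2.le hb)
      have h2 : q * b * q⁻¹ = ⁅q, b⁆ * b := by rw [commutatorElement_def]; group
      rw [h2]
      exact mul_mem (hB1.le h1) hb
    rw [h.hK] at hk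
    obtain ⟨c, hc, rfl⟩ := hk
    rw [SetLike.mem_coe, mem_comap, ← hπ] at hc
    have h1 : Cfsg.pResidual 2 (C ⧸ Cfsg.pCore 3 C) ≤ _root_.Subgroup.closure ({i, j, s} : Set (C ⧸ Cfsg.pCore 3 C)) := by
      rw [Cfsg.pResidual, closure_le]
      intro x hx
      exact d.gen x hx
    have h2 : _root_.Subgroup.closure ({i, j, s} : Set (C ⧸ Cfsg.pCore 3 C)) ≤ ((normalizer (B : Set G)).subgroupOf C).map π := by
      rw [closure_le]
      have key : ∀ c : C, (∀ b ∈ B, (c : G) * b * (c : G)⁻¹ ∈ B) → π c ∈ ((normalizer (B : Set G)).subgroupOf C).map π := by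
        intro c hc
        exact ⟨c, mem_subgroupOf.2 (mem_normalizer_fintype hc), rfl⟩
      rintro x (rfl | rfl | rfl)
      · rw [← hci]; exact key ci hBi
      · rw [← hcj]; exact key cj' hBj
      · rw [← hcs]; exact key cs hBs
    obtain ⟨n', hn', hn3⟩ := h2 (h1 hc)
    obtain ⟨q, hq, e⟩ := hπe hn3.symm
    have h3 : (n' : G) ∈ normalizer (B : Set G) := mem_subgroupOf.1 hn'
    have h4 : (C.subtype c : G) = n' * q := e
    rw [h4]
    have h5 := (mem_normalizer_iff.1 h3 (q * b * q⁻¹)).1 (hQB q hq b hb)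
    have h6 : (n' : G) * q * b * ((n' : G) * q)⁻¹ = n' * (q * b * q⁻¹) * (n' : G)⁻¹ := by group
    rw [h6]
    exact h5
  have hcards := hTt.card_cases hne hne2
  -- the subgroup `C`
  have hCe : C = centralizer ({z} : Set G) := by
    ext c
    rw [memC, mem_centralizer_singleton_iff]
  have hZcard : Nat.card Z = 3 := by rw [hZz, hex.card_z]
  -- the local hypothesis
  have hHy : Hy Q z t' :=
    { ex := hex
      nor := hnor
      idx := fun P hP hPz => h.idx hP (fun p hp => memC.2 (hPz p hp))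
      tt := hTt
      tcen := htcen
      card1 := hcards.1
      card2 := hcards.2
      irr := by
        intro B hB hzB hb hcB
        obtain ⟨b, hb, hbz⟩ := hb
        by_contra hcon
        have hlt : Nat.card B ≤ 9 := by
          have h1 : Nat.card B ∣ 3 ^ 3 := by
            have := Subgroup.card_dvd_of_le hB
            rw [hcards.1] at this
            exact this
          obtain ⟨k, hk, hk2⟩ := (Nat.dvd_prime_pow Nat.prime_three).1 h1
          have h2 : k ≠ 3 := by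
            rintro rfl
            apply hcon
            have := Subgroup.eq_of_le_of_card_ge hB (by rw [hk2, hcards.1]; norm_num)
            rw [this]
          rw [hk2]
          exact (show 3 ^ k ≤ 3 ^ 2 from Nat.pow_le_pow_right (by norm_num) (by omega))
        exact not_scalar hTt hB hzB hb hbz hlt (hcB ci (hcz ci)) (hcz ci) hrt ert }
  obtain ⟨g, hg1, hg2⟩ := h.hZQ
  have hgz : g * z * g⁻¹ ∈ Z.map (MulAut.conj g).toMonoidHom := ⟨z, by rw [hZz]; exact mem_zpowers z, rfl⟩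
  have hGl : Gl Q z t' g S :=
    { hy := hHy
      cQ := h.hCQ
      QS := h.QS
      Sz := fun s hs => memC.1 (h.SC hs)
      cS := by
        intro y hy hys
        rw [← hZz, h.hZ]
        exact ⟨hy, mem_centralizer_iff.2 hys⟩
      solv := by
        rw [← hCe]
        exact isSolvable_of_dvd h.cardC.1
      pcore := by
        intro N hN1 hN2 hN3
        have hNC : N ≤ C := fun n hn => memC.2 (hN1 n hn)
        have h1 : N.subgroupOf C ≤ Cfsg.pCore 3 C := by
          refine Cfsg.Agent.Lib.Cores.le_pCore ?_ ?_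
          · constructor
            intro n hn c
            rw [mem_subgroupOf] at hn ⊢
            exact hN2 c (hcz c) n hn
          · exact hN3.of_equiv (subgroupOfEquivOfLe hNC).symm
        intro n hn
        exact (h.mem_Q (c := ⟨n, hNC hn⟩)).2 (h1 (mem_subgroupOf.2 hn))
      gx := hg1 hgz
      gxz := by
        intro h1
        apply hg2
        have h2 : Z.map (MulAut.conj g).toMonoidHom ≤ Z := by
          rw [hZz, MonoidHom.map_zpowers, zpowers_le]
          exact h1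
        refine Subgroup.eq_of_le_of_card_ge h2 ?_
        have h3 : Nat.card (Z.map (MulAut.conj g).toMonoidHom) = Nat.card Z :=
          (Nat.card_congr (Z.equivMapOfInjective _ (MulAut.conj g).injective).toEquiv).symm
        rw [h3] }
  refine ⟨z, t', g, ⟨hGl, ?_, h.cardS, ?_⟩⟩
  · rw [← hCe]; exact h.cardC.1
  · -- `t` lies in the normal subgroups containing `S`
    intro N hN hSN
    -- `cs` lies in `N`
    have hcsN : (cs : G) ∈ N := by
      have h1 : (cs : C) ^ 9 = 1 := by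
        have h2 := hex.exp _ e5
        have h3 : ((cs * cs * cs : C) : G) ^ 3 = 1 := h2
        have h4 : (cs * cs * cs : C) ^ 3 = 1 := Subtype.ext h3
        rw [← h4]
        simp only [pow_succ, pow_zero, one_mul, mul_assoc]
      have hp : IsPGroup 3 (zpowers cs) := by
        refine IsPGroup.of_card_dvd_pow (n := 2) ?_
        rw [Nat.card_zpowers]
        exact orderOf_dvd_of_pow_eq_one (by rw [← h1]; norm_num)
      obtain ⟨P, hP⟩ := hp.exists_le_sylow
      obtain ⟨k, hk⟩ := MulAction.exists_smul_eq C P (S.subtype h.SC)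
      have hky : k * cs * k⁻¹ ∈ (S.subtype h.SC : Subgroup C) := by
        rw [← hk]
        exact Subgroup.smul_mem_pointwise_smul cs (MulAut.conj k) (P : Subgroup C) (hP (Subgroup.mem_zpowers _))
      have h2 : (k : G) * cs * (k : G)⁻¹ ∈ N := hSN hky
      have h3 := hN (k : G)⁻¹ (hcz k⁻¹) _ h2
      have h4 : (k : G)⁻¹ * ((k : G) * cs * (k : G)⁻¹) * ((k : G)⁻¹)⁻¹ = cs := by group
      rwa [h4] at h3
    have hu : (cs : G) * ci * (cs : G)⁻¹ * (ci : G)⁻¹ ∈ N := by
      have h1 := hN ci (hcz ci) _ (inv_mem hcsN)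
      have h2 : (cs : G) * ci * (cs : G)⁻¹ * (ci : G)⁻¹ = cs * (ci * (cs : G)⁻¹ * (ci : G)⁻¹) := by group
      rw [h2]
      exact mul_mem hcsN h1
    have hQN : Q ≤ N := h.QS.trans hSN
    have h1 : π ((cs * ci * cs⁻¹ * ci⁻¹) * (cs * ci * cs⁻¹ * ci⁻¹)) = π t' := by
      have hsi : s * i * s⁻¹ = j := by rw [d.si, mul_inv_cancel_right]
      simp only [map_mul, map_inv, hci, hcs, hπt]
      rw [hsi]
      have h2 : i⁻¹ = (i * i) * i := by
        rw [inv_eq_iff_mul_eq_one, ← mul_assoc, ← mul_assoc, mul_assoc]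
        exact d.tt
      have h3 : j * i = (i * i) * (i * j) := by
        rw [d.rel, ← mul_assoc, d.tt, one_mul]
      have ht1 : ∀ x, (i * i) * ((i * i) * x) = x := by
        intro x; rw [← mul_assoc, d.tt, one_mul]
      calc j * i⁻¹ * (j * i⁻¹) = (j * ((i * i) * i)) * (j * ((i * i) * i)) := by rw [h2]
        _ = ((i * i) * (j * i)) * ((i * i) * (j * i)) := by
          rw [← mul_assoc j (i * i) i, ← d.cen j, mul_assoc (i * i) j i]
        _ = (i * j) * (i * j) := by rw [h3, ht1]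
        _ = i * (j * i) * j := by simp only [mul_assoc]
        _ = i * ((i * i) * (i * j)) * j := by rw [h3]
        _ = ((i * i) * (i * i)) * (j * j) := by simp only [mul_assoc]
        _ = i * i := by rw [d.tt, d.ij, one_mul]
    obtain ⟨q, hq, e⟩ := hπe h1
    have h2 : (t' : G) = ((cs * ci * cs⁻¹ * ci⁻¹) * (cs * ci * cs⁻¹ * ci⁻¹) : C) * q⁻¹ := by
      rw [e]; group
    rw [h2]
    exact mul_mem (mul_mem hu hu) (inv_mem (hQN hq))

end St

end Cfsg.Agent.H351.OE
end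

-- part: H351/OE/Loc
section
/-!
# S3372: the action of `s ∈ S \ Q` on `Q/Z`, subgroups of order `27`
-/

set_option autoImplicit false
set_option linter.unusedSectionVars false
set_option linter.unusedVariables false

namespace Cfsg.Agent.H351.OE

open Subgroup Cfsg
open scoped commutatorElement

variable {G : Type*} [Group G]

/-- nontrivial elements of conjugates of `⟨z⟩` -/
def ZC (z d : G) : Prop := d ≠ 1 ∧ ∃ k : G, d ∈ zpowers (k * z * k⁻¹)

theorem ZC.inv {z d : G} (h : ZC z d) : ZC z d⁻¹ := by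
  obtain ⟨h1, k, hk⟩ := h
  exact ⟨inv_ne_one.2 h1, k, inv_mem hk⟩

theorem ZC.conj {z d : G} (h : ZC z d) (c : G) : ZC z (c * d * c⁻¹) := by
  obtain ⟨h1, k, hk⟩ := h
  refine ⟨fun h2 => h1 (conj_eq_one_iff.1 h2), c * k, ?_⟩
  rw [mem_zpowers_conj] at hk ⊢
  have : (c * k)⁻¹ * (c * d * c⁻¹) * (c * k) = k⁻¹ * d * k := by group
  rw [this]; exact hk

theorem ZC.of_mem {z d : G} (hd : d ∈ zpowers z) (h1 : d ≠ 1) : ZC z d :=
  ⟨h1, 1, by rw [one_mul, inv_one, mul_one]; exact hd⟩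

theorem ZC.of_conj {z d : G} {c : G} (h : ZC z (c * d * c⁻¹)) : ZC z d := by
  have := h.conj c⁻¹
  have e : c⁻¹ * (c * d * c⁻¹) * c⁻¹⁻¹ = d := by group
  rwa [e] at this

/-- bilinearity -/
theorem Ex.comm_zpow_left {Q : Subgroup G} {z : G} (h : Ex Q z) {a b : G} (ha : a ∈ Q) (hb : b ∈ Q) (n : ℤ) :
    ⁅a ^ n, b⁆ = ⁅a, b⁆ ^ n := by
  have h1 := congrArg (fun c : zpowers z => (c : G)) (map_zpow (h.cm hb) ⟨a, ha⟩ n)
  simpa only [Ex.cm, _root_.MonoidHom.coe_mk, _root_.OneHom.coe_mk, _root_.SubgroupClass.coe_zpow] using h1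

theorem Ex.comm_zpow_right {Q : Subgroup G} {z : G} (h : Ex Q z) {a b : G} (ha : a ∈ Q) (hb : b ∈ Q) (n : ℤ) :
    ⁅a, b ^ n⁆ = ⁅a, b⁆ ^ n := by
  rw [← inv_inj, commutatorElement_inv, h.comm_zpow_left hb ha, ← inv_zpow, commutatorElement_inv]

/-- elements of `Q` congruent to elements of `ZC` -/
theorem ZC.congr {Q : Subgroup G} {z : G} (h : Ex Q z) {w e : G} (hw : ZC z w) (hwQ : w ∈ Q) (hwz : w ∉ zpowers z)
    (he : e * w⁻¹ ∈ zpowers z) : ZC z e := by
  obtain ⟨q, hq, hq2⟩ := h.exists_conj hwQ hwz he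
  rw [inv_mul_cancel_right] at hq2
  rw [← hq2]
  exact hw.conj q

/-- the situation of a standard element `s` -/
structure Std (Q : Subgroup G) (z t x s f x1 x2 f1 f2 : G) : Prop where
  hy : Hy Q z t
  xQ : x ∈ Q
  xz : x ∉ zpowers z
  zc : ZC z x
  sQ : s ∉ Q
  sz : s * z = z * s
  sx : s * x = x * s
  s3 : s ^ 3 = 1
  fQ : f ∈ Q
  fx : f * x = x * f
  fs : ⁅f, s⁆ = x
  hx1 : x1 ∈ one Q t
  hx2 : x2 ∈ two Q t
  hf1 : f1 ∈ one Q t
  hf2 : f2 ∈ two Q t
  ex : x = x1 * x2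
  ef : f = f1 * f2
  x1z : x1 ∉ zpowers z
  x2z : x2 ∉ zpowers z

namespace Std

variable {Q : Subgroup G} {z t x s f x1 x2 f1 f2 : G} (h : Std Q z t x s f x1 x2 f1 f2)

include h

theorem exQ : Ex Q z := h.hy.ex

theorem x1Q : x1 ∈ Q := h.hy.tt.one_le h.hx1
theorem x2Q : x2 ∈ Q := h.hy.tt.two_le h.hx2
theorem f1Q : f1 ∈ Q := h.hy.tt.one_le h.hf1
theorem f2Q : f2 ∈ Q := h.hy.tt.two_le h.hf2

theorem comm1 {u : G} (hu : u ∈ one Q t) : ⁅u, s⁆ ∈ one Q t := by
  have h1 : ⁅u, s⁆ = u * (s * u * s⁻¹)⁻¹ := by simp only [commutatorElement_def]; group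
  rw [h1]
  exact mul_mem hu (inv_mem (h.hy.one_conj h.sz hu))

theorem comm2 {u : G} (hu : u ∈ two Q t) : ⁅u, s⁆ ∈ two Q t := by
  have h1 : ⁅u, s⁆ = u * (s * u * s⁻¹)⁻¹ := by simp only [commutatorElement_def]; group
  rw [h1]
  exact mul_mem hu (inv_mem (h.hy.two_conj h.sz hu))

/-- `⁅a b, s⁆ = ⁅a, s⁆ ⁅b, s⁆` modulo `Z`, exactly for `a ∈ one`, `b ∈ two` -/
theorem comm_mul {a b : G} (ha : a ∈ one Q t) (hb : b ∈ two Q t) : ⁅a * b, s⁆ = ⁅a, s⁆ * ⁅b, s⁆ := by
  have e1 : ⁅a * b, s⁆ = a * ⁅b, s⁆ * (s * a⁻¹ * s⁻¹) := by simp only [commutatorElement_def]; group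
  have e2 : a * ⁅b, s⁆ = ⁅b, s⁆ * a := h.hy.tt.one_two ha (h.comm2 hb)
  have e3 : ⁅b, s⁆ * a * (s * a⁻¹ * s⁻¹) = ⁅b, s⁆ * ⁅a, s⁆ := by simp only [commutatorElement_def]; group
  rw [e1, e2, e3]
  exact (h.hy.tt.one_two (h.comm1 ha) (h.comm2 hb)).symm

theorem x1s : ⁅x1, s⁆ ∈ zpowers z := by
  have h1 : ⁅x1 * x2, s⁆ = 1 := by
    rw [← h.ex]
    exact commutatorElement_eq_one_iff_mul_comm.2 h.sx.symm
  rw [h.comm_mul h.hx1 h.hx2] at h1
  have h2 : ⁅x1, s⁆ = ⁅x2, s⁆⁻¹ := eq_inv_of_mul_eq_one_left h1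
  apply h.hy.tt.inter (h.comm1 h.hx1)
  rw [h2]
  exact inv_mem (h.comm2 h.hx2)

theorem x2s : ⁅x2, s⁆ ∈ zpowers z := by
  have h1 : ⁅x1 * x2, s⁆ = 1 := by
    rw [← h.ex]
    exact commutatorElement_eq_one_iff_mul_comm.2 h.sx.symm
  rw [h.comm_mul h.hx1 h.hx2] at h1
  have h2 : ⁅x2, s⁆ = ⁅x1, s⁆⁻¹ := eq_inv_of_mul_eq_one_right h1
  rw [h2]
  exact inv_mem h.x1s

theorem f1s : ⁅f1, s⁆ * x1⁻¹ ∈ zpowers z := by
  have h1 := h.fs
  rw [h.ef, h.comm_mul h.hf1 h.hf2, h.ex] at h1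
  have h3 : x1⁻¹ * ⁅f1, s⁆ = x2 * ⁅f2, s⁆⁻¹ := by
    rw [eq_mul_inv_iff_mul_eq, mul_assoc, h1]; group
  have h2 : x1⁻¹ * ⁅f1, s⁆ ∈ zpowers z := by
    apply h.hy.tt.inter (mul_mem (inv_mem h.hx1) (h.comm1 h.hf1))
    rw [h3]
    exact mul_mem h.hx2 (inv_mem (h.comm2 h.hf2))
  have h4 := h.exQ.comm_z h.x1Q h2
  rw [mul_inv_cancel_left] at h4
  have h5 : ⁅f1, s⁆ * x1⁻¹ = x1⁻¹ * ⁅f1, s⁆ := by
    rw [mul_inv_eq_iff_eq_mul]; exact h4
  rw [h5]; exact h2

theorem f2s : ⁅f2, s⁆ * x2⁻¹ ∈ zpowers z := by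
  have h1 := h.fs
  rw [h.ef, h.comm_mul h.hf1 h.hf2, h.ex] at h1
  have h3 : ⁅f2, s⁆ * x2⁻¹ = ⁅f1, s⁆⁻¹ * x1 := by
    rw [mul_inv_eq_iff_eq_mul, eq_comm, mul_assoc, inv_mul_eq_iff_eq_mul, h1]
  rw [h3, ← inv_mem_iff]
  have h4 : (⁅f1, s⁆⁻¹ * x1)⁻¹ = x1⁻¹ * (⁅f1, s⁆ * x1⁻¹) * x1 := by group
  rw [h4, mul_assoc, ← h.exQ.comm_z h.x1Q h.f1s, inv_mul_cancel_left]
  exact h.f1s

theorem om_mem : ⁅f1, x1⁆ ∈ zpowers z := h.exQ.comm f1 h.f1Q x1 h.x1Q

theorem nor_s : ∀ q ∈ Q, s * q * s⁻¹ ∈ Q := h.hy.nor s h.sz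

/-- the class in `V` of a product -/
theorem pr_comm {q : G} (hq : q ∈ Q) (hc : ⁅q, s⁆ ∈ Q) :
    h.exQ.pr ⟨⁅q, s⁆, hc⟩ = h.exQ.pr ⟨q, hq⟩ - h.exQ.op h.nor_s h.sz (h.exQ.pr ⟨q, hq⟩) := by
  rw [h.exQ.op_mk, sub_eq_add_neg, ← h.exQ.pr_inv, ← h.exQ.pr_mul]
  congr 1
  apply Subtype.ext
  change ⁅q, s⁆ = q * (s * q * s⁻¹)⁻¹
  simp only [commutatorElement_def]; group

theorem pr_fix {q : G} (hq : q ∈ Q) (hc : ⁅q, s⁆ ∈ zpowers z) :
    h.exQ.op h.nor_s h.sz (h.exQ.pr ⟨q, hq⟩) = h.exQ.pr ⟨q, hq⟩ := by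
  have h1 := h.pr_comm hq (h.exQ.zle hc)
  rw [(h.exQ.pr_eq_zero).2 hc] at h1
  exact (sub_eq_zero.1 h1.symm).symm

theorem pr_f1 : h.exQ.op h.nor_s h.sz (h.exQ.pr ⟨f1, h.f1Q⟩) = h.exQ.pr ⟨f1, h.f1Q⟩ - h.exQ.pr ⟨x1, h.x1Q⟩ := by
  have hc : ⁅f1, s⁆ ∈ Q := h.hy.tt.one_le (h.comm1 h.hf1)
  have h1 := h.pr_comm h.f1Q hc
  have h2 : h.exQ.pr ⟨⁅f1, s⁆, hc⟩ = h.exQ.pr ⟨x1, h.x1Q⟩ := by
    rw [eq_comm, h.exQ.pr_eq]
    change x1⁻¹ * ⁅f1, s⁆ ∈ zpowers z
    have h3 : x1⁻¹ * ⁅f1, s⁆ = x1⁻¹ * (⁅f1, s⁆ * x1⁻¹) * x1 := by group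
    rw [h3, mul_assoc, ← h.exQ.comm_z h.x1Q h.f1s, inv_mul_cancel_left]
    exact h.f1s
  rw [h2] at h1
  rw [h1, sub_sub_cancel]

theorem pr_f2 : h.exQ.op h.nor_s h.sz (h.exQ.pr ⟨f2, h.f2Q⟩) = h.exQ.pr ⟨f2, h.f2Q⟩ - h.exQ.pr ⟨x2, h.x2Q⟩ := by
  have hc : ⁅f2, s⁆ ∈ Q := h.hy.tt.two_le (h.comm2 h.hf2)
  have h1 := h.pr_comm h.f2Q hc
  have h2 : h.exQ.pr ⟨⁅f2, s⁆, hc⟩ = h.exQ.pr ⟨x2, h.x2Q⟩ := by
    rw [eq_comm, h.exQ.pr_eq]
    change x2⁻¹ * ⁅f2, s⁆ ∈ zpowers z
    have h3 : x2⁻¹ * ⁅f2, s⁆ = x2⁻¹ * (⁅f2, s⁆ * x2⁻¹) * x2 := by group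
    rw [h3, mul_assoc, ← h.exQ.comm_z h.x2Q h.f2s, inv_mul_cancel_left]
    exact h.f2s
  rw [h2] at h1
  rw [h1, sub_sub_cancel]

theorem pr_zpow {a : G} (ha : a ∈ Q) (n : ℤ) : h.exQ.pr ⟨a ^ n, zpow_mem ha n⟩ = n • h.exQ.pr ⟨a, ha⟩ := by
  have key : ∀ n : ℕ, h.exQ.pr ⟨a ^ n, pow_mem ha n⟩ = n • h.exQ.pr ⟨a, ha⟩ := by
    intro n
    induction n with
    | zero =>
      rw [zero_smul]
      exact (h.exQ.pr_eq_zero).2 (by change a ^ 0 ∈ zpowers z; rw [pow_zero]; exact one_mem _)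
    | succ n ih =>
      rw [succ_nsmul, ← ih, ← h.exQ.pr_mul]
      congr 1
      apply Subtype.ext
      exact pow_succ a n
  obtain ⟨k, rfl | rfl⟩ := n.eq_nat_or_neg
  · rw [natCast_zsmul, ← key]
    congr 1
    apply Subtype.ext
    exact zpow_natCast a k
  · rw [neg_smul, natCast_zsmul, ← key, ← h.exQ.pr_inv]
    congr 1
    apply Subtype.ext
    change a ^ (-(k : ℤ)) = (a ^ k)⁻¹
    rw [zpow_neg, zpow_natCast]

/-- elements of `⟨x1, z⟩` -/
theorem mem_sup {a c : G} (haQ : a ∈ Q) (hc : c ∈ zpowers a ⊔ zpowers z) : ∃ i : ℤ, ∃ ζ ∈ zpowers z, c = a ^ i * ζ := by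
  obtain ⟨_, ⟨i, rfl⟩, ζ, hζ, rfl⟩ := mem_sup_comm (by
    rintro _ ⟨j, rfl⟩ b hb
    exact h.exQ.comm_z (zpow_mem haQ j) hb) hc
  exact ⟨i, ζ, hζ, rfl⟩

theorem om_ne : ⁅f1, x1⁆ ≠ 1 := by
  intro h1
  have h2 := h.hy.mem_of_comm_one h.hx1 h.x1z h.hf1 (commutatorElement_eq_one_iff_mul_comm.1 h1)
  obtain ⟨i, ζ, hζ, e⟩ := h.mem_sup h.x1Q h2
  -- `f1` is fixed
  have h3 : h.exQ.pr ⟨f1, h.f1Q⟩ = i • h.exQ.pr ⟨x1, h.x1Q⟩ := by
    rw [← h.pr_zpow h.x1Q, h.exQ.pr_eq]
    change f1⁻¹ * x1 ^ i ∈ zpowers z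
    rw [e, mul_inv_rev, inv_mul_cancel_right]
    exact inv_mem hζ
  have h4 := h.pr_f1
  rw [h3, map_zsmul, h.pr_fix h.x1Q h.x1s, eq_sub_iff_add_eq, add_eq_left] at h4
  exact h.x1z ((h.exQ.pr_eq_zero (a := ⟨x1, h.x1Q⟩)).1 h4)

theorem om2 : ⁅f2, x2⁆ = ⁅f1, x1⁆⁻¹ := by
  have h1 : ⁅f, x⁆ = 1 := commutatorElement_eq_one_iff_mul_comm.2 h.fx
  have c1 : ⁅f1, x2⁆ = 1 := commutatorElement_eq_one_iff_mul_comm.2 (h.hy.tt.one_two h.hf1 h.hx2)
  have c2 : ⁅f2, x1⁆ = 1 := commutatorElement_eq_one_iff_mul_comm.2 (h.hy.tt.one_two h.hx1 h.hf2).symm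
  rw [h.ef, h.ex, h.exQ.comm_mul h.f1Q h.f2Q (mul_mem h.x1Q h.x2Q), h.exQ.comm_mul' h.f1Q h.x1Q h.x2Q,
    h.exQ.comm_mul' h.f2Q h.x1Q h.x2Q, c1, c2, mul_one, one_mul] at h1
  exact eq_inv_of_mul_eq_one_right h1

/-- elements of `one` -/
theorem key_one {u : G} (hu : u ∈ one Q t) : ∃ m : ℤ, ⁅u, x1⁆ = ⁅f1, x1⁆ ^ m ∧
    ∃ i : ℤ, ∃ ζ ∈ zpowers z, u = x1 ^ i * ζ * f1 ^ m := by
  have huQ := h.hy.tt.one_le hu
  have h1 : z ∈ zpowers ⁅f1, x1⁆ := mem_zpowers_of_three h.exQ.order h.om_mem h.om_ne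
  have h2 : ⁅u, x1⁆ ∈ zpowers ⁅f1, x1⁆ :=
    (zpowers_le.2 h1 : zpowers z ≤ _) (h.exQ.comm u huQ x1 h.x1Q)
  obtain ⟨m, hm⟩ := h2
  simp only at hm
  have h3 : ⁅u * f1 ^ (-m), x1⁆ = 1 := by
    rw [h.exQ.comm_mul huQ (zpow_mem h.f1Q _) h.x1Q, h.exQ.comm_zpow_left h.f1Q h.x1Q, ← hm, ← zpow_add,
      add_neg_cancel, zpow_zero]
  have h4 := h.hy.mem_of_comm_one h.hx1 h.x1z (mul_mem hu (zpow_mem h.hf1 _))
    (commutatorElement_eq_one_iff_mul_comm.1 h3)
  obtain ⟨i, ζ, hζ, e⟩ := h.mem_sup h.x1Q h4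
  refine ⟨m, hm.symm, i, ζ, hζ, ?_⟩
  rw [← e, zpow_neg, inv_mul_cancel_right]

/-- elements of `two` -/
theorem key_two {u : G} (hu : u ∈ two Q t) : ∃ m : ℤ, ⁅u, x2⁆ = ⁅f2, x2⁆ ^ m ∧
    ∃ i : ℤ, ∃ ζ ∈ zpowers z, u = x2 ^ i * ζ * f2 ^ m := by
  have huQ := h.hy.tt.two_le hu
  have h0 : ⁅f2, x2⁆ ≠ 1 := by
    rw [h.om2]; exact inv_ne_one.2 h.om_ne
  have h1 : z ∈ zpowers ⁅f2, x2⁆ := mem_zpowers_of_three h.exQ.order (h.exQ.comm f2 h.f2Q x2 h.x2Q) h0
  have h2 : ⁅u, x2⁆ ∈ zpowers ⁅f2, x2⁆ :=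
    (zpowers_le.2 h1 : zpowers z ≤ _) (h.exQ.comm u huQ x2 h.x2Q)
  obtain ⟨m, hm⟩ := h2
  simp only at hm
  have h3 : ⁅u * f2 ^ (-m), x2⁆ = 1 := by
    rw [h.exQ.comm_mul huQ (zpow_mem h.f2Q _) h.x2Q, h.exQ.comm_zpow_left h.f2Q h.x2Q, ← hm, ← zpow_add,
      add_neg_cancel, zpow_zero]
  have h4 := h.hy.mem_of_comm_two h.hx2 h.x2z (mul_mem hu (zpow_mem h.hf2 _))
    (commutatorElement_eq_one_iff_mul_comm.1 h3)
  obtain ⟨i, ζ, hζ, e⟩ := h.mem_sup h.x2Q h4
  refine ⟨m, hm.symm, i, ζ, hζ, ?_⟩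
  rw [← e, zpow_neg, inv_mul_cancel_right]

theorem pr_mul' {a b : G} (ha : a ∈ Q) (hb : b ∈ Q) (hab : a * b ∈ Q) :
    h.exQ.pr ⟨a * b, hab⟩ = h.exQ.pr ⟨a, ha⟩ + h.exQ.pr ⟨b, hb⟩ := rfl

theorem pr_z {a : G} (haQ : a ∈ Q) (ha : a ∈ zpowers z) : h.exQ.pr ⟨a, haQ⟩ = 0 := (h.exQ.pr_eq_zero).2 ha

/-- **the structure of the action of `s`** -/
theorem key {q : G} (hq : q ∈ Q) : ∃ m n : ℤ, ⁅q, x1⁆ = ⁅f1, x1⁆ ^ m ∧ ⁅q, x2⁆ = ⁅f1, x1⁆ ^ (-n) ∧
    ∃ i j : ℤ, h.exQ.pr ⟨q, hq⟩ = i • h.exQ.pr ⟨x1, h.x1Q⟩ + j • h.exQ.pr ⟨x2, h.x2Q⟩ +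
      (m • h.exQ.pr ⟨f1, h.f1Q⟩ + n • h.exQ.pr ⟨f2, h.f2Q⟩) := by
  obtain ⟨u, hu, v, hv, rfl⟩ := h.hy.tt.exists_decomp hq
  have huQ := h.hy.tt.one_le hu
  have hvQ := h.hy.tt.two_le hv
  obtain ⟨m, hm, i, ζ, hζ, e1⟩ := h.key_one hu
  obtain ⟨n, hn, j, ζ', hζ', e2⟩ := h.key_two hv
  have c1 : ⁅v, x1⁆ = 1 := commutatorElement_eq_one_iff_mul_comm.2 (h.hy.tt.one_two h.hx1 hv).symm
  have c2 : ⁅u, x2⁆ = 1 := commutatorElement_eq_one_iff_mul_comm.2 (h.hy.tt.one_two hu h.hx2)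
  refine ⟨m, n, ?_, ?_, i, j, ?_⟩
  · rw [h.exQ.comm_mul huQ hvQ h.x1Q, c1, mul_one, hm]
  · rw [h.exQ.comm_mul huQ hvQ h.x2Q, c2, one_mul, hn, h.om2, inv_zpow, zpow_neg]
  · have p1 : h.exQ.pr ⟨u, huQ⟩ = i • h.exQ.pr ⟨x1, h.x1Q⟩ + m • h.exQ.pr ⟨f1, h.f1Q⟩ := by
      have hζQ := h.exQ.zle hζ
      have e : (⟨u, huQ⟩ : Q) = ⟨x1 ^ i, zpow_mem h.x1Q i⟩ * ⟨ζ, hζQ⟩ * ⟨f1 ^ m, zpow_mem h.f1Q m⟩ := Subtype.ext e1
      rw [e, h.exQ.pr_mul, h.exQ.pr_mul, h.pr_z hζQ hζ, add_zero, h.pr_zpow h.x1Q, h.pr_zpow h.f1Q]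
    have p2 : h.exQ.pr ⟨v, hvQ⟩ = j • h.exQ.pr ⟨x2, h.x2Q⟩ + n • h.exQ.pr ⟨f2, h.f2Q⟩ := by
      have hζQ := h.exQ.zle hζ'
      have e : (⟨v, hvQ⟩ : Q) = ⟨x2 ^ j, zpow_mem h.x2Q j⟩ * ⟨ζ', hζQ⟩ * ⟨f2 ^ n, zpow_mem h.f2Q n⟩ := Subtype.ext e2
      rw [e, h.exQ.pr_mul, h.exQ.pr_mul, h.pr_z hζQ hζ', add_zero, h.pr_zpow h.x2Q, h.pr_zpow h.f2Q]
    rw [h.pr_mul' huQ hvQ, p1, p2]
    abel

/-- the commutator with `s` -/
theorem pr_comm' {q : G} (hq : q ∈ Q) {m n i j : ℤ}
    (e : h.exQ.pr ⟨q, hq⟩ = i • h.exQ.pr ⟨x1, h.x1Q⟩ + j • h.exQ.pr ⟨x2, h.x2Q⟩ +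
      (m • h.exQ.pr ⟨f1, h.f1Q⟩ + n • h.exQ.pr ⟨f2, h.f2Q⟩)) :
    h.exQ.op h.nor_s h.sz (h.exQ.pr ⟨q, hq⟩) = h.exQ.pr ⟨q, hq⟩ -
      (m • h.exQ.pr ⟨x1, h.x1Q⟩ + n • h.exQ.pr ⟨x2, h.x2Q⟩) := by
  rw [e]
  simp only [map_add, map_zsmul, h.pr_f1, h.pr_f2, h.pr_fix h.x1Q h.x1s, h.pr_fix h.x2Q h.x2s, smul_sub]
  abel

/-- cubes of the elements of `Q s` lie in `Z` -/
theorem cube_mem {q : G} (hq : q ∈ Q) : (q * s) ^ 3 ∈ zpowers z := by
  obtain ⟨m, n, -, -, i, j, e⟩ := h.key hq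
  have h1 := h.pr_comm' hq e
  obtain ⟨w, hw⟩ : ∃ w, w = m • h.exQ.pr ⟨x1, h.x1Q⟩ + n • h.exQ.pr ⟨x2, h.x2Q⟩ := ⟨_, rfl⟩
  rw [← hw] at h1
  have h2 : h.exQ.op h.nor_s h.sz w = w := by
    rw [hw, map_add, map_zsmul, map_zsmul, h.pr_fix h.x1Q h.x1s, h.pr_fix h.x2Q h.x2s]
  have hq1 := h.nor_s q hq
  have hq2 := h.nor_s _ hq1
  have h3 : (q * s) ^ 3 = q * (s * q * s⁻¹) * (s * (s * q * s⁻¹) * s⁻¹) := by
    have h4 : (q * s) ^ 3 = q * (s * q * s⁻¹) * (s * (s * q * s⁻¹) * s⁻¹) * s ^ 3 := by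
      rw [pow_succ, pow_two, pow_succ, pow_two]; group
    rw [h4, h.s3, mul_one]
  have h4 : q * (s * q * s⁻¹) * (s * (s * q * s⁻¹) * s⁻¹) ∈ Q := mul_mem (mul_mem hq hq1) hq2
  rw [h3]
  apply (h.exQ.pr_eq_zero (a := ⟨_, h4⟩)).1
  have h5 : (⟨_, h4⟩ : Q) = ⟨q, hq⟩ * ⟨_, hq1⟩ * ⟨_, hq2⟩ := rfl
  rw [h5, h.exQ.pr_mul, h.exQ.pr_mul]
  have h6 : h.exQ.pr ⟨_, hq1⟩ = h.exQ.pr ⟨q, hq⟩ - w := by rw [← h1, h.exQ.op_mk]
  have h7 : h.exQ.pr ⟨_, hq2⟩ = h.exQ.pr ⟨q, hq⟩ - w - w := by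
    have : h.exQ.pr ⟨_, hq2⟩ = h.exQ.op h.nor_s h.sz (h.exQ.pr ⟨_, hq1⟩) := (h.exQ.op_mk h.nor_s h.sz ⟨_, hq1⟩).symm
    rw [this, h6, map_sub, h1, h2]
  rw [h6, h7]
  have h8 := h.exQ.three_V (h.exQ.pr ⟨q, hq⟩)
  have h9 := h.exQ.three_V w
  calc h.exQ.pr ⟨q, hq⟩ + (h.exQ.pr ⟨q, hq⟩ - w) + (h.exQ.pr ⟨q, hq⟩ - w - w)
      = (h.exQ.pr ⟨q, hq⟩ + h.exQ.pr ⟨q, hq⟩ + h.exQ.pr ⟨q, hq⟩) - (w + w + w) := by abel
    _ = 0 := by rw [h8, h9, sub_zero]

end Std

end Cfsg.Agent.H351.OE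
end

private theorem dce_42e8acf64fc2 : _root_.True := by
  try have : _root_.True := by simp only [_root_.Cfsg.pResidual.eq_1]
  try have : _root_.True := by simp only [_root_.Cfsg.Agent.H351.OE.Ex.op.congr_simp]
  try have : _root_.True := by simp only [_root_.Cfsg.Agent.H351.OE.Ex.cm.eq_1]
  try have : _root_.True := by simp only [_root_.Cfsg.Agent.H351.OE.Ex.zq.eq_1]
  exact _root_.True.intro
end

-- part: H351/OE/Alt
section
prune_inst 0xc010000000220000000000000000000020000000000000008100000002008002000000002000000010008000000000200244000000000000000000004004000000220200a0480000200010000000000000000000000000000000000000000000000000000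
set_option linter.all false
open scoped Cfsg.Agent.FastGrp

-- part: H351/OE/Nine
section
/-!
# S3372: subgroups of order `27` of `S` contain a conjugate of `Z`
-/

set_option autoImplicit false
set_option linter.unusedSectionVars false
set_option linter.unusedVariables false

namespace Cfsg.Agent.H351.OE

open Subgroup Cfsg
open scoped commutatorElement

variable {G : Type*} [Group G]

theorem Ex.smul_mod {Q : Subgroup G} {z : G} (h : Ex Q z) (v : h.V) (i : ℤ) : i • v = (i % 3) • v := by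
  have h3 : (3 : ℤ) • v = 0 := by
    have := h.three_V v
    rw [show (3 : ℤ) = 1 + 1 + 1 by norm_num, add_smul, add_smul, one_smul]
    exact this
  conv_lhs => rw [← Int.emod_add_mul_ediv i 3, add_smul, mul_comm, mul_smul, h3, smul_zero, add_zero]

namespace Std

variable {Q : Subgroup G} {z t x s f x1 x2 f1 f2 : G} (h : Std Q z t x s f x1 x2 f1 f2)

include h

theorem pr_x : h.exQ.pr ⟨x, h.xQ⟩ = h.exQ.pr ⟨x1, h.x1Q⟩ + h.exQ.pr ⟨x2, h.x2Q⟩ := by
  rw [← h.exQ.pr_mul]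
  congr 1
  exact Subtype.ext h.ex

/-- the conjugate of `x` under `t` -/
theorem xt : t * x * t⁻¹ ∈ Q ∧ t * x * t⁻¹ ∉ zpowers z ∧ ZC z (t * x * t⁻¹) := by
  refine ⟨h.hy.tt.norm x h.xQ, ?_, h.zc.conj t⟩
  intro h1
  apply h.xz
  have h2 := h.hy.tt.fix_z h1
  rw [h.hy.tt.tqt] at h2
  rw [h2]; exact h1

theorem pr_xt : h.exQ.pr ⟨t * x * t⁻¹, h.xt.1⟩ = - h.exQ.pr ⟨x1, h.x1Q⟩ + h.exQ.pr ⟨x2, h.x2Q⟩ := by
  -- `t x1 t⁻¹ x1 ∈ Z`
  have h1 : t * x1 * t⁻¹ * x1 ∈ zpowers z := by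
    have h4 := h.hy.tt.f_mem h.x1Q
    have h5 : t * x1 * t⁻¹ ∈ one Q t := by
      have h6 := h.hy.tt.m_mem_one h.x1Q
      have h7 : t * x1 * t⁻¹ = (t * x1 * t⁻¹ * x1⁻¹) * x1 := by group
      rw [h7]; exact mul_mem h6 h.hx1
    have h6 : (x1 * (t * x1 * t⁻¹))⁻¹ ∈ one Q t := inv_mem (mul_mem h.hx1 h5)
    have h7 := h.hy.tt.inter h6 h4
    rw [inv_mem_iff, h.hy.tt.comm_self h.x1Q] at h7
    exact h7
  have h2 : t * x2 * t⁻¹ = x2 := by
    rw [mul_inv_eq_iff_eq_mul]
    exact (mem_two.1 h.hx2).2.symm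
  have h3 : t * x1 * t⁻¹ ∈ Q := h.hy.tt.norm x1 h.x1Q
  have e1 : (⟨t * x * t⁻¹, h.xt.1⟩ : Q) = ⟨_, h3⟩ * ⟨x2, h.x2Q⟩ := by
    apply Subtype.ext
    change t * x * t⁻¹ = (t * x1 * t⁻¹) * x2
    rw [h.ex]
    calc t * (x1 * x2) * t⁻¹ = (t * x1 * t⁻¹) * (t * x2 * t⁻¹) := by group
      _ = _ := by rw [h2]
  rw [e1, h.exQ.pr_mul]
  congr 1
  rw [← h.exQ.pr_inv, eq_comm, h.exQ.pr_eq]
  change (x1⁻¹)⁻¹ * (t * x1 * t⁻¹) ∈ zpowers z
  rw [inv_inv, h.hy.tt.comm_self h.x1Q]
  exact h1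

/-- elements of `Q` with the same class -/
theorem zc_of_pr {w e : G} (hwQ : w ∈ Q) (hwz : w ∉ zpowers z) (hw : ZC z w) (heQ : e ∈ Q)
    (he : h.exQ.pr ⟨e, heQ⟩ = h.exQ.pr ⟨w, hwQ⟩) : ZC z e := by
  refine ZC.congr h.exQ hw hwQ hwz ?_
  have h1 := (h.exQ.pr_eq).1 he.symm
  change w⁻¹ * e ∈ zpowers z at h1
  have h2 := h.exQ.comm_z hwQ h1
  rw [mul_inv_cancel_left] at h2
  rw [h2, mul_inv_cancel_right]
  exact h1

theorem zc_of_pr_neg {w e : G} (hwQ : w ∈ Q) (hwz : w ∉ zpowers z) (hw : ZC z w) (heQ : e ∈ Q)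
    (he : h.exQ.pr ⟨e, heQ⟩ = - h.exQ.pr ⟨w, hwQ⟩) : ZC z e := by
  have h1 : ZC z e⁻¹ := by
    refine h.zc_of_pr hwQ hwz hw (inv_mem heQ) ?_
    have : (⟨e⁻¹, inv_mem heQ⟩ : Q) = (⟨e, heQ⟩ : Q)⁻¹ := rfl
    rw [this, h.exQ.pr_inv, he, neg_neg]
  have := h1.inv
  rwa [inv_inv] at this

/-- the class of `e = x1 ^ m x2 ^ n` -/
theorem zc_of_mn {e : G} (heQ : e ∈ Q) {m n : ℤ}
    (he : h.exQ.pr ⟨e, heQ⟩ = m • h.exQ.pr ⟨x1, h.x1Q⟩ + n • h.exQ.pr ⟨x2, h.x2Q⟩)
    (hm : m % 3 ≠ 0) (hn : n % 3 ≠ 0) : ZC z e := by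
  rw [h.exQ.smul_mod _ m, h.exQ.smul_mod _ n] at he
  have hm' : m % 3 = 1 ∨ m % 3 = 2 := by omega
  have hn' : n % 3 = 1 ∨ n % 3 = 2 := by omega
  have h2 : ∀ v : h.exQ.V, (2 : ℤ) • v = - v := by
    intro v
    have h3 := h.exQ.three_V v
    rw [show (2 : ℤ) = 1 + 1 by norm_num, add_smul, one_smul]
    exact eq_neg_of_add_eq_zero_left h3
  rcases hm' with hm' | hm' <;> rcases hn' with hn' | hn' <;> rw [hm', hn'] at he
  · rw [one_smul, one_smul, ← h.pr_x] at he
    exact h.zc_of_pr h.xQ h.xz h.zc heQ he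
  · rw [one_smul, h2] at he
    refine h.zc_of_pr_neg h.xt.1 h.xt.2.1 h.xt.2.2 heQ ?_
    rw [he, h.pr_xt]; abel
  · rw [one_smul, h2, ← h.pr_xt] at he
    exact h.zc_of_pr h.xt.1 h.xt.2.1 h.xt.2.2 heQ he
  · rw [h2, h2, ← neg_add, ← h.pr_x] at he
    exact h.zc_of_pr_neg h.xQ h.xz h.zc heQ he

/-- the commutator of an element of an abelian subgroup with `q s` -/
theorem step {d q : G} (hd : d ∈ Q) (hq : q ∈ Q) (hc : d * ⁅d, q * s⁆ = ⁅d, q * s⁆ * d) (hcz : ⁅d, q * s⁆ ∈ zpowers z →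
    ⁅d, q * s⁆ = 1) : ZC z ⁅d, q * s⁆ ∨ ∃ i j : ℤ, h.exQ.pr ⟨d, hd⟩ = i • h.exQ.pr ⟨x1, h.x1Q⟩ + j • h.exQ.pr ⟨x2, h.x2Q⟩ := by
  obtain ⟨m, n, hm, hn, i, j, e⟩ := h.key hd
  have hqsz : (q * s) * z = z * (q * s) := by
    have h1 : Commute q z := h.exQ.zc q hq
    exact (h1.mul_left h.sz).eq
  have hdy := h.hy.nor (q * s) hqsz d hd
  have e1 : ⁅d, q * s⁆ = d * ((q * s) * d * (q * s)⁻¹)⁻¹ := by rw [commutatorElement_def]; group
  have heQ : ⁅d, q * s⁆ ∈ Q := by rw [e1]; exact mul_mem hd (inv_mem hdy)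
  -- its class
  have p1 : h.exQ.pr ⟨_, hdy⟩ = h.exQ.op h.nor_s h.sz (h.exQ.pr ⟨d, hd⟩) := by
    rw [h.exQ.op_mk, h.exQ.pr_eq]
    change ((q * s) * d * (q * s)⁻¹)⁻¹ * (s * d * s⁻¹) ∈ zpowers z
    have h2 : ((q * s) * d * (q * s)⁻¹)⁻¹ * (s * d * s⁻¹) = ⁅q, (s * d * s⁻¹)⁻¹⁆ := by
      rw [commutatorElement_def]; group
    rw [h2]
    exact h.exQ.comm q hq _ (inv_mem (h.nor_s d hd))
  have p2 : h.exQ.pr ⟨_, heQ⟩ = m • h.exQ.pr ⟨x1, h.x1Q⟩ + n • h.exQ.pr ⟨x2, h.x2Q⟩ := by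
    have e2 : (⟨_, heQ⟩ : Q) = ⟨d, hd⟩ * (⟨_, hdy⟩ : Q)⁻¹ := Subtype.ext e1
    rw [e2, h.exQ.pr_mul, h.exQ.pr_inv, p1, h.pr_comm' hd e]
    abel
  -- the commutator
  have h3 : ∃ ζ ∈ zpowers z, ⁅d, q * s⁆ = x1 ^ m * x2 ^ n * ζ := by
    have h4 : (⟨_, mul_mem (zpow_mem h.x1Q m) (zpow_mem h.x2Q n)⟩ : Q) =
      ⟨x1 ^ m, zpow_mem h.x1Q m⟩ * ⟨x2 ^ n, zpow_mem h.x2Q n⟩ := rfl
    have h5 : h.exQ.pr ⟨_, mul_mem (zpow_mem h.x1Q m) (zpow_mem h.x2Q n)⟩ = h.exQ.pr ⟨_, heQ⟩ := by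
      rw [p2, h4, h.exQ.pr_mul, h.pr_zpow h.x1Q, h.pr_zpow h.x2Q]
    have h6 := (h.exQ.pr_eq).1 h5
    exact ⟨_, h6, by simp only [mul_inv_cancel_left]⟩
  obtain ⟨ζ, hζ, e3⟩ := h3
  have h4 : ⁅d, ⁅d, q * s⁆⁆ = ⁅f1, x1⁆ ^ (m * m - n * n) := by
    rw [e3, h.exQ.comm_mul' hd (mul_mem (zpow_mem h.x1Q m) (zpow_mem h.x2Q n)) (h.exQ.zle hζ),
      commutatorElement_eq_one_iff_mul_comm.2 (h.exQ.comm_z hd hζ), mul_one,
      h.exQ.comm_mul' hd (zpow_mem h.x1Q m) (zpow_mem h.x2Q n), h.exQ.comm_zpow_right hd h.x1Q,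
      h.exQ.comm_zpow_right hd h.x2Q, hm, hn, ← zpow_mul, ← zpow_mul, ← zpow_add]
    congr 1
    ring
  have h5 : (3 : ℤ) ∣ m * m - n * n := by
    have h6 : ⁅f1, x1⁆ ^ (m * m - n * n) = 1 := by
      rw [← h4]; exact commutatorElement_eq_one_iff_mul_comm.2 hc
    have h7 : orderOf ⁅f1, x1⁆ = 3 :=
      orderOf_eq_prime (h.exQ.exp _ (h.exQ.zle h.om_mem)) h.om_ne
    have h8 := orderOf_dvd_iff_zpow_eq_one.2 h6
    rw [h7] at h8
    exact_mod_cast h8
  by_cases hm0 : m % 3 = 0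
  · right
    have hn0 : n % 3 = 0 := by
      have h6 : (m * m - n * n) % 3 = 0 := Int.emod_eq_zero_of_dvd h5
      have : n % 3 = 0 ∨ n % 3 = 1 ∨ n % 3 = 2 := by omega
      rcases this with h | h | h
      · exact h
      · exfalso; simp [Int.sub_emod, Int.mul_emod, h, hm0] at h6
      · exfalso; simp [Int.sub_emod, Int.mul_emod, h, hm0] at h6
    refine ⟨i, j, ?_⟩
    rw [e, h.exQ.smul_mod _ m, h.exQ.smul_mod _ n, hm0, hn0, zero_smul, zero_smul, add_zero, add_zero]
  · left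
    have hn0 : n % 3 ≠ 0 := by
      intro hn0
      have h6 : (m * m - n * n) % 3 = 0 := Int.emod_eq_zero_of_dvd h5
      have : m % 3 = 1 ∨ m % 3 = 2 := by omega
      rcases this with h | h <;> simp only [Int.sub_emod, Int.mul_emod, h, hn0, _root_.mul_one, _root_.Int.reduceMod, _root_.MulZeroClass.mul_zero, _root_.EuclideanDomain.zero_mod, _root_.sub_zero, _root_.one_ne_zero, _root_.Int.reduceMul] at h6
    exact h.zc_of_mn heQ p2 hm0 hn0

/-- **The main lemma.** -/
theorem exists_zc [Finite G] {D : Subgroup G} {q : G} (hq : q ∈ Q) (hD : q * s ∈ D)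
    (h9 : 9 ≤ Nat.card (D ⊓ Q : Subgroup G)) (hab : ∀ a ∈ D ⊓ Q, ∀ b ∈ D ⊓ Q, a * b = b * a) : ∃ d ∈ D, ZC z d := by
  by_contra hcon
  push Not at hcon
  have hz : ∀ c ∈ D, c ∈ zpowers z → c = 1 := by
    intro c hc hcz
    by_contra h1
    exact hcon c hc (ZC.of_mem hcz h1)
  have h1 : ∀ d (hd : d ∈ D ⊓ Q), ∃ i j : ℤ, h.exQ.pr ⟨d, hd.2⟩ = i • h.exQ.pr ⟨x1, h.x1Q⟩ + j • h.exQ.pr ⟨x2, h.x2Q⟩ := by
    intro d hd
    have heD : ⁅d, q * s⁆ ∈ D := by
      rw [commutatorElement_def]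
      exact mul_mem (mul_mem (mul_mem hd.1 hD) (inv_mem hd.1)) (inv_mem hD)
    have hqsz : (q * s) * z = z * (q * s) := by
      have h1 : Commute q z := h.exQ.zc q hq
      exact (h1.mul_left h.sz).eq
    have heQ : ⁅d, q * s⁆ ∈ Q := by
      have e1 : ⁅d, q * s⁆ = d * ((q * s) * d * (q * s)⁻¹)⁻¹ := by rw [commutatorElement_def]; group
      rw [e1]; exact mul_mem hd.2 (inv_mem (h.hy.nor (q * s) hqsz d hd.2))
    rcases h.step hd.2 hq (hab d hd _ ⟨heD, heQ⟩) (hz _ heD) with h2 | h2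
    · exact absurd h2 (hcon _ heD)
    · exact h2
  -- counting
  have hfV : Finite h.exQ.V := Nat.finite_of_card_ne_zero (by rw [h.exQ.card_V]; norm_num)
  classical
  let φ : (D ⊓ Q : Subgroup G) → h.exQ.V := fun d => h.exQ.pr ⟨d, d.2.2⟩
  have hφ : Function.Injective φ := by
    intro a b hab'
    have h2 := (h.exQ.pr_eq).1 hab'
    have h3 := hz _ (mul_mem (inv_mem a.2.1) b.2.1) h2
    exact Subtype.ext (inv_mul_eq_one.1 h3)
  let T : Finset h.exQ.V := (Finset.univ : Finset (Fin 3 × Fin 3)).image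
    (fun p => ((p.1 : ℕ) : ℤ) • h.exQ.pr ⟨x1, h.x1Q⟩ + ((p.2 : ℕ) : ℤ) • h.exQ.pr ⟨x2, h.x2Q⟩)
  have hT : T.card ≤ 9 := by
    refine Finset.card_image_le.trans ?_
    simp
  have hmem : ∀ i j : ℤ, i • h.exQ.pr ⟨x1, h.x1Q⟩ + j • h.exQ.pr ⟨x2, h.x2Q⟩ ∈ T := by
    intro i j
    rw [h.exQ.smul_mod _ i, h.exQ.smul_mod _ j]
    rw [Finset.mem_image]
    refine ⟨(⟨(i % 3).toNat, by omega⟩, ⟨(j % 3).toNat, by omega⟩), Finset.mem_univ _, ?_⟩
    simp only
    rw [Int.toNat_of_nonneg (by omega), Int.toNat_of_nonneg (by omega)]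
  have hsub : Set.range φ ⊆ (T : Set h.exQ.V) := by
    rintro _ ⟨d, rfl⟩
    obtain ⟨i, j, e⟩ := h1 d d.2
    change h.exQ.pr ⟨d, d.2.2⟩ ∈ T
    rw [e]; exact hmem i j
  have heq : Set.range φ = (T : Set h.exQ.V) := by
    apply Set.eq_of_subset_of_ncard_le hsub _ (Set.toFinite _)
    rw [Set.ncard_coe_finset]
    have h2 : (Set.range φ).ncard = Nat.card (D ⊓ Q : Subgroup G) := by
      rw [← Set.image_univ, Set.ncard_image_of_injective _ hφ, Set.ncard_univ]
    rw [h2]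
    omega
  have hx : h.exQ.pr ⟨x, h.xQ⟩ ∈ Set.range φ := by
    rw [heq, h.pr_x]
    have := hmem 1 1
    rw [one_smul, one_smul] at this
    exact this
  obtain ⟨d, hd⟩ := hx
  exact hcon d d.2.1 (h.zc_of_pr h.xQ h.xz h.zc d.2.2 hd)

end Std

end Cfsg.Agent.H351.OE
end

-- part: H351/OE/Facts
section
/-!
# S3372: facts on the group `G` and its simple normal subgroup
-/

set_option autoImplicit false
set_option linter.unusedSectionVars false
set_option linter.unusedVariables false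

namespace Cfsg.Agent.H351.OE

open Subgroup Cfsg
open scoped commutatorElement

variable {G : Type*} [Group G] [Finite G]

/-- the bound for the centralizer of `z` -/
def N0 : ℕ := 2 ^ 4 * 3 ^ 6

namespace Full

variable {Q : Subgroup G} {z t g : G} {S : Sylow 3 G} (h : Full Q z t g S)

include h

theorem SC : (S : Subgroup G) ≤ centralizer ({z} : Set G) := fun s hs => mem_centralizer_singleton_iff.2 (h.Sz s hs)

/-- `3`-subgroups of `C(z)` are conjugate into `S` inside `C(z)` -/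
theorem conj_into {P : Subgroup G} (hP : IsPGroup 3 P) (hPz : ∀ p ∈ P, p * z = z * p) :
    ∃ c : G, c * z = z * c ∧ ∀ p ∈ P, c * p * c⁻¹ ∈ S := by
  have hF : Fact (Nat.Prime 3) := ⟨Nat.prime_three⟩
  have hPC : P ≤ centralizer ({z} : Set G) := fun p hp => mem_centralizer_singleton_iff.2 (hPz p hp)
  have h1 : IsPGroup 3 (P.subgroupOf (centralizer ({z} : Set G))) := hP.of_equiv (subgroupOfEquivOfLe hPC).symm
  obtain ⟨R, hR⟩ := h1.exists_le_sylow
  obtain ⟨c, hc⟩ := MulAction.exists_smul_eq (centralizer ({z} : Set G)) R (S.subtype h.SC)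
  refine ⟨c, mem_centralizer_singleton_iff.1 c.2, fun p hp => ?_⟩
  have h2 : c * ⟨p, hPC hp⟩ * c⁻¹ ∈ (S.subtype h.SC : Subgroup (centralizer ({z} : Set G))) := by
    rw [← hc]
    have h3 : (⟨p, hPC hp⟩ : centralizer ({z} : Set G)) ∈ (R : Subgroup (centralizer ({z} : Set G))) := hR (mem_subgroupOf.2 hp)
    exact Subgroup.smul_mem_pointwise_smul _ (MulAut.conj c) (R : Subgroup (centralizer ({z} : Set G))) h3
  exact h2

/-- `3`-subgroups are conjugate into `S` -/
theorem conj_into' {P : Subgroup G} (hP : IsPGroup 3 P) : ∃ c : G, ∀ p ∈ P, c * p * c⁻¹ ∈ S := by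
  have hF : Fact (Nat.Prime 3) := ⟨Nat.prime_three⟩
  obtain ⟨R, hR⟩ := hP.exists_le_sylow
  obtain ⟨c, hc⟩ := MulAction.exists_smul_eq G R S
  refine ⟨c, fun p hp => ?_⟩
  have h2 : c * p * c⁻¹ ∈ (S : Subgroup G) := by
    rw [← hc]
    have h3 : p ∈ (R : Subgroup G) := hR hp
    exact Subgroup.smul_mem_pointwise_smul p (MulAut.conj c) (R : Subgroup G) h3
  exact h2

/-- the standard situation with `s ∈ S`; `Q'` is the conjugate of `Q` belonging to `x` -/
theorem exists_std : ∃ k x s f x1 x2 f1 f2 : G, Std Q z t x s f x1 x2 f1 f2 ∧ s ∈ S ∧ x = k * z * k⁻¹ ∧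
    s ∈ cj k Q ∧ f ∈ cj k Q ∧ 27 ≤ Nat.card (Q ⊓ cj k Q : Subgroup G) ∧
    (∀ a ∈ Q ⊓ cj k Q, ∀ b ∈ Q ⊓ cj k Q, a * b = b * a) ∧ x1 = ⁅t, x⁆ := by
  have hF : Fact (Nat.Prime 3) := ⟨Nat.prime_three⟩
  -- a conjugate with `s ∈ S`
  obtain ⟨-, -, -, s0, f0, hs0Q', hs0Q, hs0z, hs0x, hs03, hf0, hf0Q', hf0x, e0⟩ :=
    exists_pair h.hy.toCe (h.hy.toCe.conj g) h.gx h.gxz
  have hp : IsPGroup 3 (zpowers s0) := by
    refine IsPGroup.of_card_dvd_pow (n := 1) ?_
    rw [Nat.card_zpowers, pow_one]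
    exact orderOf_dvd_of_pow_eq_one hs03
  obtain ⟨c, hc, hcs⟩ := h.conj_into hp (by
    rintro _ ⟨i, rfl⟩
    exact ((show Commute s0 z from hs0z).zpow_left i).eq)
  have hcs0 := hcs s0 (mem_zpowers s0)
  obtain ⟨k, hk⟩ : ∃ k, k = c * g := ⟨_, rfl⟩
  obtain ⟨x, hx⟩ : ∃ x, x = k * z * k⁻¹ := ⟨_, rfl⟩
  have hx' : x = c * (g * z * g⁻¹) * c⁻¹ := by rw [hx, hk]; group
  have hxQ : x ∈ Q := by rw [hx']; exact h.hy.nor c hc _ h.gx
  have hc' : c⁻¹ * z = z * c⁻¹ := ((show Commute c z from hc).inv_left).eq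
  have hczp : ∀ y, y ∈ zpowers z → c⁻¹ * y * c = y := by
    rintro _ ⟨i, rfl⟩
    simp only
    rw [((show Commute c⁻¹ z from hc').zpow_right i).eq, inv_mul_cancel_right]
  have hxz : x ∉ zpowers z := by
    intro h1
    apply h.gxz
    have h2 := hczp x h1
    have h3 : c⁻¹ * x * c = g * z * g⁻¹ := by rw [hx']; group
    rw [h3] at h2
    rw [h2]; exact h1
  have hCe : Ce (cj k Q) x := by rw [hx]; exact h.hy.toCe.conj k
  obtain ⟨-, h27, hab, -⟩ := exists_pair h.hy.toCe hCe hxQ hxz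
  -- the transported data
  have hcjk : ∀ y, y ∈ cj g Q → c * y * c⁻¹ ∈ cj k Q := by
    intro y hy
    rw [mem_cj] at hy ⊢
    rw [hk]
    have : (c * g)⁻¹ * (c * y * c⁻¹) * (c * g) = g⁻¹ * y * g := by group
    rw [this]; exact hy
  obtain ⟨s, hs⟩ : ∃ s, s = c * s0 * c⁻¹ := ⟨_, rfl⟩
  obtain ⟨f, hf⟩ : ∃ f, f = c * f0 * c⁻¹ := ⟨_, rfl⟩
  have hsz : s * z = z * s := by
    rw [hs]
    exact (((show Commute c z from hc).mul_left hs0z).mul_left hc').eq
  have hsQ : s ∉ Q := by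
    intro h1
    apply hs0Q
    have h2 := h.hy.nor c⁻¹ hc' s h1
    rw [hs] at h2
    have h3 : c⁻¹ * (c * s0 * c⁻¹) * c⁻¹⁻¹ = s0 := by group
    rwa [h3] at h2
  have hsx : s * x = x * s := by
    rw [hs, hx']
    calc c * s0 * c⁻¹ * (c * (g * z * g⁻¹) * c⁻¹) = c * (s0 * (g * z * g⁻¹)) * c⁻¹ := by group
      _ = c * ((g * z * g⁻¹) * s0) * c⁻¹ := by rw [hs0x]
      _ = _ := by group
  have hs3 : s ^ 3 = 1 := by rw [hs, conj_pow, hs03]; group
  have hfQ : f ∈ Q := by rw [hf]; exact h.hy.nor c hc f0 hf0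
  have hfx : f * x = x * f := by
    rw [hf, hx']
    calc c * f0 * c⁻¹ * (c * (g * z * g⁻¹) * c⁻¹) = c * (f0 * (g * z * g⁻¹)) * c⁻¹ := by group
      _ = c * ((g * z * g⁻¹) * f0) * c⁻¹ := by rw [hf0x]
      _ = _ := by group
  have hfs : ⁅f, s⁆ = x := by
    rw [hf, hs, hx', ← e0]
    simp only [commutatorElement_def]; group
  have hx1 := h.hy.not_mem_one hxz hfQ hfx hsz hsx hfs
  have hx2 := h.hy.not_mem_two hxz hfQ hfx hsz hsx hfs
  obtain ⟨x1, hx1', x2, hx2', ex, hx1z, hx2z, hx1t⟩ := h.hy.exists_comp hxQ hx1 hx2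
  obtain ⟨f1, hf1, f2, hf2, ef⟩ := h.hy.tt.exists_decomp hfQ
  refine ⟨k, x, s, f, x1, x2, f1, f2, ?_, by rw [hs]; exact hcs0, hx, by rw [hs]; exact hcjk s0 hs0Q',
    by rw [hf]; exact hcjk f0 hf0Q', h27, hab, hx1t⟩
  exact
    { hy := h.hy
      xQ := hxQ
      xz := hxz
      zc := ⟨fun h1 => hxz (h1 ▸ one_mem _), k, by rw [hx]; exact mem_zpowers _⟩
      sQ := hsQ
      sz := hsz
      sx := hsx
      s3 := hs3
      fQ := hfQ
      fx := hfx
      fs := hfs
      hx1 := hx1'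
      hx2 := hx2'
      hf1 := hf1
      hf2 := hf2
      ex := ex
      ef := ef
      x1z := hx1z
      x2z := hx2z }

/-- `S = Q ∪ Q s ∪ Q s⁻¹` -/
theorem cases_S {s y : G} (hs : s ∈ S) (hsQ : s ∉ Q) (hs3 : s ^ 3 = 1) (hy : y ∈ S) :
    y ∈ Q ∨ (∃ q ∈ Q, y = q * s) ∨ ∃ q ∈ Q, y = q * s⁻¹ := by
  have hn : (Q.subgroupOf S).Normal := by
    constructor
    intro n hn c
    rw [mem_subgroupOf] at hn ⊢
    exact h.hy.nor c (h.Sz c c.2) n hn
  have h1 := Subgroup.card_mul_index (Q.subgroupOf (S : Subgroup G))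
  rw [Nat.card_congr (subgroupOfEquivOfLe h.QS).toEquiv, h.hy.ex.card] at h1
  have h2 : Nat.card ((S : Subgroup G) ⧸ Q.subgroupOf (S : Subgroup G)) = 3 := by
    have h3 : Nat.card ((S : Subgroup G) ⧸ Q.subgroupOf (S : Subgroup G)) = (Q.subgroupOf (S : Subgroup G)).index := rfl
    have h4 : Nat.card (S : Subgroup G) = 3 ^ 6 := h.cardS
    rw [h4] at h1
    rw [h3]
    have h5 : (3 : ℕ) ^ 6 = 3 ^ 5 * 3 := by norm_num
    rw [h5] at h1
    exact Nat.eq_of_mul_eq_mul_left (by norm_num) h1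
  obtain ⟨σ, hσ⟩ : ∃ σ : (S : Subgroup G) ⧸ Q.subgroupOf (S : Subgroup G), σ = QuotientGroup.mk ⟨s, hs⟩ := ⟨_, rfl⟩
  have hσ1 : σ ≠ 1 := by
    rw [hσ]
    intro h3
    exact hsQ (mem_subgroupOf.1 ((QuotientGroup.eq_one_iff _).1 h3))
  have hσ3 : orderOf σ = 3 := by
    have : Fact (Nat.Prime 3) := ⟨Nat.prime_three⟩
    refine orderOf_eq_prime ?_ hσ1
    rw [hσ, ← QuotientGroup.mk_pow]
    have : (⟨s, hs⟩ : (S : Subgroup G)) ^ 3 = 1 := Subtype.ext hs3
    rw [this]; rfl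
  have htop : zpowers σ = ⊤ := by
    apply Subgroup.eq_top_of_card_eq
    rw [Nat.card_zpowers, hσ3, h2]
  have h3 : (QuotientGroup.mk ⟨y, hy⟩ : (S : Subgroup G) ⧸ Q.subgroupOf (S : Subgroup G)) ∈ zpowers σ := by
    rw [htop]; trivial
  by_cases h4 : (QuotientGroup.mk ⟨y, hy⟩ : (S : Subgroup G) ⧸ Q.subgroupOf (S : Subgroup G)) = 1
  · left
    exact mem_subgroupOf.1 ((QuotientGroup.eq_one_iff _).1 h4)
  · right
    rcases eq_or_of_three hσ3 h3 h4 with h5 | h5
    · left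
      rw [hσ, QuotientGroup.eq] at h5
      have h6 : (y : G)⁻¹ * s ∈ Q := mem_subgroupOf.1 h5
      refine ⟨y * s⁻¹, ?_, by group⟩
      have h7 := h.hy.nor y (h.Sz y hy) _ (inv_mem h6)
      have h8 : y * (y⁻¹ * s)⁻¹ * y⁻¹ = y * s⁻¹ := by group
      rwa [h8] at h7
    · right
      rw [hσ, ← QuotientGroup.mk_inv, QuotientGroup.eq] at h5
      have h6 : (y : G)⁻¹ * s⁻¹ ∈ Q := mem_subgroupOf.1 h5
      refine ⟨y * s, ?_, by group⟩
      have h7 := h.hy.nor y (h.Sz y hy) _ (inv_mem h6)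
      have h8 : y * (y⁻¹ * s⁻¹)⁻¹ * y⁻¹ = y * s := by group
      rwa [h8] at h7

/-- subgroups of order at least `27` of `S` -/
theorem exists_zc_S {D : Subgroup G} (hD : D ≤ S) (h27 : 27 ≤ Nat.card D) : ∃ d ∈ D, ZC z d := by
  have hF : Fact (Nat.Prime 3) := ⟨Nat.prime_three⟩
  by_contra hcon
  push Not at hcon
  have hz : z ∉ D := fun h1 => hcon z h1 (ZC.of_mem (mem_zpowers z) h.hy.ex.z1)
  have hz' : ∀ c ∈ D, c ∈ zpowers z → c = 1 := by
    intro c hc hcz
    by_contra h1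
    exact hcon c hc (ZC.of_mem hcz h1)
  obtain ⟨k, x, s, f, x1, x2, f1, f2, hstd, hsS, -⟩ := h.exists_std
  have hp : IsPGroup 3 D := S.isPGroup'.to_le hD
  have hidx := h.hy.toCe.idx D hp (fun p hpD => h.Sz p (hD hpD))
  -- the subgroup `D ∩ Q` is abelian
  have hab : ∀ a ∈ D ⊓ Q, ∀ b ∈ D ⊓ Q, a * b = b * a := by
    intro a ha b hb
    apply commutatorElement_eq_one_iff_mul_comm.1
    apply hz' _ _ (h.hy.ex.comm a ha.2 b hb.2)
    rw [commutatorElement_def]
    exact mul_mem (mul_mem (mul_mem ha.1 hb.1) (inv_mem ha.1)) (inv_mem hb.1)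
  -- its order is at most nine
  have h9 : Nat.card (D ⊓ Q : Subgroup G) ≤ 9 := by
    have h1 := h.hy.ex.card_abelian (A := (D ⊓ Q) ⊔ zpowers z) (sup_le inf_le_right h.hy.ex.zle)
      (comm_of_sup hab (fun a ha => h.hy.ex.zc a ha.2))
    by_contra h2
    push Not at h2
    have hd : Nat.card (D ⊓ Q : Subgroup G) ∣ 3 ^ 5 := by
      rw [← h.hy.ex.card]; exact Subgroup.card_dvd_of_le inf_le_right
    obtain ⟨j, hj, hj2⟩ := (Nat.dvd_prime_pow Nat.prime_three).1 hd
    have hj3 : 3 ≤ j := by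
      by_contra h5
      have h6 : j ≤ 2 := by omega
      have := Nat.pow_le_pow_right (show 0 < 3 by norm_num) h6
      omega
    have h3 : 27 ≤ Nat.card (D ⊓ Q : Subgroup G) := by
      rw [hj2]; exact (show 3 ^ 3 ≤ 3 ^ j from Nat.pow_le_pow_right (by norm_num) hj3)
    have h4 : D ⊓ Q = (D ⊓ Q) ⊔ zpowers z := Subgroup.eq_of_le_of_card_ge le_sup_left (h1.trans h3)
    have h5 : z ∈ D ⊓ Q := by rw [h4]; exact mem_sup_right (mem_zpowers z)
    exact hz h5.1
  have h9' : 9 ≤ Nat.card (D ⊓ Q : Subgroup G) := by omega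
  -- an element outside `Q`
  have hex : ∃ y ∈ D, y ∉ Q := by
    by_contra hc
    push Not at hc
    have : D ⊓ Q = D := inf_eq_left.2 hc
    rw [this] at h9
    omega
  obtain ⟨y, hyD, hyQ⟩ := hex
  rcases h.cases_S hsS hstd.sQ hstd.s3 (hD hyD) with h1 | ⟨q, hq, rfl⟩ | ⟨q, hq, rfl⟩
  · exact hyQ h1
  · obtain ⟨d, hd, hd2⟩ := hstd.exists_zc hq hyD h9' hab
    exact hcon d hd hd2
  · have h1 : (s * q⁻¹ * s⁻¹) * s ∈ D := by
      have := inv_mem hyD
      have e : (s * q⁻¹ * s⁻¹) * s = (q * s⁻¹)⁻¹ := by group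
      rw [e]; exact this
    obtain ⟨d, hd, hd2⟩ := hstd.exists_zc (h.hy.nor s hstd.sz _ (inv_mem hq)) h1 h9' hab
    exact hcon d hd hd2

/-- the centralizer of a `ZC` element -/
theorem card_zc {d : G} (hd : ZC z d) : orderOf d = 3 ∧ Nat.card (centralizer ({d} : Set G)) ∣ N0 := by
  have hF : Fact (Nat.Prime 3) := ⟨Nat.prime_three⟩
  obtain ⟨h1, k, hk⟩ := hd
  have ho : orderOf (k * z * k⁻¹) = 3 := by
    refine orderOf_eq_prime ?_ (fun h2 => h.hy.ex.z1 (conj_eq_one_iff.1 h2))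
    rw [conj_pow, h.hy.ex.zz]; group
  have h2 := mem_zpowers_of_three ho hk h1
  have h3 : centralizer ({d} : Set G) ≤ cj k (centralizer ({z} : Set G)) := by
    intro c hc
    rw [mem_centralizer_singleton_iff] at hc
    rw [mem_cj, mem_centralizer_singleton_iff, ← conj_comm_iff]
    obtain ⟨i, hi⟩ := h2
    simp only at hi
    rw [← hi]
    exact ((show Commute c d from hc).zpow_right i).eq
  refine ⟨?_, ?_⟩
  · rcases eq_or_of_three ho hk h1 with h4 | h4
    · rw [h4, ho]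
    · rw [h4, orderOf_inv, ho]
  · refine (Subgroup.card_dvd_of_le h3).trans ?_
    rw [card_cj]
    exact h.cardC

/-- **subgroups of order divisible by `27`** -/
theorem exists_zc {D : Subgroup G} (hD : 27 ∣ Nat.card D) : ∃ d ∈ D, ZC z d := by
  have hF : Fact (Nat.Prime 3) := ⟨Nat.prime_three⟩
  obtain ⟨R, hR⟩ := Sylow.exists_subgroup_card_pow_prime (G := D) 3 (n := 3) (by exact hD)
  have hRp : IsPGroup 3 (R.map D.subtype) := (IsPGroup.of_card hR).map _
  have hRc : Nat.card (R.map D.subtype) = 27 := by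
    rw [← Nat.card_congr (R.equivMapOfInjective D.subtype D.subtype_injective).toEquiv, hR]
    norm_num
  obtain ⟨c, hc⟩ := h.conj_into' hRp
  obtain ⟨d, hd, hd2⟩ := h.exists_zc_S (D := cj c (R.map D.subtype)) (by
    intro y hy
    rw [mem_cj] at hy
    have := hc _ hy
    have e : c * (c⁻¹ * y * c) * c⁻¹ = y := by group
    rwa [e] at this) (by rw [card_cj, hRc])
  rw [mem_cj] at hd
  obtain ⟨r, -, hr2⟩ := hd
  refine ⟨c⁻¹ * d * c, by rw [← hr2]; exact r.2, ?_⟩
  have := hd2.conj c⁻¹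
  rwa [inv_inv] at this

/-- elements of order nine -/
theorem zc_of_nine {y : G} (hy : orderOf y = 9) : ZC z (y ^ 3) := by
  have hF : Fact (Nat.Prime 3) := ⟨Nat.prime_three⟩
  obtain ⟨k, x, s, f, x1, x2, f1, f2, hstd, hsS, -⟩ := h.exists_std
  have hp : IsPGroup 3 (zpowers y) := by
    refine IsPGroup.of_card (n := 2) ?_
    rw [Nat.card_zpowers, hy]; norm_num
  obtain ⟨c, hc⟩ := h.conj_into' hp
  have h1 := hc y (mem_zpowers y)
  have hy3 : (c * y * c⁻¹) ^ 3 ≠ 1 := by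
    rw [conj_pow]
    intro h2
    rw [conj_eq_one_iff] at h2
    have := orderOf_dvd_of_pow_eq_one h2
    rw [hy] at this
    norm_num at this
  have h2 : (c * y * c⁻¹) ^ 3 ∈ zpowers z := by
    rcases h.cases_S hsS hstd.sQ hstd.s3 h1 with h3 | ⟨q, hq, e⟩ | ⟨q, hq, e⟩
    · exact absurd (h.hy.ex.exp _ h3) hy3
    · rw [e]; exact hstd.cube_mem hq
    · have e' : (c * y * c⁻¹)⁻¹ = (s * q⁻¹ * s⁻¹) * s := by rw [e]; group
      have h4 := hstd.cube_mem (h.hy.nor s hstd.sz _ (inv_mem hq))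
      rw [← e', inv_pow, inv_mem_iff] at h4
      exact h4
  have h3 : ZC z ((c * y * c⁻¹) ^ 3) := ZC.of_mem h2 hy3
  rw [conj_pow] at h3
  exact h3.of_conj

theorem card_of_nine {y : G} (hy : orderOf y = 9) : Nat.card (centralizer ({y} : Set G)) ∣ N0 := by
  refine (Subgroup.card_dvd_of_le ?_).trans (h.card_zc (h.zc_of_nine hy)).2
  intro c hc
  rw [mem_centralizer_singleton_iff] at hc ⊢
  exact ((show Commute c y from hc).pow_right 3).eq

/-- abelian `3`-subgroups -/
theorem card_abelian {A : Subgroup G} (hA : IsPGroup 3 A) (hab : ∀ a ∈ A, ∀ b ∈ A, a * b = b * a) :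
    Nat.card A ≤ 3 ^ 4 := by
  obtain ⟨c, hc⟩ := h.conj_into' hA
  have h1 : ∀ y ∈ cj c A, y ∈ S := by
    intro y hy
    rw [mem_cj] at hy
    have := hc _ hy
    have e : c * (c⁻¹ * y * c) * c⁻¹ = y := by group
    rwa [e] at this
  have h2 : ∀ a ∈ cj c A, ∀ b ∈ cj c A, a * b = b * a := by
    intro a ha b hb
    rw [mem_cj] at ha hb
    have h3 := hab _ ha _ hb
    calc a * b = c * ((c⁻¹ * a * c) * (c⁻¹ * b * c)) * c⁻¹ := by group
      _ = c * ((c⁻¹ * b * c) * (c⁻¹ * a * c)) * c⁻¹ := by rw [h3]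
      _ = b * a := by group
  have h3 := h.hy.toCe.idx (cj c A) (hA.map _) (fun p hp => h.Sz p (h1 p hp))
  have h4 := h.hy.ex.card_abelian (A := cj c A ⊓ Q) inf_le_right (fun a ha b hb => h2 a ha.1 b hb.1)
  rw [card_cj] at h3
  omega

end Full

end Cfsg.Agent.H351.OE
end

-- part: H351/OE/Simple
section
/-!
# S3372: facts on the simple group `layer G`
-/

set_option autoImplicit false
set_option linter.unusedSectionVars false
set_option linter.unusedVariables false

namespace Cfsg.Agent.H351.OE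

open Subgroup Cfsg
open scoped commutatorElement

/-- the facts on the simple group -/
structure E3 (X : Type*) [Group X] : Prop where
  fin : Finite X
  d5 : 3 ^ 5 ∣ Nat.card X
  n7 : ¬ 3 ^ 7 ∣ Nat.card X
  ab : ∀ A : Subgroup X, IsPGroup 3 A → (∀ a ∈ A, ∀ b ∈ A, a * b = b * a) → Nat.card A ≤ 3 ^ 4
  c27 : ∀ D : Subgroup X, 27 ∣ Nat.card D → ∃ d ∈ D, orderOf d = 3 ∧ Nat.card (centralizer ({d} : Set X)) ∣ N0
  c9 : ∀ y : X, orderOf y = 9 → Nat.card (centralizer ({y} : Set X)) ∣ N0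
  aut : 3 ^ 6 ∣ Nat.card (MulAut X)
  inv : 3 ^ 6 ∣ Nat.card X → ∃ t : X, orderOf t = 2 ∧ 27 ∣ Nat.card (centralizer ({t} : Set X))
  cen : ∀ y : X, orderOf y = 3 → 3 ^ 6 ∣ Nat.card (centralizer ({y} : Set X)) →
    Nat.card (centralizer ({y} : Set X)) ∣ N0
  zen : ∀ D : Subgroup X, IsPGroup 3 D → 3 ^ 6 ∣ Nat.card (centralizer (D : Set X)) → Nat.card D ≤ 3

variable {G : Type*} [Group G] [Finite G]

omit [Finite G] in
theorem card_centralizer_equiv {G H : Type*} [Group G] [Group H] (e : G ≃* H) (A : Set G) :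
    Nat.card (Subgroup.centralizer (e '' A : Set H)) = Nat.card (Subgroup.centralizer (A : Set G)) := by
  refine (Nat.card_congr ?_).symm
  refine
    { toFun := fun c => ⟨e c.1, ?_⟩
      invFun := fun c => ⟨e.symm c.1, ?_⟩
      left_inv := fun c => by simp
      right_inv := fun c => by simp }
  · rw [Subgroup.mem_centralizer_iff]
    rintro _ ⟨a, ha, rfl⟩
    rw [← map_mul, ← map_mul, Subgroup.mem_centralizer_iff.mp c.2 a ha]
  · rw [Subgroup.mem_centralizer_iff]
    intro a ha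
    apply e.injective
    rw [map_mul, map_mul, e.apply_symm_apply]
    exact Subgroup.mem_centralizer_iff.mp c.2 _ ⟨a, ha, rfl⟩

omit [Finite G] in
theorem E3.congr {X Y : Type*} [Group X] [Group Y] (h : E3 X) (e : X ≃* Y) : E3 Y where
  fin := by have := h.fin; exact Finite.of_equiv X e.toEquiv
  d5 := by rw [← Nat.card_congr e.toEquiv]; exact h.d5
  n7 := by rw [← Nat.card_congr e.toEquiv]; exact h.n7
  ab := by
    intro A hA hab
    have h1 := h.ab (A.map e.symm.toMonoidHom) (hA.map _) (by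
      rintro _ ⟨a, ha, rfl⟩ _ ⟨b, hb, rfl⟩
      rw [← map_mul, ← map_mul, hab a ha b hb])
    rwa [Subgroup.card_map_of_injective e.symm.injective] at h1
  c27 := by
    intro D hD
    obtain ⟨d, ⟨d', hd', rfl⟩, ho, hc⟩ := h.c27 (D.map e.symm.toMonoidHom) (by
      rwa [Subgroup.card_map_of_injective e.symm.injective])
    refine ⟨d', hd', ?_, ?_⟩
    · rw [← ho]; exact (MulEquiv.orderOf_eq e.symm d').symm
    · have h1 := card_centralizer_equiv e.symm ({d'} : Set Y)
      rw [Set.image_singleton] at h1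
      rw [← h1]; exact hc
  c9 := by
    intro y hy
    have h1 := card_centralizer_equiv e.symm ({y} : Set Y)
    rw [Set.image_singleton] at h1
    rw [← h1]
    exact h.c9 _ (by rw [MulEquiv.orderOf_eq, hy])
  aut := by
    have h1 : Nat.card (MulAut X) = Nat.card (MulAut Y) := Nat.card_congr (MulAut.congr e).toEquiv
    rw [← h1]; exact h.aut
  inv := by
    intro hY
    obtain ⟨t, ht, h27⟩ := h.inv (by rwa [Nat.card_congr e.toEquiv])
    refine ⟨e t, by rw [MulEquiv.orderOf_eq, ht], ?_⟩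
    have h1 := card_centralizer_equiv e ({t} : Set X)
    rw [Set.image_singleton] at h1
    rw [h1]; exact h27
  cen := by
    intro y hy h6
    have h1 := card_centralizer_equiv e.symm ({y} : Set Y)
    rw [Set.image_singleton] at h1
    rw [← h1] at h6 ⊢
    exact h.cen _ (by rw [MulEquiv.orderOf_eq, hy]) h6
  zen := by
    intro D hD h6
    have h1 := card_centralizer_equiv e.symm (D : Set Y)
    rw [← h1] at h6
    have h2 := h.zen (D.map e.symm.toMonoidHom) (hD.map _) h6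
    rwa [Subgroup.card_map_of_injective e.symm.injective] at h2

omit [Finite G] in
theorem card_centralizer_dvd {L : Subgroup G} (A : Set L) :
    Nat.card (centralizer A) ∣ Nat.card (centralizer (L.subtype '' A : Set G)) := by
  have h1 : (centralizer A).map L.subtype ≤ centralizer (L.subtype '' A : Set G) := by
    rintro _ ⟨c, hc, rfl⟩
    rw [mem_centralizer_iff]
    rintro _ ⟨a, ha, rfl⟩
    rw [← map_mul, ← map_mul, mem_centralizer_iff.1 hc a ha]
  have h2 := Subgroup.card_dvd_of_le h1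
  rwa [Subgroup.card_map_of_injective L.subtype_injective] at h2

omit [Finite G] in
theorem card_centralizer_dvd' {L : Subgroup G} (y : L) :
    Nat.card (centralizer ({y} : Set L)) ∣ Nat.card (centralizer ({(y : G)} : Set G)) := by
  have h1 := card_centralizer_dvd ({y} : Set L)
  rwa [Set.image_singleton] at h1

namespace Full

variable {Q : Subgroup G} {z t g : G} {S : Sylow 3 G} (h : Full Q z t g S)

include h

theorem t_ne : t ≠ 1 := by
  rintro rfl
  have h1 : two Q (1 : G) = Q := by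
    ext q
    rw [mem_two]
    simp
  have h2 := h.hy.card2
  rw [h1, h.hy.ex.card] at h2
  norm_num at h2

theorem card_G : 3 ^ 6 ∣ Nat.card G ∧ ¬ 3 ^ 7 ∣ Nat.card G := by
  have hF : Fact (Nat.Prime 3) := ⟨Nat.prime_three⟩
  constructor
  · rw [← h.cardS]; exact Subgroup.card_subgroup_dvd_card _
  · intro h1
    have h2 : 3 ^ 7 ∣ Nat.card S := S.pow_dvd_card_of_pow_dvd_card h1
    rw [h.cardS] at h2
    exact absurd (Nat.le_of_dvd (by norm_num) h2) (by norm_num)

/-- `3`-subgroups centralised by a Sylow `3`-subgroup -/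
theorem central {D : Subgroup G} (hD : IsPGroup 3 D) (h6 : 3 ^ 6 ∣ Nat.card (centralizer (D : Set G))) :
    ∃ c : G, ∀ d ∈ D, c * d * c⁻¹ ∈ zpowers z := by
  have hF : Fact (Nat.Prime 3) := ⟨Nat.prime_three⟩
  obtain ⟨P, hP⟩ := Sylow.exists_subgroup_card_pow_prime (G := centralizer (D : Set G)) 3 h6
  have hPp : IsPGroup 3 (P.map (centralizer (D : Set G)).subtype) := (IsPGroup.of_card hP).map _
  have hPc : Nat.card (P.map (centralizer (D : Set G)).subtype) = 3 ^ 6 := by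
    rw [Subgroup.card_map_of_injective (Subgroup.subtype_injective _), hP]
  obtain ⟨c, hc⟩ := h.conj_into' hPp
  have h1 : cj c (P.map (centralizer (D : Set G)).subtype) = S := by
    apply Subgroup.eq_of_le_of_card_ge
    · intro y hy
      rw [mem_cj] at hy
      have := hc _ hy
      have e : c * (c⁻¹ * y * c) * c⁻¹ = y := by group
      rwa [e] at this
    · have h2 : Nat.card (S : Subgroup G) = 3 ^ 6 := h.cardS
      rw [card_cj, hPc, h2]
  have h2 : ∀ d ∈ D, ∀ s ∈ S, s * (c * d * c⁻¹) = (c * d * c⁻¹) * s := by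
    intro d hd s hs
    have h3 : s ∈ cj c (P.map (centralizer (D : Set G)).subtype) := by rw [h1]; exact hs
    rw [mem_cj] at h3
    obtain ⟨p, -, hp⟩ := h3
    have h4 := mem_centralizer_iff.1 p.2 d hd
    have h5 : c⁻¹ * s * c = p := hp.symm
    rw [← h5] at h4
    calc s * (c * d * c⁻¹) = c * ((c⁻¹ * s * c) * d) * c⁻¹ := by group
      _ = c * (d * (c⁻¹ * s * c)) * c⁻¹ := by rw [h4]
      _ = _ := by group
  refine ⟨c, fun d hd => ?_⟩
  refine h.cS _ ?_ (h2 d hd)
  -- `c d c⁻¹` lies in `S`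
  have hp : IsPGroup 3 (cj c D) := hD.map _
  have h3 := hp.inf_normalizer_sylow S
  have h5 := h3.le (x := c * d * c⁻¹) ⟨mem_cj.2 (by
      have : c⁻¹ * (c * d * c⁻¹) * c = d := by group
      rw [this]; exact hd), by
      apply centralizer_le_normalizer
      rw [mem_centralizer_iff]
      exact fun s hs => h2 d hd s hs⟩
  exact h5.2

/-- **facts on the layer** -/
theorem e3 : E3 (layer G) := by
  have hF : Fact (Nat.Prime 3) := ⟨Nat.prime_three⟩
  obtain ⟨hn, hs, hna, hz, hc, hgf⟩ := h.toGl.simple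
  obtain ⟨L, hL⟩ : ∃ L, L = layer G := ⟨_, rfl⟩
  rw [← hL] at hn hs hna hz hc hgf ⊢
  have hcard : Nat.card L ∣ Nat.card G := Subgroup.card_subgroup_dvd_card L
  have hSL : 3 ^ 6 ∣ Nat.card L → (S : Subgroup G) ≤ L := by
    intro h6
    obtain ⟨P, hP⟩ := Sylow.exists_subgroup_card_pow_prime (G := L) 3 h6
    have hPp : IsPGroup 3 (P.map L.subtype) := (IsPGroup.of_card hP).map _
    have hPc : Nat.card (P.map L.subtype) = 3 ^ 6 := by
      rw [Subgroup.card_map_of_injective (Subgroup.subtype_injective _), hP]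
    obtain ⟨c, hc⟩ := h.conj_into' hPp
    have h1 : cj c (P.map L.subtype) = S := by
      apply Subgroup.eq_of_le_of_card_ge
      · intro y hy
        rw [mem_cj] at hy
        have := hc _ hy
        have e : c * (c⁻¹ * y * c) * c⁻¹ = y := by group
        rwa [e] at this
      · have h2 : Nat.card (S : Subgroup G) = 3 ^ 6 := h.cardS
        rw [card_cj, hPc, h2]
    rw [← h1]
    intro y hy
    rw [mem_cj] at hy
    obtain ⟨p, -, hp⟩ := hy
    have h2 : c⁻¹ * y * c ∈ L := by rw [← hp]; exact p.2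
    have h3 := hn.conj_mem _ h2 c
    have e : c * (c⁻¹ * y * c) * c⁻¹ = y := by group
    rwa [e] at h3
  refine
    { fin := inferInstance
      d5 := ?_
      n7 := fun h7 => h.card_G.2 (h7.trans hcard)
      ab := ?_
      c27 := ?_
      c9 := ?_
      aut := ?_
      inv := ?_
      cen := ?_
      zen := ?_ }
  · -- `3 ^ 5` divides `|L|`
    obtain ⟨k, x, s, f, x1, x2, f1, f2, hstd, hsS, hx, -, hfQ', h27, hab, hx1t⟩ := h.exists_std
    obtain ⟨R, hR⟩ : ∃ R, R = L ⊓ Q := ⟨_, rfl⟩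
    have hxL : x ∈ L := by rw [hx]; exact hn.conj_mem z hz k
    have h1 := h.hy.le_of_comp (R := R) (by
      intro c hc r hr
      rw [hR] at hr ⊢
      exact ⟨hn.conj_mem r hr.1 c, h.hy.nor c hc r hr.2⟩) (by rw [hR]; exact ⟨hz, h.hy.ex.zQ⟩)
      (by rw [hR]; exact ⟨hxL, hstd.xQ⟩) hstd.hx1 hstd.x1z hx1t hstd.ex
    have hRQ : R ≤ Q := by rw [hR]; exact inf_le_right
    have hRL : R ≤ L := by rw [hR]; exact inf_le_left
    have hne : one Q t ≠ R := by
      intro h2
      apply hstd.x2z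
      apply h.hy.tt.inter _ hstd.hx2
      rw [h2]; exact h1.2
    have h81 : 81 ≤ Nat.card R := by
      have hd : Nat.card R ∣ 3 ^ 5 := by
        rw [← h.hy.ex.card]; exact Subgroup.card_dvd_of_le hRQ
      obtain ⟨j, hj, hj2⟩ := (Nat.dvd_prime_pow Nat.prime_three).1 hd
      have h2 : 27 < Nat.card R := by
        by_contra h3
        push Not at h3
        exact hne (Subgroup.eq_of_le_of_card_ge h1.1 (by rw [h.hy.card1]; exact h3))
      have hj3 : 4 ≤ j := by
        by_contra h5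
        have h6 : j ≤ 3 := by omega
        have := Nat.pow_le_pow_right (show 0 < 3 by norm_num) h6
        omega
      rw [hj2]; exact (show 3 ^ 4 ≤ 3 ^ j from Nat.pow_le_pow_right (by norm_num) hj3)
    have hRP : R ≤ (S : Subgroup G) ⊓ L := le_inf (hRQ.trans h.QS) hRL
    have hPc : Nat.card ((S : Subgroup G) ⊓ L : Subgroup G) ∣ 3 ^ 6 := by
      have h2 : Nat.card (S : Subgroup G) = 3 ^ 6 := h.cardS
      rw [← h2]; exact Subgroup.card_dvd_of_le inf_le_left
    obtain ⟨j, hj, hj2⟩ := (Nat.dvd_prime_pow Nat.prime_three).1 hPc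
    by_cases hj5 : 5 ≤ j
    · have h2 : Nat.card ((S : Subgroup G) ⊓ L : Subgroup G) ∣ Nat.card L := Subgroup.card_dvd_of_le inf_le_right
      rw [hj2] at h2
      exact (pow_dvd_pow 3 hj5).trans h2
    · exfalso
      have h3 : Nat.card ((S : Subgroup G) ⊓ L : Subgroup G) ≤ 81 := by
        rw [hj2]; exact (show 3 ^ j ≤ 3 ^ 4 from Nat.pow_le_pow_right (by norm_num) (by omega))
      have hRP' : R = (S : Subgroup G) ⊓ L := Subgroup.eq_of_le_of_card_ge hRP (h3.trans h81)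
      -- elements of `L` commuting with `z`
      have key : ∀ y ∈ L, y ^ 3 = 1 → y * z = z * y → y ∈ Q := by
        intro y hy hy3 hyz
        have hp : IsPGroup 3 (zpowers y) := by
          refine IsPGroup.of_card_dvd_pow (n := 1) ?_
          rw [Nat.card_zpowers, pow_one]
          exact orderOf_dvd_of_pow_eq_one hy3
        obtain ⟨c, hc, hcs⟩ := h.conj_into hp (by
          rintro _ ⟨i, rfl⟩
          exact ((show Commute y z from hyz).zpow_left i).eq)
        have h4 : c * y * c⁻¹ ∈ R := by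
          rw [hRP']
          exact ⟨hcs y (mem_zpowers y), hn.conj_mem y hy c⟩
        have hc' : c⁻¹ * z = z * c⁻¹ := ((show Commute c z from hc).inv_left).eq
        have h5 := h.hy.nor c⁻¹ hc' _ (hRQ h4)
        have e : c⁻¹ * (c * y * c⁻¹) * c⁻¹⁻¹ = y := by group
        rwa [e] at h5
      have key' : ∀ y ∈ L, y ^ 3 = 1 → y * x = x * y → y ∈ cj k Q := by
        intro y hy hy3 hyx
        rw [mem_cj]
        apply key
        · have := hn.conj_mem y hy k⁻¹
          rwa [inv_inv] at this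
        · have := conj_pow (a := k⁻¹) (b := y) (i := 3)
          rw [inv_inv] at this
          rw [this, hy3]; group
        · rw [hx] at hyx
          exact conj_comm_iff.1 hyx
      have hx12 : x1 * x = x * x1 := by
        have h4 := h.hy.tt.one_two hstd.hx1 hstd.hx2
        rw [hstd.ex, mul_assoc, ← h4]
      have hx1L : x1 ∈ L := hRL (h1.1 hstd.hx1)
      have h4 : x1 ∈ Q ⊓ cj k Q := ⟨hstd.x1Q, key' x1 hx1L (h.hy.ex.exp x1 hstd.x1Q) hx12⟩
      have h5 : f ∈ Q ⊓ cj k Q := ⟨hstd.fQ, hfQ'⟩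
      have h6 : ⁅f, x1⁆ = 1 := commutatorElement_eq_one_iff_mul_comm.2 (hab f h5 x1 h4)
      have c2 : ⁅f2, x1⁆ = 1 :=
        commutatorElement_eq_one_iff_mul_comm.2 (h.hy.tt.one_two hstd.hx1 hstd.hf2).symm
      rw [hstd.ef, h.hy.ex.comm_mul hstd.f1Q hstd.f2Q hstd.x1Q, c2, mul_one] at h6
      exact hstd.om_ne h6
  · intro A hA hab
    have h1 := h.card_abelian (A := A.map L.subtype) (hA.map _) (by
      rintro _ ⟨a, ha, rfl⟩ _ ⟨b, hb, rfl⟩
      rw [← map_mul, ← map_mul, hab a ha b hb])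
    rwa [Subgroup.card_map_of_injective L.subtype_injective] at h1
  · intro D hD
    obtain ⟨_, ⟨d, hd, rfl⟩, hzc⟩ := h.exists_zc (D := D.map L.subtype) (by
      rwa [Subgroup.card_map_of_injective L.subtype_injective])
    obtain ⟨ho, hcz⟩ := h.card_zc hzc
    exact ⟨d, hd, by rw [← ho]; exact (Subgroup.orderOf_coe d).symm, (card_centralizer_dvd' d).trans hcz⟩
  · intro y hy
    refine (card_centralizer_dvd' y).trans (h.card_of_nine ?_)
    rw [Subgroup.orderOf_coe, hy]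
  · -- automorphisms
    have h1 : Function.Injective (MulAut.conjNormal : G →* MulAut L) := by
      rw [injective_iff_map_eq_one]
      intro a ha
      have h2 : a ∈ centralizer (L : Set G) := by
        rw [mem_centralizer_iff]
        intro y hy
        have h3 := congrArg (fun φ : MulAut L => ((φ ⟨y, hy⟩ : L) : G)) ha
        simp only [MulAut.conjNormal_apply, MulAut.one_apply] at h3
        rw [mul_inv_eq_iff_eq_mul] at h3
        exact h3.symm
      rw [hc] at h2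
      exact mem_bot.1 h2
    have hfa : Finite (MulAut L) := by
      apply Finite.of_injective (fun φ : MulAut L => (φ : L → L))
      intro a b hab
      exact MulEquiv.ext (congrFun hab)
    exact h.card_G.1.trans (Subgroup.card_dvd_of_injective _ h1)
  · intro h6
    have hSL' := hSL h6
    have htL : t ∈ L := h.tS L (fun c _ n hn' => hn.conj_mem n hn' c) hSL'
    refine ⟨⟨t, htL⟩, ?_, ?_⟩
    · rw [Subgroup.orderOf_mk]
      refine orderOf_eq_prime ?_ h.t_ne
      rw [pow_two]; exact h.hy.tt.tt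
    · have h1 : two Q t ≤ L := (h.hy.tt.two_le.trans h.QS).trans hSL'
      have h2 : (two Q t).subgroupOf L ≤ centralizer ({⟨t, htL⟩} : Set L) := by
        intro y hy
        rw [mem_subgroupOf] at hy
        rw [mem_centralizer_singleton_iff]
        exact Subtype.ext (mem_two.1 hy).2
      have h3 := Subgroup.card_dvd_of_le h2
      rwa [Nat.card_congr (subgroupOfEquivOfLe h1).toEquiv, h.hy.card2] at h3
  · intro y hy h6
    have hp : IsPGroup 3 (zpowers (y : G)) := by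
      refine IsPGroup.of_card (n := 1) ?_
      rw [Nat.card_zpowers, Subgroup.orderOf_coe, hy, pow_one]
    obtain ⟨c, hc⟩ := h.central hp (by
      have h1 : centralizer ((zpowers (y : G) : Subgroup G) : Set G) = centralizer ({(y : G)} : Set G) := by
        rw [zpowers_eq_closure, centralizer_closure]
      rw [h1]
      exact h6.trans (card_centralizer_dvd' y))
    have h1 := hc y (mem_zpowers _)
    have h2 : ZC z (y : G) := by
      refine (ZC.of_mem h1 ?_).of_conj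
      intro h3
      have h4 : (y : G) = 1 := conj_eq_one_iff.1 h3
      have h5 : y = 1 := Subtype.ext h4
      rw [h5, orderOf_one] at hy
      norm_num at hy
    exact (card_centralizer_dvd' y).trans (h.card_zc h2).2
  · intro D hD h6
    have h1 := card_centralizer_dvd (D : Set L)
    obtain ⟨c, hc⟩ := h.central (D := D.map L.subtype) (hD.map _) (h6.trans h1)
    have h2 : cj c (D.map L.subtype) ≤ zpowers z := by
      intro y hy
      rw [mem_cj] at hy
      have := hc _ hy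
      have e : c * (c⁻¹ * y * c) * c⁻¹ = y := by group
      rwa [e] at this
    have h3 := Nat.le_of_dvd (by rw [h.hy.ex.card_z]; norm_num) (Subgroup.card_dvd_of_le h2)
    rw [card_cj, Subgroup.card_map_of_injective L.subtype_injective, h.hy.ex.card_z] at h3
    exact h3

end Full

end Cfsg.Agent.H351.OE
end

-- part: H351/OE/Kill
section
/-!
# S3372: tools for the elimination
-/

set_option autoImplicit false
set_option linter.unusedSectionVars false
set_option linter.unusedVariables false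

namespace Cfsg.Agent.H351.OE

open Subgroup Cfsg H343

variable {X : Type*} [Group X]

theorem E3.vv (h : E3 X) : padicValNat 3 (Nat.card X) = 5 ∨ padicValNat 3 (Nat.card X) = 6 := by
  have := h.fin
  have hF : Fact (Nat.Prime 3) := ⟨Nat.prime_three⟩
  have h0 : Nat.card X ≠ 0 := Nat.card_pos.ne'
  have h1 := (padicValNat_dvd_iff_le h0).mp h.d5
  have h2 : ¬ 7 ≤ padicValNat 3 (Nat.card X) := fun h' => h.n7 ((padicValNat_dvd_iff_le h0).mpr h')
  omega

theorem E3.six_of_vv (h : E3 X) (h6 : padicValNat 3 (Nat.card X) = 6) : 3 ^ 6 ∣ Nat.card X := by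
  have := h.fin
  have hF : Fact (Nat.Prime 3) := ⟨Nat.prime_three⟩
  exact (padicValNat_dvd_iff_le Nat.card_pos.ne').mpr h6.ge

theorem E3.pair (h : E3 X) {A B : Type*} [Group A] [Group B] (P : CommPair A B X) (hA : 27 ∣ Nat.card A) :
    Nat.card B ∣ N0 := by
  have := h.fin
  obtain ⟨d, ⟨a, rfl⟩, -, hd⟩ := h.c27 P.f.range (by
    rwa [← Nat.card_congr (MonoidHom.ofInjective P.hf).toEquiv])
  exact (card_dvd_centralizer P.g P.hg _ (P.comm a)).trans hd

theorem E3.pair' (h : E3 X) {A B : Type*} [Group A] [Group B] (P : CommPair A B X) {d : A} (hd : orderOf d = 3)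
    (hdc : d ∉ center A) (hB : 9 ∣ Nat.card B) : Nat.card (centralizer ({d} : Set A)) ∣ N0 := by
  have := h.fin
  have hfA : Finite A := Finite.of_injective _ P.hf
  have hfB : Finite B := Finite.of_injective _ P.hg
  let φ : (zpowers d) × B →* X := MonoidHom.noncommCoprod (P.f.comp (zpowers d).subtype) P.g (fun a b => P.comm _ _)
  have hφ : Function.Injective φ := by
    rw [injective_iff_map_eq_one]
    rintro ⟨a, b⟩ hab
    have h1 : P.f a * P.g b = 1 := hab
    have ha : a = 1 := by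
      by_contra ha
      have h2 : (a : A) ∈ center A := by
        rw [mem_center_iff]
        intro x
        apply P.hf
        have h3 : P.f (a : A) = P.g b⁻¹ := by
          rw [map_inv]; exact eq_inv_of_mul_eq_one_left h1
        rw [map_mul, map_mul, h3, P.comm]
      have h3 : zpowers (a : A) = zpowers d := by
        apply Subgroup.eq_of_le_of_card_ge
        · rw [zpowers_le]; exact a.2
        · rw [Nat.card_zpowers, Nat.card_zpowers, hd]
          have h4 : orderOf (a : A) ∣ 3 := by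
            have h6 := Subgroup.orderOf_dvd_natCard _ a.2
            rwa [Nat.card_zpowers, hd] at h6
          rcases (Nat.dvd_prime Nat.prime_three).1 h4 with h5 | h5
          · exact absurd (Subtype.ext (orderOf_eq_one_iff.1 h5)) ha
          · exact h5.ge
      have h4 : d ∈ zpowers (a : A) := by rw [h3]; exact mem_zpowers d
      exact hdc ((zpowers_le.2 h2) h4)
    subst ha
    have hb : b = 1 := by
      apply P.hg
      rw [OneMemClass.coe_one, map_one, one_mul] at h1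
      rw [h1, map_one]
    rw [hb]; rfl
  have hc : 27 ∣ Nat.card φ.range := by
    rw [← Nat.card_congr (MonoidHom.ofInjective hφ).toEquiv, Nat.card_prod, Nat.card_zpowers, hd]
    exact Nat.mul_dvd_mul_left 3 hB
  obtain ⟨_, ⟨⟨a, b⟩, rfl⟩, -, h1⟩ := h.c27 φ.range hc
  have h2 : (centralizer ({d} : Set A)).map P.f ≤ centralizer ({φ (a, b)} : Set X) := by
    rintro _ ⟨c, hc, rfl⟩
    rw [mem_centralizer_singleton_iff]
    have hc' : Commute c d := mem_centralizer_singleton_iff.1 hc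
    have h3 : c * (a : A) = a * c := by
      obtain ⟨i, hi⟩ := a.2
      rw [← hi]
      exact (hc'.zpow_right i).eq
    change P.f c * (P.f a * P.g b) = P.f a * P.g b * P.f c
    rw [← mul_assoc, ← map_mul, h3, map_mul, mul_assoc, P.comm, mul_assoc]
  have h3 := Subgroup.card_dvd_of_le h2
  rw [Subgroup.card_map_of_injective P.hf] at h3
  exact h3.trans h1

theorem E3.hasAb (h : E3 X) {N : ℕ} (hN : H128.AbelianClassical.HasAb 3 X N) :
    3 ∣ N.factorial ∧ (3 ^ 6 ∣ Nat.card X → 9 ∣ N.factorial) := by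
  have := h.fin
  refine ⟨?_, fun h6 => ?_⟩
  · have := H128.Val3.dvd_factorial (c := 4) h.d5 h.ab hN
    simpa using this
  · have := H128.Val3.dvd_factorial (c := 4) h6 h.ab hN
    simpa using this

theorem E3.three_le (h : E3 X) {N : ℕ} (hN : H128.AbelianClassical.HasAb 3 X N) : 3 ≤ N := by
  by_contra hc
  have h1 := (h.hasAb hN).1
  have : N = 0 ∨ N = 1 ∨ N = 2 := by omega
  rcases this with rfl | rfl | rfl <;> revert h1 <;> decide

theorem E3.six_le (h : E3 X) {N : ℕ} (hN : H128.AbelianClassical.HasAb 3 X N) (h6 : 3 ^ 6 ∣ Nat.card X) : 6 ≤ N := by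
  by_contra hc
  have h1 := (h.hasAb hN).2 h6
  have : N < 6 := by omega
  interval_cases N <;> revert h1 <;> decide

/-- the list of admissible `q` -/
theorem qlist0 {q : ℕ} (hq : IsPrimePow q) (h : q * (q ^ 2 - 1) ∣ 2 * N0) : q ∈ [2, 3] := by
  obtain ⟨p, k, hp, hk, rfl⟩ := (isPrimePow_nat_iff _).mp hq
  have h1 : p ^ k ∣ 2 * N0 := (Dvd.intro _ rfl).trans h
  have h2 : p ∣ 2 * N0 := (dvd_pow_self p hk.ne').trans h1
  have h3 : p ∈ [2, 3] := by
    have h4 : p ∣ 2 ^ 5 * 3 ^ 6 := by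
      have : 2 ^ 5 * 3 ^ 6 = 2 * N0 := by decide
      rw [this]; exact h2
    rcases (Nat.Prime.dvd_mul hp).mp h4 with h4 | h4
    · rw [(Nat.prime_dvd_prime_iff_eq hp Nat.prime_two).mp (hp.dvd_of_dvd_pow h4)]; decide
    · rw [(Nat.prime_dvd_prime_iff_eq hp Nat.prime_three).mp (hp.dvd_of_dvd_pow h4)]; decide
  have h5 : k < 8 := by
    by_contra hcon
    have h7 : p ^ 8 ∣ 2 * N0 := (pow_dvd_pow p (by omega)).trans h1
    have h8 : ∀ p ∈ [2, 3], ¬ p ^ 8 ∣ 2 * N0 := by decide +kernel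
    exact h8 p h3 h7
  have h9 : ∀ p ∈ [2, 3], ∀ k < 8, 0 < k → p ^ k * ((p ^ k) ^ 2 - 1) ∣ 2 * N0 →
      p ^ k ∈ [2, 3] := by decide +kernel
  exact h9 p h3 k h5 hk h

/-! ### valuations -/

section Val

theorem three_dvd_sq_sub {q : ℕ} (h : ¬ 3 ∣ q) : 3 ∣ q ^ 2 - 1 := by
  have h1 : q % 3 = 1 ∨ q % 3 = 2 := by omega
  have h2 : q ^ 2 % 3 = 1 := by
    rcases h1 with h | h <;> rw [Nat.pow_mod, h]
  omega

theorem v_even {q k : ℕ} (hq1 : 1 < q) (hq : ¬ 3 ∣ q) (hk : k ≠ 0) :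
    padicValNat 3 (q ^ (2 * k) - 1) = padicValNat 3 (q ^ 2 - 1) + padicValNat 3 k := by
  have hF : Fact (Nat.Prime 3) := ⟨Nat.prime_three⟩
  have h1 := padicValNat.pow_sub_pow (p := 3) (x := q ^ 2) (y := 1) (by decide) (Nat.one_lt_pow (by norm_num) hq1)
    (three_dvd_sq_sub hq) (fun h => hq (Nat.prime_three.dvd_of_dvd_pow h)) hk
  rwa [one_pow, ← pow_mul] at h1

theorem v_one {q j : ℕ} (hq1 : 1 < q) (hq : q % 3 = 1) (hj : j ≠ 0) :
    padicValNat 3 (q ^ j - 1) = padicValNat 3 (q ^ 2 - 1) + padicValNat 3 j := by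
  have hF : Fact (Nat.Prime 3) := ⟨Nat.prime_three⟩
  have h1 := padicValNat.pow_sub_pow (p := 3) (x := q) (y := 1) (by decide) hq1 (by omega) (by omega) hj
  have h2 := padicValNat.pow_sub_pow (p := 3) (x := q) (y := 1) (by decide) hq1 (by omega) (by omega)
    (show (2 : ℕ) ≠ 0 by norm_num)
  rw [one_pow] at h1 h2
  rw [h1, h2, padicValNat.eq_zero_of_not_dvd (show ¬ 3 ∣ 2 by norm_num), add_zero]

theorem v_two {q j : ℕ} (hq1 : 1 < q) (hq : q % 3 = 2) (hj : Odd j) :
    padicValNat 3 (q ^ j + 1) = padicValNat 3 (q ^ 2 - 1) + padicValNat 3 j := by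
  have hF : Fact (Nat.Prime 3) := ⟨Nat.prime_three⟩
  have h1 := padicValNat.pow_add_pow (p := 3) (x := q) (y := 1) (by decide) (by omega) (by omega) hj
  rw [one_pow] at h1
  have h2 : q ^ 2 - 1 = (q + 1) * (q - 1) := by
    have := Nat.sq_sub_sq q 1
    rwa [one_pow] at this
  rw [h1, h2, padicValNat.mul (by omega) (by omega), padicValNat.eq_zero_of_not_dvd (show ¬ 3 ∣ q - 1 by omega), add_zero]

theorem v_one_zero {q j : ℕ} (hq : q % 3 = 1) : padicValNat 3 (q ^ j + 1) = 0 := by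
  apply padicValNat.eq_zero_of_not_dvd
  have h1 : q ^ j % 3 = 1 := by rw [Nat.pow_mod, hq, one_pow]; rfl
  omega

theorem v_two_zero {q j : ℕ} (hq : q % 3 = 2) (hj : Odd j) : padicValNat 3 (q ^ j - 1) = 0 := by
  apply padicValNat.eq_zero_of_not_dvd
  obtain ⟨k, rfl⟩ := hj
  have h1 : q ^ (2 * k + 1) % 3 = 2 := by
    rw [pow_succ, pow_mul, Nat.mul_mod, Nat.pow_mod, Nat.pow_mod q 2, hq]; norm_num
  omega

theorem v_even_add_zero {q k : ℕ} (hq : ¬ 3 ∣ q) : padicValNat 3 (q ^ (2 * k) + 1) = 0 := by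
  apply padicValNat.eq_zero_of_not_dvd
  have h1 : q % 3 = 1 ∨ q % 3 = 2 := by omega
  have h2 : q ^ 2 % 3 = 1 := by
    rcases h1 with h | h <;> rw [Nat.pow_mod, h]
  have h3 : q ^ (2 * k) % 3 = 1 := by rw [pow_mul, Nat.pow_mod, h2, one_pow]; rfl
  omega

theorem v_pow_zero {q j : ℕ} (hq : ¬ 3 ∣ q) : padicValNat 3 (q ^ j) = 0 := by
  apply padicValNat.eq_zero_of_not_dvd
  exact fun h => hq (Nat.prime_three.dvd_of_dvd_pow h)

theorem v_sq_pos {q : ℕ} (hq1 : 1 < q) (hq : ¬ 3 ∣ q) : 1 ≤ padicValNat 3 (q ^ 2 - 1) := by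
  have hF : Fact (Nat.Prime 3) := ⟨Nat.prime_three⟩
  have h0 : q ^ 2 - 1 ≠ 0 := by
    have : 1 < q ^ 2 := Nat.one_lt_pow (by norm_num) hq1
    omega
  exact one_le_padicValNat_of_dvd h0 (three_dvd_sq_sub hq)

theorem pow_sub_ne {q j : ℕ} (hq1 : 1 < q) (hj : j ≠ 0) : q ^ j - 1 ≠ 0 := by
  have : 1 < q ^ j := Nat.one_lt_pow hj hq1
  omega

theorem pow_add_ne {q j : ℕ} : q ^ j + 1 ≠ 0 := by omega

/-- the valuation of `c` from `den * c = num` -/
theorem v_of {d c n : ℕ} (hd : d ≠ 0) (hc : c ≠ 0) (h : d * c = n) :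
    padicValNat 3 c + padicValNat 3 d = padicValNat 3 n := by
  have hF : Fact (Nat.Prime 3) := ⟨Nat.prime_three⟩
  rw [← h, padicValNat.mul hd hc, add_comm]

end Val

end Cfsg.Agent.H351.OE
end

-- part: H351/OE/Cross
section
/-!
# S3372: linear, unitary and symplectic groups in characteristic not three
-/

set_option autoImplicit false
set_option linter.unusedSectionVars false
set_option linter.unusedVariables false

namespace Cfsg.Agent.H351.OE

open Subgroup Cfsg H343 H128.Val3 H341.ThreeList H128.Cross3 H128.ClassicalAb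

theorem vf_ge {n k : ℕ} (h : 3 ^ k ∣ n.factorial) : k ≤ vf n :=
  (Nat.prime_three.pow_dvd_iff_le_factorization (Nat.factorial_ne_zero n)).1 h

theorem vf_six {n : ℕ} (h : 6 ≤ n) : 2 ≤ vf n :=
  vf_ge ((show 3 ^ 2 ∣ (6).factorial by decide).trans (Nat.factorial_dvd_factorial h))

theorem E3.le_of {X : Type*} [Group X] (h : E3 X) {k : ℕ} (hk : 3 ^ k ∣ Nat.card X) : k ≤ 6 := by
  by_contra hc
  exact h.n7 ((pow_dvd_pow 3 (by omega)).trans hk)

theorem nine_dvd_one {q : ℕ} (hq : q % 3 = 1) : 9 ∣ q ^ 3 - 1 := by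
  obtain ⟨y, rfl⟩ : ∃ y, q = 3 * y + 1 := ⟨q / 3, by omega⟩
  have : (3 * y + 1) ^ 3 - 1 = 9 * (3 * y ^ 3 + 3 * y ^ 2 + y) := by
    have : (3 * y + 1) ^ 3 = 9 * (3 * y ^ 3 + 3 * y ^ 2 + y) + 1 := by ring
    rw [this]; simp
  rw [this]; exact dvd_mul_right _ _

theorem nine_dvd_two {q : ℕ} (hq : q % 3 = 2) : 9 ∣ q ^ 3 + 1 := by
  obtain ⟨y, rfl⟩ : ∃ y, q = 3 * y + 2 := ⟨q / 3, by omega⟩
  have : (3 * y + 2) ^ 3 + 1 = 9 * (3 * y ^ 3 + 6 * y ^ 2 + 4 * y + 1) := by ring
  rw [this]; exact dvd_mul_right _ _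

/-- `(q² - 1)(q⁴ - 1)(q⁶ - 1)` -/
theorem twenty_seven {q : ℕ} (hq : ¬ 3 ∣ q) : 27 ∣ (q ^ 2 - 1) * (q ^ 4 - 1) * (q ^ 6 - 1) := by
  have h1 := three_dvd_pow_sub' hq 1
  have h2 := three_dvd_pow_sub' hq 2
  have h3 := three_dvd_pow_sub' hq 3
  exact Nat.mul_dvd_mul (Nat.mul_dvd_mul h1 h2) h3
where
  three_dvd_pow_sub' {q : ℕ} (h : ¬ 3 ∣ q) (k : ℕ) : 3 ∣ q ^ (2 * k) - 1 := by
    rw [pow_mul]
    refine (three_dvd_sq_sub h).trans ?_
    simpa only [_root_.one_pow] using Nat.sub_dvd_pow_sub_pow (q ^ 2) 1 k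

section Fin

variable {F : Type} [Field F] [Fintype F]

theorem card_sl {n : ℕ} (hn : 2 ≤ n) : Nat.card (Matrix.SpecialLinearGroup (Fin n) F) =
    Fintype.card F ^ (n * (n - 1) / 2) * ∏ j ∈ Finset.range (n - 1), (Fintype.card F ^ (j + 2) - 1) := by
  rw [← card_psl hn, OddHalf.Quat.NoThreeL.card_SL, Cfsg.Agent.S0280.card_center_SL (by omega)]

theorem card_su {n q : ℕ} (hF : Fintype.card F = q ^ 2) (hn : 1 ≤ n) : Nat.card (SU n F q) =
    q ^ (n * (n - 1) / 2) * ∏ j ∈ Finset.range (n - 1), (if Even j then q ^ (j + 2) - 1 else q ^ (j + 2) + 1) := by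
  have h := Cfsg.Agent.S0278.result hF n hn
  obtain ⟨m, rfl⟩ : ∃ m, n = m + 1 := ⟨n - 1, by omega⟩
  rw [Finset.prod_range_succ', if_pos Even.zero, zero_add, pow_one] at h
  apply Nat.eq_of_mul_eq_mul_left (show 0 < q + 1 by omega)
  rw [h, Nat.add_sub_cancel]
  have h1 : ∏ i ∈ Finset.range m, (if Even (i + 1) then q ^ (i + 1 + 1) + 1 else q ^ (i + 1 + 1) - 1) =
      ∏ j ∈ Finset.range m, (if Even j then q ^ (j + 2) - 1 else q ^ (j + 2) + 1) := by
    refine Finset.prod_congr rfl fun j _ => ?_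
    by_cases hj : Even j
    · rw [if_neg (by rw [Nat.even_add_one, not_not]; exact hj), if_pos hj]
    · rw [if_pos (by rw [Nat.even_add_one]; exact hj), if_neg hj]
  rw [h1]; ring


theorem card_sl_three : Nat.card (Matrix.SpecialLinearGroup (Fin 3) F) =
    Fintype.card F ^ 3 * ((Fintype.card F ^ 2 - 1) * (Fintype.card F ^ 3 - 1)) := by
  rw [card_sl (by norm_num)]
  simp only [Finset.prod_range_succ, _root_.Nat.add_one_sub_one, _root_.Nat.reduceMul, _root_.Nat.reduceDiv, _root_.Finset.range_one, _root_.Finset.prod_singleton, _root_.zero_add, _root_.Nat.reduceAdd]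

theorem dvd_sl_three (hq : Fintype.card F % 3 = 1) {n : ℕ} (hn : 3 ≤ n) :
    27 ∣ Nat.card (Matrix.SpecialLinearGroup (Fin n) F) := by
  refine Dvd.dvd.trans ?_ (card_sl_dvd hn)
  rw [card_sl_three]
  exact Dvd.dvd.mul_left (Nat.mul_dvd_mul (three_dvd_sq_sub (by omega)) (nine_dvd_one hq)) _

theorem dvd_sl_six (hq : ¬ 3 ∣ Fintype.card F) {n : ℕ} (hn : 6 ≤ n) :
    27 ∣ Nat.card (Matrix.SpecialLinearGroup (Fin n) F) := by
  refine Dvd.dvd.trans ?_ (card_sl_dvd hn)
  rw [card_sl (by norm_num)]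
  simp only [Nat.add_one_sub_one, Finset.prod_range_succ, Finset.range_zero, Finset.prod_empty, one_mul, zero_add,
    Nat.reduceAdd]
  refine (twenty_seven hq).trans ?_
  apply Dvd.intro (Fintype.card F ^ (6 * 5 / 2) * ((Fintype.card F ^ 3 - 1) * (Fintype.card F ^ 5 - 1)))
  ring

theorem dvd_su_three {q : ℕ} (hF : Fintype.card F = q ^ 2) (hq : q % 3 = 2) {n : ℕ} (hn : 3 ≤ n) :
    27 ∣ Nat.card (SU n F q) := by
  refine Dvd.dvd.trans ?_ (card_su_dvd hF hn)
  rw [card_su hF (by norm_num)]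
  have h1 : ∏ j ∈ Finset.range (3 - 1), (if Even j then q ^ (j + 2) - 1 else q ^ (j + 2) + 1) =
      (q ^ 2 - 1) * (q ^ 3 + 1) := by
    rw [show 3 - 1 = 1 + 1 by norm_num, Finset.prod_range_succ, Finset.prod_range_one, if_pos (by decide), if_neg (by decide)]
  rw [h1]
  exact Dvd.dvd.mul_left (Nat.mul_dvd_mul (three_dvd_sq_sub (by omega)) (nine_dvd_two hq)) _

theorem prod_six (q : ℕ) : ∏ j ∈ Finset.range 5, (if Even j then q ^ (j + 2) - 1 else q ^ (j + 2) + 1) =
    (q ^ 2 - 1) * (q ^ 3 + 1) * (q ^ 4 - 1) * (q ^ 5 + 1) * (q ^ 6 - 1) := by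
  rw [show 5 = 0 + 1 + 1 + 1 + 1 + 1 by norm_num]
  iterate 5 rw [Finset.prod_range_succ]
  rw [Finset.prod_range_zero, if_pos (by decide), if_neg (by decide), if_pos (by decide), if_neg (by decide),
    if_pos (by decide)]
  norm_num only [_root_.one_mul]

theorem dvd_su_six {q : ℕ} (hF : Fintype.card F = q ^ 2) (hq : ¬ 3 ∣ q) {n : ℕ} (hn : 6 ≤ n) :
    27 ∣ Nat.card (SU n F q) := by
  refine Dvd.dvd.trans ?_ (card_su_dvd hF hn)
  rw [card_su hF (by norm_num), show 6 - 1 = 5 by norm_num, prod_six]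
  refine (twenty_seven hq).trans ?_
  apply Dvd.intro (q ^ (6 * 5 / 2) * ((q ^ 3 + 1) * (q ^ 5 + 1)))
  ring

theorem dvd_sp_three (hq : ¬ 3 ∣ Fintype.card F) {n : ℕ} (hn : 3 ≤ n) :
    27 ∣ Nat.card (Matrix.symplecticGroup (Fin n) F) := by
  refine Dvd.dvd.trans ?_ (card_sp_dvd hn)
  rw [Cfsg.Agent.S0245.result (F := F) rfl 3]
  simp only [Finset.prod_range_succ, Finset.range_zero, Finset.prod_empty, one_mul, zero_add,
    Nat.reduceAdd, Nat.reduceMul]
  refine (twenty_seven hq).trans ?_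
  exact dvd_mul_left _ _

theorem q_of_sl_two (h : Nat.card (Matrix.SpecialLinearGroup (Fin 2) F) ∣ N0) : Fintype.card F ∈ [2, 3] := by
  apply qlist0 Fintype.isPrimePow_card_of_field
  rw [← H343.card_SL_two rfl]
  exact h.mul_left 2

theorem q_of_su_two {q : ℕ} (hF : Fintype.card F = q ^ 2) (h : Nat.card (SU 2 F q) ∣ N0) : q ∈ [2, 3] := by
  apply qlist0 (isPrimePow_of_sq hF)
  rw [← su_two_card hF]
  exact h.mul_left 2

/-! ### linear groups -/

theorem psl_cross {n : ℕ} (hn : 3 ≤ n) (hq : ¬ 3 ∣ Fintype.card F)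
    (h : E3 (Matrix.ProjectiveSpecialLinearGroup (Fin n) F)) : False := by
  have hF3 : Fact (Nat.Prime 3) := ⟨Nat.prime_three⟩
  have hq1 : 1 < Fintype.card F := Fintype.one_lt_card
  have h3F : ((3 : ℕ) : F) ≠ 0 := _root_.Cfsg.Agent.H128.Cross3.three_ne_zero' hq
  have hc := card_psl (F := F) (n := n) (by omega)
  have hX : Nat.card (Matrix.ProjectiveSpecialLinearGroup (Fin n) F) ≠ 0 := Nat.card_pos.ne'
  have hd : Nat.gcd n (Fintype.card F - 1) ≠ 0 := (Nat.gcd_pos_of_pos_left _ (by omega)).ne'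
  have hv := v_of hd hX hc
  have hvv := h.vv
  have hu := v_sq_pos hq1 hq
  have hq3 : Fintype.card F % 3 = 1 ∨ Fintype.card F % 3 = 2 := by omega
  have hne : ∀ j, j ≠ 0 → Fintype.card F ^ j - 1 ≠ 0 := fun j hj => pow_sub_ne hq1 hj
  have hp : ∀ j, Fintype.card F ^ j ≠ 0 := fun j => (pow_pos (by omega) j).ne'
  rcases hq3 with hq3 | hq3
  · -- `q ≡ 1`
    have h1 := h.le_of (psl_val_one (F := F) (n := n) (by omega) hq3)
    have hn6 : n ≤ 6 := by
      by_contra hcon
      have := vf_six (n := n) (by omega)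
      omega
    by_cases hn5 : 5 ≤ n
    · obtain ⟨k, rfl⟩ : ∃ k, n = k + 2 := ⟨n - 2, by omega⟩
      have h2 := h.pair (pslPair F (k := k) (l := 2) (by omega) (by norm_num)) (dvd_sl_three hq3 (by omega))
      have h3 := q_of_sl_two h2
      simp only [List.mem_cons, List.not_mem_nil, or_false] at h3
      omega
    · have hn34 : n = 3 ∨ n = 4 := by omega
      rcases hn34 with rfl | rfl
      · -- `L₃(q)`
        rw [show 3 - 1 = 1 + 1 by norm_num, Finset.prod_range_succ, Finset.prod_range_one] at hv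
        rw [padicValNat.mul (hp _) (mul_ne_zero (hne _ (by norm_num)) (hne _ (by norm_num))),
          padicValNat.mul (hne _ (by norm_num)) (hne _ (by norm_num)), v_pow_zero hq,
          v_one hq1 hq3 (show 1 + 2 ≠ 0 by norm_num)] at hv
        have hg : Nat.gcd 3 (Fintype.card F - 1) = 3 := Nat.gcd_eq_left (by omega)
        rw [hg] at hv
        have e1 : padicValNat 3 3 = 1 := by simp
        rw [e1] at hv
        simp only [zero_add] at hv
        rcases hvv with h5 | h6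
        · omega
        · have := h.six_le (hasAb_psl h3F 3) (h.six_of_vv h6)
          omega
      · rw [show 4 - 1 = 1 + 1 + 1 by norm_num, Finset.prod_range_succ, Finset.prod_range_succ, Finset.prod_range_one] at hv
        rw [padicValNat.mul (hp _) (mul_ne_zero (mul_ne_zero (hne _ (by norm_num)) (hne _ (by norm_num))) (hne _ (by norm_num))),
          padicValNat.mul (mul_ne_zero (hne _ (by norm_num)) (hne _ (by norm_num))) (hne _ (by norm_num)),
          padicValNat.mul (hne _ (by norm_num)) (hne _ (by norm_num)), v_pow_zero hq,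
          v_one hq1 hq3 (show 1 + 2 ≠ 0 by norm_num), v_one hq1 hq3 (show 1 + 1 + 2 ≠ 0 by norm_num)] at hv
        have hg : padicValNat 3 (Nat.gcd 4 (Fintype.card F - 1)) = 0 := by
          apply padicValNat.eq_zero_of_not_dvd
          intro h'
          have := h'.trans (Nat.gcd_dvd_left _ _)
          omega
        have e1 : padicValNat 3 (1 + 2) = 1 := by norm_num
        have e2 : padicValNat 3 (1 + 1 + 2) = 0 := padicValNat.eq_zero_of_not_dvd (by norm_num)
        rw [hg, e1, e2] at hv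
        simp only [zero_add, add_zero] at hv
        omega
  · -- `q ≡ 2`
    have h1 := h.le_of (psl_val_two (F := F) (n := n) (by omega) hq3)
    have h2 := h.three_le (hasAb_psl_half (by norm_num) h3F (by omega) n)
    have hn6 : n / 2 ≤ 5 := by
      by_contra hcon
      have := vf_six (n := n / 2) (by omega)
      omega
    by_cases hn8 : 8 ≤ n
    · have hq2 : Fintype.card F = 2 := by
        obtain ⟨k, rfl⟩ : ∃ k, n = k + 2 := ⟨n - 2, by omega⟩
        have h2 := h.pair (pslPair F (k := k) (l := 2) (by omega) (by norm_num)) (dvd_sl_six hq (by omega))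
        have h3 := q_of_sl_two h2
        simp only [List.mem_cons, List.not_mem_nil, or_false] at h3
        omega
      by_cases hn9 : 9 ≤ n
      · obtain ⟨k, rfl⟩ : ∃ k, n = k + 3 := ⟨n - 3, by omega⟩
        have h2 := h.pair (pslPair F (k := k) (l := 3) (by omega) (by norm_num)) (dvd_sl_six hq (by omega))
        rw [card_sl_three, hq2] at h2
        revert h2
        decide +kernel
      · have : n = 8 := by omega
        subst this
        have hF2 : Fact (Nat.Prime 2) := ⟨Nat.prime_two⟩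
        have h2 := Cfsg.Agent.S0813.result (F := F) 2 1 le_rfl (by rw [hq2, pow_one]) 8 (by norm_num) (fun h => by omega)
        have h3 := h.aut
        rw [h2, Cfsg.Agent.S0265.result, card_sl (by norm_num), hq2] at h3
        revert h3
        rw [if_neg (by norm_num), show 8 - 1 = 7 by norm_num]
        simp only [Finset.prod_range_succ, Finset.range_zero, Finset.prod_empty]
        decide +kernel
    · have hn67 : n = 6 ∨ n = 7 := by omega
      have hg : padicValNat 3 (Nat.gcd n (Fintype.card F - 1)) = 0 := by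
        apply padicValNat.eq_zero_of_not_dvd
        intro h'
        have := h'.trans (Nat.gcd_dvd_right _ _)
        omega
      have e3 : padicValNat 3 (Fintype.card F ^ 3 - 1) = 0 := v_two_zero hq3 (by decide)
      have e5 : padicValNat 3 (Fintype.card F ^ 5 - 1) = 0 := v_two_zero hq3 (by decide)
      have e7 : padicValNat 3 (Fintype.card F ^ 7 - 1) = 0 := v_two_zero hq3 (by decide)
      have e4 := v_even (k := 2) hq1 hq (by norm_num)
      have e6 := v_even (k := 3) hq1 hq (by norm_num)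
      rw [padicValNat.eq_zero_of_not_dvd (show ¬ 3 ∣ 2 by norm_num)] at e4
      rw [show padicValNat 3 3 = 1 by simp] at e6
      simp only [Nat.reduceMul] at e4 e6
      have n2 := hne 2 (by norm_num)
      have n3 := hne 3 (by norm_num)
      have n4 := hne 4 (by norm_num)
      have n5 := hne 5 (by norm_num)
      have n6 := hne 6 (by norm_num)
      have n7 := hne 7 (by norm_num)
      rw [hg, padicValNat.mul (hp _) (Finset.prod_ne_zero_iff.2 fun j _ => hne _ (by omega)), v_pow_zero hq] at hv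
      rcases hn67 with rfl | rfl
      · simp only [Nat.add_one_sub_one, Finset.prod_range_succ, Finset.range_zero, Finset.prod_empty, one_mul, zero_add,
          Nat.reduceAdd] at hv
        rw [padicValNat.mul (mul_ne_zero (mul_ne_zero (mul_ne_zero n2 n3) n4) n5) n6,
          padicValNat.mul (mul_ne_zero (mul_ne_zero n2 n3) n4) n5, padicValNat.mul (mul_ne_zero n2 n3) n4,
          padicValNat.mul n2 n3] at hv
        omega
      · simp only [Nat.add_one_sub_one, Finset.prod_range_succ, Finset.range_zero, Finset.prod_empty, one_mul, zero_add,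
          Nat.reduceAdd] at hv
        rw [padicValNat.mul (mul_ne_zero (mul_ne_zero (mul_ne_zero (mul_ne_zero n2 n3) n4) n5) n6) n7,
          padicValNat.mul (mul_ne_zero (mul_ne_zero (mul_ne_zero n2 n3) n4) n5) n6,
          padicValNat.mul (mul_ne_zero (mul_ne_zero n2 n3) n4) n5, padicValNat.mul (mul_ne_zero n2 n3) n4,
          padicValNat.mul n2 n3] at hv
        omega


/-! ### unitary groups -/

theorem psu_cross {n q : ℕ} (hF : Fintype.card F = q ^ 2) (hn : 3 ≤ n) (hq : ¬ 3 ∣ q) (h : E3 (PSU n F q)) :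
    n = 6 ∧ q = 2 := by
  have hF3 : Fact (Nat.Prime 3) := ⟨Nat.prime_three⟩
  have hqp := isPrimePow_of_sq hF
  have hq1 : 1 < q := hqp.one_lt
  have h3F : ((3 : ℕ) : F) ≠ 0 := _root_.Cfsg.Agent.H128.Cross3.three_ne_zero' (by rw [hF]; exact fun h' => hq (Nat.prime_three.dvd_of_dvd_pow h'))
  have hc := card_psu (F := F) (n := n) hF (by omega)
  have hX : Nat.card (PSU n F q) ≠ 0 := by
    have := h.fin
    exact Nat.card_pos.ne'
  have hd : Nat.gcd n (q + 1) ≠ 0 := (Nat.gcd_pos_of_pos_left _ (by omega)).ne'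
  have hv := v_of hd hX hc
  have hvv := h.vv
  have hu := v_sq_pos hq1 hq
  have hq3 : q % 3 = 1 ∨ q % 3 = 2 := by omega
  have hne : ∀ j, j ≠ 0 → q ^ j - 1 ≠ 0 := fun j hj => pow_sub_ne hq1 hj
  have hne' : ∀ j, q ^ j + 1 ≠ 0 := fun j => pow_add_ne
  have hp : ∀ j, q ^ j ≠ 0 := fun j => (pow_pos (by omega) j).ne'
  have hfac : ∀ j, (if Even j then q ^ (j + 2) - 1 else q ^ (j + 2) + 1) ≠ 0 := by
    intro j
    split_ifs
    · exact hne _ (by omega)
    · exact hne' _
  rcases hq3 with hq3 | hq3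
  · -- `q ≡ 1`
    exfalso
    have h1 := h.le_of (psu_val_one (F := F) hF (n := n) (by omega) hq3)
    have h2 := h.three_le (hasAb_psu_half (by norm_num) h3F hF (by omega) n)
    have hn6 : n / 2 ≤ 5 := by
      by_contra hcon
      have := vf_six (n := n / 2) (by omega)
      omega
    by_cases hn8 : 8 ≤ n
    · obtain ⟨k, rfl⟩ : ∃ k, n = k + 2 := ⟨n - 2, by omega⟩
      have h2 := h.pair (psuPair hF (k := k) (l := 2) (by omega) (by norm_num) (by omega)) (dvd_su_six hF hq (by omega))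
      have h3 := q_of_su_two hF h2
      simp only [List.mem_cons, List.not_mem_nil, or_false] at h3
      omega
    · have hn67 : n = 6 ∨ n = 7 := by omega
      have hg : padicValNat 3 (Nat.gcd n (q + 1)) = 0 := by
        apply padicValNat.eq_zero_of_not_dvd
        intro h'
        have := h'.trans (Nat.gcd_dvd_right _ _)
        omega
      have e3 : padicValNat 3 (q ^ 3 + 1) = 0 := v_one_zero hq3
      have e5 : padicValNat 3 (q ^ 5 + 1) = 0 := v_one_zero hq3
      have e7 : padicValNat 3 (q ^ 7 + 1) = 0 := v_one_zero hq3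
      have e4 := v_even (k := 2) hq1 hq (by norm_num)
      have e6 := v_even (k := 3) hq1 hq (by norm_num)
      rw [padicValNat.eq_zero_of_not_dvd (show ¬ 3 ∣ 2 by norm_num)] at e4
      rw [show padicValNat 3 3 = 1 by simp] at e6
      simp only [Nat.reduceMul] at e4 e6
      have n2 := hne 2 (by norm_num)
      have n3 := hne' 3
      have n4 := hne 4 (by norm_num)
      have n5 := hne' 5
      have n6 := hne 6 (by norm_num)
      have n7 := hne' 7
      rw [hg, padicValNat.mul (hp _) (Finset.prod_ne_zero_iff.2 fun j _ => hfac j), v_pow_zero hq] at hv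
      rcases hn67 with rfl | rfl
      · rw [show 6 - 1 = 5 by norm_num, prod_six,
          padicValNat.mul (mul_ne_zero (mul_ne_zero (mul_ne_zero n2 n3) n4) n5) n6,
          padicValNat.mul (mul_ne_zero (mul_ne_zero n2 n3) n4) n5, padicValNat.mul (mul_ne_zero n2 n3) n4,
          padicValNat.mul n2 n3] at hv
        omega
      · rw [show 7 - 1 = 5 + 1 by norm_num, Finset.prod_range_succ, prod_six, if_neg (by decide),
          padicValNat.mul (mul_ne_zero (mul_ne_zero (mul_ne_zero (mul_ne_zero n2 n3) n4) n5) n6) n7,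
          padicValNat.mul (mul_ne_zero (mul_ne_zero (mul_ne_zero n2 n3) n4) n5) n6,
          padicValNat.mul (mul_ne_zero (mul_ne_zero n2 n3) n4) n5, padicValNat.mul (mul_ne_zero n2 n3) n4,
          padicValNat.mul n2 n3, e7] at hv
        omega
  · -- `q ≡ 2`
    have h1 := h.le_of (psu_val_two (F := F) hF (n := n) (by omega) hq3)
    have hn6 : n ≤ 6 := by
      by_contra hcon
      have := vf_six (n := n) (by omega)
      omega
    by_cases hn5 : 5 ≤ n
    · have hq2 : q = 2 := by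
        obtain ⟨k, rfl⟩ : ∃ k, n = k + 2 := ⟨n - 2, by omega⟩
        have h2 := h.pair (psuPair hF (k := k) (l := 2) (by omega) (by norm_num) (by omega)) (dvd_su_three hF hq3 (by omega))
        have h3 := q_of_su_two hF h2
        simp only [List.mem_cons, List.not_mem_nil, or_false] at h3
        omega
      have hn56 : n = 5 ∨ n = 6 := by omega
      rcases hn56 with rfl | rfl
      · exfalso
        have hF2 : Fact (Nat.Prime 2) := ⟨Nat.prime_two⟩
        subst hq2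
        have h2 := Cfsg.Agent.S0815.result (F := F) 2 1 le_rfl (by rw [pow_one]) hF 5 (by norm_num) (fun h => by omega)
        have h3 := h.aut
        rw [show 5 - 1 = 3 + 1 by norm_num] at hc
        have h4 : ∏ j ∈ Finset.range (3 + 1), (if Even j then 2 ^ (j + 2) - 1 else 2 ^ (j + 2) + 1) = 3 * 9 * 15 * 33 := by
          decide +kernel
        rw [h4] at hc
        norm_num at hc
        rw [h2, hc] at h3
        revert h3
        decide +kernel
      · exact ⟨rfl, hq2⟩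
    · exfalso
      have hn34 : n = 3 ∨ n = 4 := by omega
      have e3 := v_two hq1 hq3 (show Odd 3 by decide)
      have e4 := v_even (k := 2) hq1 hq (by norm_num)
      rw [padicValNat.eq_zero_of_not_dvd (show ¬ 3 ∣ 2 by norm_num)] at e4
      rw [show padicValNat 3 3 = 1 by simp] at e3
      simp only [Nat.reduceMul] at e4
      have n2 := hne 2 (by norm_num)
      have n3 := hne' 3
      have n4 := hne 4 (by norm_num)
      rw [padicValNat.mul (hp _) (Finset.prod_ne_zero_iff.2 fun j _ => hfac j), v_pow_zero hq] at hv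
      rcases hn34 with rfl | rfl
      · rw [show 3 - 1 = 1 + 1 by norm_num, Finset.prod_range_succ, Finset.prod_range_one, if_pos (by decide),
          if_neg (by decide), show 0 + 2 = 2 by norm_num, show 1 + 2 = 3 by norm_num, padicValNat.mul n2 n3, e3] at hv
        have hg : Nat.gcd 3 (q + 1) = 3 := Nat.gcd_eq_left (by omega)
        have e1 : padicValNat 3 3 = 1 := by simp
        rw [hg, e1] at hv
        rcases hvv with h5 | h6
        · omega
        · have := h.six_le (hasAb_psu h3F 3 q) (h.six_of_vv h6)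
          omega
      · have hg : padicValNat 3 (Nat.gcd 4 (q + 1)) = 0 := by
          apply padicValNat.eq_zero_of_not_dvd
          intro h'
          have := h'.trans (Nat.gcd_dvd_left _ _)
          omega
        rw [show 4 - 1 = 1 + 1 + 1 by norm_num, Finset.prod_range_succ, Finset.prod_range_succ, Finset.prod_range_one,
          if_pos (by decide), if_neg (by decide), if_pos (by decide), show 0 + 2 = 2 by norm_num,
          show 1 + 2 = 3 by norm_num, show 1 + 1 + 2 = 4 by norm_num, padicValNat.mul (mul_ne_zero n2 n3) n4,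
          padicValNat.mul n2 n3, e3, e4, hg] at hv
        omega

/-! ### symplectic groups -/

theorem psp_cross {m : ℕ} (hm : 2 ≤ m) (hq : ¬ 3 ∣ Fintype.card F) (h : E3 (PSp m F)) : False := by
  have hF3 : Fact (Nat.Prime 3) := ⟨Nat.prime_three⟩
  have hq1 : 1 < Fintype.card F := Fintype.one_lt_card
  have h3F : ((3 : ℕ) : F) ≠ 0 := _root_.Cfsg.Agent.H128.Cross3.three_ne_zero' hq
  have hc := card_psp (F := F) (m := m) (by omega)
  have hX : Nat.card (PSp m F) ≠ 0 := by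
    have := h.fin
    exact Nat.card_pos.ne'
  have hd : Nat.gcd 2 (Fintype.card F - 1) ≠ 0 := (Nat.gcd_pos_of_pos_left _ (by omega)).ne'
  have hv := v_of hd hX hc
  have hvv := h.vv
  have hne : ∀ j, j ≠ 0 → Fintype.card F ^ j - 1 ≠ 0 := fun j hj => pow_sub_ne hq1 hj
  have hp : ∀ j, Fintype.card F ^ j ≠ 0 := fun j => (pow_pos (by omega) j).ne'
  have h1 := h.le_of (psp_val (F := F) (m := m) (by omega) hq)
  have h3 := h.three_le (hasAb_psp (by norm_num) h3F m)
  have hm6 : m ≤ 5 := by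
    by_contra hcon
    have := vf_six (n := m) (by omega)
    omega
  by_cases hm4 : 4 ≤ m
  · have hq2 : Fintype.card F = 2 := by
      obtain ⟨k, rfl⟩ : ∃ k, m = k + 1 := ⟨m - 1, by omega⟩
      have h2 := h.pair (Blk.pspPair F (k := k) (l := 1) (by omega) (by norm_num)) (dvd_sp_three hq (by omega))
      rw [Cfsg.Agent.S0245.result (F := F) rfl 1] at h2
      have h4 : Fintype.card F * (Fintype.card F ^ 2 - 1) ∣ 2 * N0 := by
        refine Dvd.dvd.mul_left ?_ _
        simpa only [_root_.one_pow, _root_.pow_one, _root_.Finset.range_one, _root_.Finset.prod_singleton, _root_.zero_add, _root_.mul_one] using h2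
      have h3 := qlist0 Fintype.isPrimePow_card_of_field h4
      simp only [List.mem_cons, List.not_mem_nil, or_false] at h3
      omega
    have hm45 : m = 4 ∨ m = 5 := by omega
    rcases hm45 with rfl | rfl
    · have hF2 : Fact (Nat.Prime 2) := ⟨Nat.prime_two⟩
      have h2 := Cfsg.Agent.S0814.result (F := F) 2 1 le_rfl (by rw [hq2, pow_one]) 4 (by norm_num) (fun h => by omega)
      have h3 := h.aut
      rw [hq2] at hc
      have h4 : ∏ i ∈ Finset.range 4, (2 ^ (2 * (i + 1)) - 1) = 3 * 15 * 63 * 255 := by decide +kernel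
      rw [h4] at hc
      norm_num at hc
      rw [h2, hc] at h3
      revert h3
      norm_num
    · have h2 := h.pair (Blk.pspPair F (k := 3) (l := 2) (by norm_num) (by norm_num)) (dvd_sp_three hq (by norm_num))
      rw [Cfsg.Agent.S0245.result (F := F) rfl 2, hq2] at h2
      revert h2
      decide +kernel
  · have : m = 3 := by omega
    subst this
    have e4 := v_even (k := 2) hq1 hq (by norm_num)
    have e6 := v_even (k := 3) hq1 hq (by norm_num)
    rw [padicValNat.eq_zero_of_not_dvd (show ¬ 3 ∣ 2 by norm_num)] at e4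
    rw [show padicValNat 3 3 = 1 by simp] at e6
    simp only [Nat.reduceMul] at e4 e6
    have n2 := hne 2 (by norm_num)
    have n4 := hne 4 (by norm_num)
    have n6 := hne 6 (by norm_num)
    have hg : padicValNat 3 (Nat.gcd 2 (Fintype.card F - 1)) = 0 := by
      apply padicValNat.eq_zero_of_not_dvd
      intro h'
      have := h'.trans (Nat.gcd_dvd_left _ _)
      omega
    rw [hg, padicValNat.mul (hp _) (Finset.prod_ne_zero_iff.2 fun j _ => hne _ (by omega)), v_pow_zero hq,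
      Finset.prod_range_succ, Finset.prod_range_succ, Finset.prod_range_one, show 2 * (0 + 1) = 2 by norm_num,
      show 2 * (1 + 1) = 4 by norm_num, show 2 * (2 + 1) = 6 by norm_num, padicValNat.mul (mul_ne_zero n2 n4) n6,
      padicValNat.mul n2 n4] at hv
    omega

end Fin

end Cfsg.Agent.H351.OE
end

-- part: H351/OE/Alt
section
/-!
# S3372: alternating groups and `PSL_2`
-/

set_option autoImplicit false
set_option linter.unusedSectionVars false
set_option linter.unusedVariables false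

namespace Cfsg.Agent.H351.OE

open Subgroup Cfsg H343 H128.Val3 H341.ThreeList H128.Cross3 H128.ClassicalAb Equiv

theorem psl_two_cross {F : Type} [Field F] [Fintype F] (hF : ¬ 3 ∣ Fintype.card F)
    (h : E3 (Matrix.ProjectiveSpecialLinearGroup (Fin 2) F)) : False := by
  have h3 : ((3 : ℕ) : F) ≠ 0 := _root_.Cfsg.Agent.H128.Cross3.three_ne_zero' hF
  have : Fact (Nat.Prime 3) := ⟨Nat.prime_three⟩
  have := h.three_le (hasAb_psl h3 2)
  omega

section Alt

/-- the first nine points -/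
def blk (n : ℕ) (h : 14 ≤ n) : Fin 9 ≃ {x : Fin n // x.val < 9} where
  toFun i := ⟨⟨i, by omega⟩, by simp⟩
  invFun x := ⟨x.1.1, x.2⟩
  left_inv i := rfl
  right_inv x := rfl

/-- five other points -/
def blk' (n : ℕ) (h : 14 ≤ n) : Fin 5 ≃ {x : Fin n // 9 ≤ x.val ∧ x.val < 14} where
  toFun i := ⟨⟨9 + i, by omega⟩, by simp; omega⟩
  invFun x := ⟨x.1.1 - 9, by omega⟩
  left_inv i := by ext; simp
  right_inv x := by
    obtain ⟨⟨x, hx⟩, h1, h2⟩ := x
    simp only at h1 h2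
    apply Subtype.ext
    apply Fin.ext
    change 9 + (x - 9) = x
    omega

theorem disj (n : ℕ) (h : 14 ≤ n) (a : Perm (Fin 9)) (b : Perm (Fin 5)) :
    Commute (a.extendDomain (blk n h)) (b.extendDomain (blk' n h)) := by
  apply Perm.Disjoint.commute
  intro x
  by_cases hx : x.val < 9
  · right
    exact Perm.extendDomain_apply_not_subtype _ _ (by omega)
  · left
    exact Perm.extendDomain_apply_not_subtype _ _ hx

theorem alt_big {n : ℕ} (hn : 14 ≤ n) (h : E3 (alternatingGroup (Fin n))) : False := by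
  let f : alternatingGroup (Fin 9) →* alternatingGroup (Fin n) :=
    ((Perm.extendDomainHom (blk n hn)).comp (alternatingGroup (Fin 9)).subtype).codRestrict _ (fun x => by
      rw [Perm.mem_alternatingGroup]
      change Perm.sign ((x : Perm (Fin 9)).extendDomain (blk n hn)) = 1
      rw [Perm.sign_extendDomain]
      exact Perm.mem_alternatingGroup.1 x.2)
  have hf : Function.Injective f := by
    intro x y hxy
    apply Subtype.ext
    apply Perm.extendDomainHom_injective (blk n hn)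
    exact congrArg Subtype.val hxy
  obtain ⟨c, hc⟩ : ∃ c : Perm (Fin n), c = (finRotate 5).extendDomain (blk' n hn) := ⟨_, rfl⟩
  have hcA : c ∈ alternatingGroup (Fin n) := by
    rw [Perm.mem_alternatingGroup, hc, Perm.sign_extendDomain, sign_finRotate]
    rfl
  have hco : orderOf c = 5 := by
    have h1 : orderOf (Perm.extendDomainHom (blk' n hn) (finRotate 5)) = orderOf (finRotate 5) :=
      orderOf_injective _ (Perm.extendDomainHom_injective (blk' n hn)) _
    rw [hc]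
    refine h1.trans ?_
    rw [isCycle_finRotate.orderOf, support_finRotate]
    simp
  obtain ⟨d, ⟨a, rfl⟩, -, hd⟩ := h.c27 f.range (by
    rw [← Nat.card_congr (MonoidHom.ofInjective hf).toEquiv]
    have h1 := Cfsg.Agent.OrdDiv.alt_card (n := 9) (by norm_num) (MulEquiv.refl (alternatingGroup (Fin 9)))
    have h2 : 27 ∣ 2 * Nat.card (alternatingGroup (Fin 9)) := by
      rw [← h1]; decide
    exact Nat.Coprime.dvd_of_dvd_mul_left (by norm_num) h2)
  have h5 : (⟨c, hcA⟩ : alternatingGroup (Fin n)) ∈ centralizer ({f a} : Set (alternatingGroup (Fin n))) := by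
    rw [mem_centralizer_singleton_iff]
    apply Subtype.ext
    change c * (a : Perm (Fin 9)).extendDomain (blk n hn) = (a : Perm (Fin 9)).extendDomain (blk n hn) * c
    rw [hc]
    exact (disj n hn a (finRotate 5)).eq.symm
  have h6 : orderOf (⟨c, hcA⟩ : alternatingGroup (Fin n)) ∣ N0 :=
    (Subgroup.orderOf_dvd_natCard _ h5).trans hd
  rw [← Subgroup.orderOf_coe] at h6
  change orderOf c ∣ N0 at h6
  rw [hco] at h6
  revert h6
  decide

theorem card_aut_alt {n : ℕ} (hn : 7 ≤ n) : Nat.card (MulAut (alternatingGroup (Fin n))) ∣ n.factorial := by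
  obtain ⟨ψ, hψ⟩ := Cfsg.Agent.StandardComponent.AltAut.exists_autHom n hn
  have hi : Function.Injective ψ := by
    intro a b hab
    ext1 x
    apply Subtype.ext
    rw [hψ, hψ, hab]
  have h1 : Nat.card ψ.range ∣ Nat.card (Perm (Fin n)) := Subgroup.card_subgroup_dvd_card _
  rw [← Nat.card_congr (MonoidHom.ofInjective hi).toEquiv] at h1
  rwa [Nat.card_perm, Nat.card_eq_fintype_card (α := Fin n), Fintype.card_fin] at h1

theorem elim_alt {n : ℕ} (hn : 5 ≤ n) (h : E3 (alternatingGroup (Fin n))) : False := by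
  rcases Nat.lt_or_ge n 14 with h14 | h14
  · rcases Nat.lt_or_ge n 7 with h7 | h7
    · have h1 := Cfsg.Agent.OrdDiv.alt_card hn (MulEquiv.refl (alternatingGroup (Fin n)))
      have h2 : 3 ^ 5 ∣ n.factorial := by rw [h1]; exact h.d5.mul_left 2
      have h3 := h2.trans (Nat.factorial_dvd_factorial h7.le)
      revert h3; decide
    · have h1 := h.aut.trans ((card_aut_alt h7).trans (Nat.factorial_dvd_factorial (show n ≤ 14 by omega)))
      revert h1; decide +kernel
  · exact alt_big h14 h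

end Alt

end Cfsg.Agent.H351.OE
end
end
end
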